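import Mathlib
import Cfsg.Prelude.Def_Classical

/-!
# S3366 team project (helper83): definitions and piece statements

S3366: a finite group `X` with `O_3(X)` extraspecial of order 27 and exponent 3, `X/O_3(X) ≅ SL(2,3)`,
`O_2(X) = 1` and an elementary abelian subgroup of order 27 is isomorphic to the centralizer in
`PSp(4,3)` of a 3-central element of order 3.

Hub: the model `M0 = Heis ⋊ SL(2,3)`, where `Heis = {(a, b, z)}` with
`(a,b,z)(a',b',z') = (a+a', b+b', z+z'+ab'-ba')` and `g ∈ SL(2,3)` acts by `(v, z) ↦ (g v, z)`.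
Abstract side: `X ≃* M0`.  Concrete side: `M0 ≃* Stab3` (stabilizer in `Sp(4,3)` of the vector `e0`)
and `Stab3 ≃* C_{PSp(4,3)}(c0)`, `c0` the image of the transvection `t0`.
-/

set_option autoImplicit false

namespace Cfsg.Agent.H83.PC

open Matrix

universe u v

/-- `SL(2,3)`. -/
abbrev SL23 : Type := Matrix.SpecialLinearGroup (Fin 2) (ZMod 3)

/-- The Heisenberg group of order 27 (extraspecial `3^{1+2}` of exponent 3). -/
@[ext] structure Heis : Type where
  a : ZMod 3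
  b : ZMod 3
  z : ZMod 3
deriving DecidableEq, Fintype

namespace Heis

instance : Mul Heis := ⟨fun x y => ⟨x.a + y.a, x.b + y.b, x.z + y.z + x.a * y.b - x.b * y.a⟩⟩
instance : One Heis := ⟨⟨0, 0, 0⟩⟩
instance : Inv Heis := ⟨fun x => ⟨-x.a, -x.b, -x.z⟩⟩

@[simp] theorem mul_a (x y : Heis) : (x * y).a = x.a + y.a := rfl
@[simp] theorem mul_b (x y : Heis) : (x * y).b = x.b + y.b := rfl
@[simp] theorem mul_z (x y : Heis) : (x * y).z = x.z + y.z + x.a * y.b - x.b * y.a := rfl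
@[simp] theorem one_a : (1 : Heis).a = 0 := rfl
@[simp] theorem one_b : (1 : Heis).b = 0 := rfl
@[simp] theorem one_z : (1 : Heis).z = 0 := rfl
@[simp] theorem inv_a (x : Heis) : x⁻¹.a = -x.a := rfl
@[simp] theorem inv_b (x : Heis) : x⁻¹.b = -x.b := rfl
@[simp] theorem inv_z (x : Heis) : x⁻¹.z = -x.z := rfl

instance : Group Heis where
  mul_assoc x y w := by
    ext
    · simp [add_assoc]
    · simp [add_assoc]
    · simp; ring
  one_mul x := by ext <;> simp
  mul_one x := by ext <;> simp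
  inv_mul_cancel x := by
    ext
    · simp
    · simp
    · simp; ring

end Heis

/-- The action of `g ∈ SL(2,3)` on `Heis`: `(v, z) ↦ (g v, z)`. -/
def actFun (g : SL23) (h : Heis) : Heis :=
  ⟨g.1 0 0 * h.a + g.1 0 1 * h.b, g.1 1 0 * h.a + g.1 1 1 * h.b, h.z⟩

@[simp] theorem actFun_a (g : SL23) (h : Heis) : (actFun g h).a = g.1 0 0 * h.a + g.1 0 1 * h.b := rfl
@[simp] theorem actFun_b (g : SL23) (h : Heis) : (actFun g h).b = g.1 1 0 * h.a + g.1 1 1 * h.b := rfl
@[simp] theorem actFun_z (g : SL23) (h : Heis) : (actFun g h).z = h.z := rfl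

theorem sl_det (g : SL23) : g.1 0 0 * g.1 1 1 - g.1 0 1 * g.1 1 0 = 1 := by
  have := g.2
  rwa [Matrix.det_fin_two] at this

theorem actFun_mul (g : SL23) (h k : Heis) : actFun g (h * k) = actFun g h * actFun g k := by
  have hd := sl_det g
  ext
  · simp; ring
  · simp; ring
  · simp only [actFun_z, Heis.mul_z, actFun_a, actFun_b]
    linear_combination (-(h.a * k.b) + h.b * k.a) * hd

theorem actFun_one (h : Heis) : actFun 1 h = h := by
  ext <;> simp [actFun]

theorem actFun_comp (g g' : SL23) (h : Heis) : actFun (g * g') h = actFun g (actFun g' h) := by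
  ext
  · simp [actFun, Matrix.mul_apply, Fin.sum_univ_two]; ring
  · simp [actFun, Matrix.mul_apply, Fin.sum_univ_two]; ring
  · rfl

/-- The action as a homomorphism to `MulAut Heis`. -/
def heisAct : SL23 →* MulAut Heis where
  toFun g :=
    { toFun := actFun g
      invFun := actFun g⁻¹
      left_inv := fun h => by rw [← actFun_comp, inv_mul_cancel, actFun_one]
      right_inv := fun h => by rw [← actFun_comp, mul_inv_cancel, actFun_one]
      map_mul' := actFun_mul g }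
  map_one' := by
    apply MulEquiv.ext
    intro h
    exact actFun_one h
  map_mul' g g' := by
    apply MulEquiv.ext
    intro h
    exact actFun_comp g g' h

@[simp] theorem heisAct_apply (g : SL23) (h : Heis) : heisAct g h = actFun g h := rfl

/-- The model group `3^{1+2} ⋊ SL(2,3)` of order 648. -/
abbrev M0 : Type := Heis ⋊[heisAct] SL23

/-- The vector `e0` (first basis vector). -/
def e0 : Fin 2 ⊕ Fin 2 → ZMod 3 := Pi.single (Sum.inl 0) 1

/-- The stabilizer of `e0` in `Sp(4,3)`. -/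
def Stab3 : Subgroup (Matrix.symplecticGroup (Fin 2) (ZMod 3)) where
  carrier := {g | g.1 *ᵥ e0 = e0}
  mul_mem' := by
    intro g h hg hh
    show (g * h).1 *ᵥ e0 = e0
    have : (g * h).1 = g.1 * h.1 := rfl
    rw [this, ← Matrix.mulVec_mulVec, hh, hg]
  one_mem' := by
    show (1 : Matrix.symplecticGroup (Fin 2) (ZMod 3)).1 *ᵥ e0 = e0
    have : (1 : Matrix.symplecticGroup (Fin 2) (ZMod 3)).1 = 1 := rfl
    rw [this, Matrix.one_mulVec]
  inv_mem' := by
    intro g hg
    show (g⁻¹).1 *ᵥ e0 = e0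
    have h1 : (g⁻¹).1 * g.1 = 1 := by
      have : (g⁻¹ * g).1 = (g⁻¹).1 * g.1 := rfl
      rw [← this, inv_mul_cancel]; rfl
    have hg' : g.1 *ᵥ e0 = e0 := hg
    calc (g⁻¹).1 *ᵥ e0 = (g⁻¹).1 *ᵥ (g.1 *ᵥ e0) := by rw [hg']
      _ = e0 := by rw [Matrix.mulVec_mulVec, h1, Matrix.one_mulVec]

theorem mem_Stab3 (g : Matrix.symplecticGroup (Fin 2) (ZMod 3)) : g ∈ Stab3 ↔ g.1 *ᵥ e0 = e0 :=
  Iff.rfl

/-- The transvection `1 + E_{(inl 0), (inr 0)}` in `Sp(4,3)`. -/
def t0 : Matrix.symplecticGroup (Fin 2) (ZMod 3) :=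
  ⟨Matrix.fromBlocks 1 (Matrix.diagonal ![1, 0]) 0 1, by
    rw [SymplecticGroup.fromBlocks_mem_iff]
    refine ⟨by simp, by simp, by simp⟩⟩

/-- Its image in `PSp(4,3)`. -/
def c0 : Cfsg.PSp 2 (ZMod 3) := QuotientGroup.mk t0

/-! ## Abstract side -/

/-- `z` lies in the centre of the subgroup `R`. -/
def IsZ {X : Type u} [Group X] (R : Subgroup X) (z : X) : Prop :=
  z ∈ R ∧ ∀ s ∈ R, z * s = s * z

/-- The hypotheses of S3366 in plain form: `R = O_3(X)` is non-abelian of order 27 and exponent 3,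
`f : X → SL(2,3)` is onto with kernel `R`, `R` contains every normal 3-subgroup, there is no
non-trivial normal 2-subgroup, and there is an elementary abelian subgroup of order 27. -/
def Hyp {X : Type u} [Group X] (R : Subgroup X) (f : X →* SL23) : Prop :=
  R.Normal ∧ Nat.card R = 27 ∧ (∀ r ∈ R, r ^ 3 = 1) ∧ (∃ a ∈ R, ∃ b ∈ R, a * b ≠ b * a) ∧
  Function.Surjective f ∧ f.ker = R ∧
  (∀ P : Subgroup X, P.Normal → IsPGroup 3 P → P ≤ R) ∧
  (∀ P : Subgroup X, P.Normal → IsPGroup 2 P → P = ⊥) ∧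
  (∃ E : Subgroup X, (∀ a ∈ E, ∀ b ∈ E, a * b = b * a) ∧ (∀ a ∈ E, a ^ 3 = 1) ∧ Nat.card E = 27)

/-- `t` is an involution mapping to `-1 ∈ SL(2,3)` that inverts `R` modulo its centre. -/
def IsInv {X : Type u} [Group X] (R : Subgroup X) (f : X →* SL23) (t : X) : Prop :=
  t * t = 1 ∧ (f t).1 = -1 ∧ ∀ r ∈ R, IsZ R (t * r * t⁻¹ * r)

/-- The structural data: `X = R ⋊ N`, `R` non-abelian of order 27 and exponent 3, `N` of order 24
with central involution `t` inverting `R` modulo its centre, `N` centralizing `Z(R)` and faithful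
on `R`. -/
def Data {X : Type u} [Group X] (R N : Subgroup X) (t : X) : Prop :=
  R.Normal ∧ Nat.card R = 27 ∧ (∀ r ∈ R, r ^ 3 = 1) ∧ (∃ a ∈ R, ∃ b ∈ R, a * b ≠ b * a) ∧
  Nat.card N = 24 ∧ R ⊓ N = ⊥ ∧ Nat.card X = 648 ∧ t ∈ N ∧ t ≠ 1 ∧ t * t = 1 ∧
  (∀ n ∈ N, n * t = t * n) ∧ (∀ r ∈ R, IsZ R (t * r * t⁻¹ * r)) ∧
  (∀ n ∈ N, ∀ z, IsZ R z → n * z = z * n) ∧ (∀ n ∈ N, (∀ r ∈ R, n * r = r * n) → n = 1)

/-- PC-INV: an involution over `-1` exists and inverts `R/Z(R)`. -/
def StInv : Prop :=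
  ∀ (X : Type u) [Group X] [Finite X] (R : Subgroup X) (f : X →* SL23), Hyp R f →
    ∃ t : X, IsInv R f t

/-- PC-ZC: `Z(R)` is central in `X`. -/
def StZC : Prop :=
  ∀ (X : Type u) [Group X] [Finite X] (R : Subgroup X) (f : X →* SL23), Hyp R f →
    ∀ x z : X, IsZ R z → x * z = z * x

/-- PC-CR: `C_X(R) ≤ R`. -/
def StCR : Prop :=
  ∀ (X : Type u) [Group X] [Finite X] (R : Subgroup X) (f : X →* SL23), Hyp R f →
    ∀ x : X, (∀ r ∈ R, x * r = r * x) → x ∈ R

/-- PC-Y: an element of order 3 outside `R` centralizing `t`. -/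
def StY : Prop :=
  ∀ (X : Type u) [Group X] [Finite X] (R : Subgroup X) (f : X →* SL23), Hyp R f →
    ∀ t : X, IsInv R f t → ∃ y : X, y * t = t * y ∧ y ∉ R ∧ y ^ 3 = 1

/-- PC-COMPL: the complement `N`. -/
def StCompl : Prop :=
  ∀ (X : Type u) [Group X] [Finite X] (R : Subgroup X) (f : X →* SL23), Hyp R f →
    ∀ t y : X, IsInv R f t → y * t = t * y → y ∉ R → y ^ 3 = 1 → ∃ N : Subgroup X, Data R N t

/-- PC-COORD: Heisenberg coordinates on `R` adapted to `t`. -/
def StCoord : Prop :=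
  ∀ (X : Type u) [Group X] [Finite X] (R N : Subgroup X) (t : X), Data R N t →
    ∃ α : Heis →* X, Function.Injective α ∧ α.range = R ∧
      ∀ h : Heis, t * α h * t⁻¹ = α ⟨-h.a, -h.b, h.z⟩

/-- PC-ISO: the isomorphism with the model. -/
def StIso : Prop :=
  ∀ (X : Type u) [Group X] [Finite X] (R N : Subgroup X) (t : X), Data R N t →
    ∀ α : Heis →* X, Function.Injective α → α.range = R →
      (∀ h : Heis, t * α h * t⁻¹ = α ⟨-h.a, -h.b, h.z⟩) → Nonempty (X ≃* M0)

/-! ## Concrete side -/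

/-- PC-CARD. -/
def StCard : Prop := Nat.card M0 = 648

/-- PC-STAB: the stabilizer of a vector in `Sp(4,3)` is the model. -/
def StStab : Prop := Nonempty (M0 ≃* ↥Stab3)

/-- PC-CENT: the centralizer of `c0` in `PSp(4,3)` is the image of `Stab3`. -/
def StCent : Prop :=
  orderOf c0 = 3 ∧
    Nonempty (↥Stab3 ≃* ↥(Subgroup.centralizer ({c0} : Set (Cfsg.PSp 2 (ZMod 3)))))

/-- PC-SYL: an element of order 3 with centralizer of order 648 in a group of order 25920 is
3-central. -/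
def StSyl : Prop :=
  ∀ (G : Type v) [Group G] [Finite G] (c : G), orderOf c = 3 →
    Nat.card ↥(Subgroup.centralizer ({c} : Set G)) = 648 → Nat.card G = 25920 →
    ∃ S : Sylow 3 G, c ∈ (S : Subgroup G) ∧ c ∈ Subgroup.centralizer ((S : Subgroup G) : Set G)

/-- PC-ORD: `|PSp(4,3)| = 25920`. -/
def StOrd : Prop :=
  ∀ (F : Type v) [Field F] [Fintype F], Fintype.card F = 3 → Nat.card (Cfsg.PSp 2 F) = 25920

/-- PC-TRANS: `PSp(4, ZMod 3) ≃* PSp(4, F)` for every field `F` with 3 elements. -/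
def StTrans : Prop :=
  ∀ (F : Type v) [Field F] [Fintype F], Fintype.card F = 3 →
    Nonempty (Cfsg.PSp 2 (ZMod 3) ≃* Cfsg.PSp 2 F)

end Cfsg.Agent.H83.PC
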