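import Mathlib
import Cfsg.Prelude.Def_Characters
import Cfsg.Agent.H78.FrobSchur5

/-!
# Parity of fixed-point multiplicities for symplectic characters (helper83)

* `exists_idem_factorization`: an idempotent matrix `E` factors as `E = P * Q` with `Q * P = 1`.
* `even_of_skew_idem`: if `M` is an invertible skew-symmetric matrix and `E` an idempotent with
  `Eᵀ * M = M * E`, then the trace (= rank) of `E` is even.
* `even_fixed_of_indicator_neg_one`: an irreducible character with Frobenius–Schur indicator `-1`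
  contains the trivial character of every subgroup with even multiplicity.
-/

set_option autoImplicit false
set_option linter.unusedSectionVars false
set_option linter.style.haveILetI false

namespace Cfsg.Agent.H83

open Matrix Module

section Linear

variable {n : ℕ}

/-- An idempotent matrix factors through its range. -/
theorem exists_idem_factorization (E : Matrix (Fin n) (Fin n) ℂ) (hE : E * E = E) :
    ∃ (m : ℕ) (P : Matrix (Fin n) (Fin m) ℂ) (Q : Matrix (Fin m) (Fin n) ℂ),
      P * Q = E ∧ Q * P = 1 := by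
  classical
  set f : (Fin n → ℂ) →ₗ[ℂ] (Fin n → ℂ) := Matrix.toLin' E with hf
  set p : Submodule ℂ (Fin n → ℂ) := LinearMap.range f with hp
  set b : Basis (Fin (finrank ℂ p)) ℂ p := Module.finBasis ℂ p with hb
  have hff : f ∘ₗ f = f := by
    rw [hf, ← Matrix.toLin'_mul, hE]
  have h1 : p.subtype ∘ₗ f.rangeRestrict = f := LinearMap.subtype_comp_codRestrict _ _ _
  have h2 : f.rangeRestrict ∘ₗ p.subtype = LinearMap.id := by
    ext ⟨v, hv⟩ : 1
    obtain ⟨w, rfl⟩ := hv
    apply Subtype.ext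
    show f (f w) = f w
    rw [← LinearMap.comp_apply, hff]
  refine ⟨finrank ℂ p, LinearMap.toMatrix b (Pi.basisFun ℂ (Fin n)) p.subtype,
    LinearMap.toMatrix (Pi.basisFun ℂ (Fin n)) b f.rangeRestrict, ?_, ?_⟩
  · rw [← LinearMap.toMatrix_comp, h1, LinearMap.toMatrix_eq_toMatrix', hf,
      LinearMap.toMatrix'_toLin']
  · rw [← LinearMap.toMatrix_comp, h2, LinearMap.toMatrix_id]

/-- If `M` is invertible and skew-symmetric and the idempotent `E` satisfies `Eᵀ * M = M * E`
(i.e. the range and kernel of `E` are orthogonal for the form `M`), then the rank of `E` —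
its trace — is even. -/
theorem even_of_skew_idem (M E : Matrix (Fin n) (Fin n) ℂ) (hM : IsUnit M) (hskew : Mᵀ = -M)
    (hE : E * E = E) (hME : Eᵀ * M = M * E) (m : ℕ) (htr : E.trace = (m : ℂ)) : Even m := by
  classical
  obtain ⟨m', P, Q, hPQ, hQP⟩ := exists_idem_factorization E hE
  have hmm : m = m' := by
    have h1 : E.trace = (m' : ℂ) := by
      rw [← hPQ, Matrix.trace_mul_comm, hQP, Matrix.trace_one, Fintype.card_fin]
    rw [htr] at h1
    exact_mod_cast h1
  subst hmm
  have hMdet : IsUnit M.det := (Matrix.isUnit_iff_isUnit_det M).mp hM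
  have hMM : M * M⁻¹ = 1 := Matrix.mul_nonsing_inv M hMdet
  set Γ : Matrix (Fin m) (Fin m) ℂ := Pᵀ * M * P with hΓ
  have hΓT : Γᵀ = -Γ := by
    rw [hΓ, Matrix.transpose_mul, Matrix.transpose_mul, Matrix.transpose_transpose, hskew]
    simp [Matrix.mul_assoc]
  have hinv : Γ * (Q * M⁻¹ * Qᵀ) = 1 := by
    calc Γ * (Q * M⁻¹ * Qᵀ) = Pᵀ * (M * (P * Q)) * M⁻¹ * Qᵀ := by
          rw [hΓ]; simp only [Matrix.mul_assoc]
      _ = Pᵀ * (Eᵀ * M) * M⁻¹ * Qᵀ := by rw [hPQ, hME]
      _ = Pᵀ * Eᵀ * (M * M⁻¹) * Qᵀ := by simp only [Matrix.mul_assoc]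
      _ = (Q * E * P)ᵀ := by
          rw [hMM, Matrix.mul_one, Matrix.transpose_mul, Matrix.transpose_mul]
          simp only [Matrix.mul_assoc]
      _ = (Q * P * (Q * P))ᵀ := by rw [← hPQ]; simp only [Matrix.mul_assoc]
      _ = 1 := by rw [hQP, Matrix.mul_one, Matrix.transpose_one]
  have hdet0 : Γ.det ≠ 0 := by
    intro h0
    have := congrArg Matrix.det hinv
    rw [Matrix.det_mul, h0, zero_mul, Matrix.det_one] at this
    exact zero_ne_one this
  have hdet : Γ.det = (-1) ^ m * Γ.det := by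
    conv_lhs => rw [← Matrix.det_transpose, hΓT, Matrix.det_neg, Fintype.card_fin]
  have hpow : ((-1 : ℂ)) ^ m = 1 := by
    have h3 : ((-1 : ℂ) ^ m - 1) * Γ.det = 0 := by
      rw [sub_mul, one_mul, ← hdet, sub_self]
    rcases mul_eq_zero.mp h3 with h4 | h4
    · exact sub_eq_zero.mp h4
    · exact absurd h4 hdet0
  rcases Nat.even_or_odd m with he | ho
  · exact he
  · exfalso
    rw [ho.neg_one_pow] at hpow
    norm_num at hpow

end Linear

section Rep

variable {G : Type*} [Group G] [Fintype G]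

open Cfsg.Agent.H78

/-- An irreducible character with Frobenius–Schur indicator `-1` contains the trivial character
of any subgroup with even multiplicity. -/
theorem even_fixed_of_indicator_neg_one (χ : Cfsg.IrrCharacter G)
    (hind : (Nat.card G : ℂ)⁻¹ * ∑ s : G, (χ : G → ℂ) (s * s) = -1) (H : Subgroup G) [Fintype H]
    (m : ℕ) (hm : (Nat.card H : ℂ)⁻¹ * ∑ h : H, (χ : G → ℂ) h = (m : ℂ)) : Even m := by
  classical
  obtain ⟨n, ρ, hirr, hχ⟩ := χ.2
  rw [← hχ] at hind hm
  have hreal : ∀ g, (ρ.character g).im = 0 := by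
    by_contra hne
    push Not at hne
    obtain ⟨s, hs⟩ := hne
    have := (frobSchur_indicator ρ hirr).2.mpr ⟨s, hs⟩
    rw [hind] at this
    norm_num at this
  obtain ⟨⟨M, hM0, hM⟩, hsym⟩ := frobSchur_real ρ hirr hreal
  have hMT : Mᵀ = -M := by rw [hsym M hM, hind, neg_one_smul]
  have hMu : IsUnit M := isUnit_of_mem_invForms ρ hirr hM hM0
  have hH0 : (Nat.card H : ℂ) ≠ 0 := by
    have : Nat.card H ≠ 0 := Nat.card_pos.ne'
    exact_mod_cast this
  obtain ⟨S, hS⟩ : ∃ S : Matrix (Fin n) (Fin n) ℂ, S = ∑ h : H, mat ρ (h : G) := ⟨_, rfl⟩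
  obtain ⟨E, hEdef⟩ : ∃ E : Matrix (Fin n) (Fin n) ℂ, E = (Nat.card H : ℂ)⁻¹ • S := ⟨_, rfl⟩
  have hSS : S * S = (Nat.card H : ℂ) • S := by
    have h1 : ∀ h : H, mat ρ (h : G) * S = S := by
      intro h
      rw [hS, Finset.mul_sum, ← Equiv.sum_comp (Equiv.mulLeft h) (fun k : H => mat ρ (k : G))]
      refine Finset.sum_congr rfl fun k _ => ?_
      rw [← mat_mul]
      rfl
    calc S * S = (∑ h : H, mat ρ (h : G)) * S := by rw [← hS]
      _ = ∑ h : H, mat ρ (h : G) * S := Finset.sum_mul _ _ _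
      _ = ∑ _h : H, S := Finset.sum_congr rfl (fun h _ => h1 h)
      _ = (Nat.card H : ℂ) • S := by
          rw [Finset.sum_const, Finset.card_univ, Nat.card_eq_fintype_card,
            Nat.cast_smul_eq_nsmul]
  have hEE : E * E = E := by
    rw [hEdef, Matrix.smul_mul, Matrix.mul_smul, hSS, smul_smul, smul_smul]
    congr 1
    field_simp
  have hEM : Eᵀ * M = M * E := by
    rw [hEdef, Matrix.transpose_smul, Matrix.smul_mul, Matrix.mul_smul, hS, Matrix.transpose_sum,
      Finset.sum_mul, Finset.mul_sum]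
    congr 1
    rw [← Equiv.sum_comp (Equiv.inv H) (fun h : H => M * mat ρ (h : G))]
    refine Finset.sum_congr rfl fun h _ => ?_
    have := invForms_intertwine ρ hM ((h : G)⁻¹)
    rw [inv_inv] at this
    simpa using this.symm
  have htr : E.trace = (m : ℂ) := by
    rw [hEdef, Matrix.trace_smul, hS, Matrix.trace_sum, smul_eq_mul, ← hm]
    congr 1
    exact Finset.sum_congr rfl fun h _ => trace_mat ρ _
  exact even_of_skew_idem M E hMu hMT hEE hEM m htr

end Rep

end Cfsg.Agent.H83
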