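import Mathlib
import Cfsg.Prelude.Def_Blocks
import Cfsg.Agent.H82.Irr
import Cfsg.Agent.H4.IrrCount

/-!
# Class-product counting formula (team piece S0420-SC3, helper83)

For `a b c : G`, the number of `g ~ a` with `g * b ~ c` is given by the usual character sum
`|G| / (|C(a)| |C(c)|) * ∑_χ χ(a) χ(b) conj(χ(c)) / χ(1)`.
-/

set_option autoImplicit false

namespace Cfsg.Agent.H83.ClassProd

open Subgroup
open scoped ComplexConjugate

/-- The solutions `w` of `w * y * w⁻¹ = c` form a left coset of the centralizer of `y`. -/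
theorem card_conj_left {G : Type*} [Group G] (y c w0 : G) (h : w0 * y * w0⁻¹ = c) :
    Nat.card {w : G // w * y * w⁻¹ = c} = Nat.card (centralizer ({y} : Set G)) := by
  refine Nat.card_congr ⟨fun w => ⟨w0⁻¹ * w.1, ?_⟩, fun z => ⟨w0 * z.1, ?_⟩, ?_, ?_⟩
  · rw [mem_centralizer_iff]
    intro x hx
    rw [Set.mem_singleton_iff] at hx
    subst hx
    have hw : w.1 * x * w.1⁻¹ = w0 * x * w0⁻¹ := w.2.trans h.symm
    calc x * (w0⁻¹ * w.1) = w0⁻¹ * (w0 * x * w0⁻¹) * w.1 := by group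
      _ = w0⁻¹ * (w.1 * x * w.1⁻¹) * w.1 := by rw [hw]
      _ = w0⁻¹ * w.1 * x := by group
  · have hz := mem_centralizer_iff.mp z.2 y (Set.mem_singleton y)
    calc w0 * z.1 * y * (w0 * z.1)⁻¹ = w0 * (z.1 * y) * z.1⁻¹ * w0⁻¹ := by group
      _ = w0 * (y * z.1) * z.1⁻¹ * w0⁻¹ := by rw [hz]
      _ = w0 * y * w0⁻¹ := by group
      _ = c := h
  · intro w
    apply Subtype.ext
    show w0 * (w0⁻¹ * w.1) = w.1
    group
  · intro z
    apply Subtype.ext
    show w0⁻¹ * (w0 * z.1) = z.1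
    group

/-- The solutions `w` of `w * y * w⁻¹ = c` form a right coset of the centralizer of `c`. -/
theorem card_conj_right {G : Type*} [Group G] (y c w0 : G) (h : w0 * y * w0⁻¹ = c) :
    Nat.card {w : G // w * y * w⁻¹ = c} = Nat.card (centralizer ({c} : Set G)) := by
  refine Nat.card_congr ⟨fun w => ⟨w.1 * w0⁻¹, ?_⟩, fun z => ⟨z.1 * w0, ?_⟩, ?_, ?_⟩
  · rw [mem_centralizer_iff]
    intro x hx
    rw [Set.mem_singleton_iff] at hx
    rw [hx]
    calc c * (w.1 * w0⁻¹) = (w.1 * y * w.1⁻¹) * (w.1 * w0⁻¹) := by rw [w.2]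
      _ = w.1 * w0⁻¹ * (w0 * y * w0⁻¹) := by group
      _ = w.1 * w0⁻¹ * c := by rw [h]
  · have hz := mem_centralizer_iff.mp z.2 c (Set.mem_singleton c)
    calc z.1 * w0 * y * (z.1 * w0)⁻¹ = z.1 * (w0 * y * w0⁻¹) * z.1⁻¹ := by group
      _ = z.1 * c * z.1⁻¹ := by rw [h]
      _ = c * z.1 * z.1⁻¹ := by rw [hz]
      _ = c := by group
  · intro w
    apply Subtype.ext
    show w.1 * w0⁻¹ * w0 = w.1
    group
  · intro z
    apply Subtype.ext
    show z.1 * w0 * w0⁻¹ = z.1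
    group

/-- Fibre count: the `u` with `u a u⁻¹ b ~ c` are `|C(a)|` times the `g ~ a` with `g b ~ c`. -/
theorem card_conj_fiber {G : Type*} [Group G] [Finite G] (a b c : G) :
    Nat.card {u : G // IsConj (u * a * u⁻¹ * b) c} =
      Nat.card {g : G // IsConj g a ∧ IsConj (g * b) c} *
        Nat.card (centralizer ({a} : Set G)) := by
  classical
  have : Fintype G := Fintype.ofFinite G
  have e : {u : G // IsConj (u * a * u⁻¹ * b) c} ≃
      Σ g : {g : G // IsConj g a ∧ IsConj (g * b) c}, {u : G // u * a * u⁻¹ = g.1} :=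
    { toFun := fun u => ⟨⟨u.1 * a * u.1⁻¹, ⟨isConj_iff.mpr ⟨u.1⁻¹, by group⟩, u.2⟩⟩, ⟨u.1, rfl⟩⟩
      invFun := fun x => ⟨x.2.1, by rw [x.2.2]; exact x.1.2.2⟩
      left_inv := fun u => rfl
      right_inv := by
        rintro ⟨⟨g, hg⟩, ⟨u, hu⟩⟩
        dsimp only at hu
        subst hu
        rfl }
  rw [Nat.card_congr e, Nat.card_sigma]
  have hf : ∀ g : {g : G // IsConj g a ∧ IsConj (g * b) c},
      Nat.card {u : G // u * a * u⁻¹ = g.1} = Nat.card (centralizer ({a} : Set G)) := by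
    intro g
    obtain ⟨w0, hw0⟩ := isConj_iff.mp g.2.1.symm
    exact card_conj_left a g.1 w0 hw0
  rw [Finset.sum_congr rfl (fun g _ => hf g), Finset.sum_const, Finset.card_univ, smul_eq_mul,
    ← Nat.card_eq_fintype_card]

theorem class_product_count {G : Type*} [Group G] [Finite G] (a b c : G) :
    (Nat.card {g : G // IsConj g a ∧ IsConj (g * b) c} : ℂ) *
      (Nat.card (centralizer ({a} : Set G)) : ℂ) * (Nat.card (centralizer ({c} : Set G)) : ℂ) =
    (Nat.card G : ℂ) * ∑ᶠ χ : Cfsg.IrrCharacter G,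
      (χ : G → ℂ) a * (χ : G → ℂ) b * conj ((χ : G → ℂ) c) / (χ : G → ℂ) 1 := by
  classical
  have : Fintype G := Fintype.ofFinite G
  let _ := Cfsg.Agent.H4.fintypeIrr G
  rw [Cfsg.Agent.H4.finsum_irr_eq_sum]
  have hG : (Nat.card G : ℂ) ≠ 0 := by
    exact_mod_cast (Nat.card_pos (α := G)).ne'
  have h1 : ∀ χ : Cfsg.IrrCharacter G,
      (Nat.card G : ℂ) ^ 2 *
          ((χ : G → ℂ) a * (χ : G → ℂ) b * conj ((χ : G → ℂ) c) / (χ : G → ℂ) 1) =
        ∑ u : G, ∑ v : G,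
          (χ : G → ℂ) (u * a * u⁻¹ * (v * b * v⁻¹)) * conj ((χ : G → ℂ) c) := by
    intro χ
    have e := Cfsg.Agent.H82.irr_sum_sum χ a b
    calc (Nat.card G : ℂ) ^ 2 *
          ((χ : G → ℂ) a * (χ : G → ℂ) b * conj ((χ : G → ℂ) c) / (χ : G → ℂ) 1)
        = (∑ u : G, ∑ v : G, (χ : G → ℂ) (u * a * u⁻¹ * (v * b * v⁻¹))) *
            conj ((χ : G → ℂ) c) := by
          rw [e]; ring
      _ = _ := by
          rw [Finset.sum_mul]
          refine Finset.sum_congr rfl fun u _ => ?_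
          rw [Finset.sum_mul]
  have h2 : ∀ y : G, ∑ χ : Cfsg.IrrCharacter G, (χ : G → ℂ) y * conj ((χ : G → ℂ) c) =
      (Nat.card (centralizer ({c} : Set G)) : ℂ) * (if IsConj y c then (1 : ℂ) else 0) := by
    intro y
    have e := Cfsg.Agent.H4.column_orthogonality y c
    rw [Cfsg.Agent.H4.finsum_irr_eq_sum] at e
    rw [e]
    split_ifs with hc
    · obtain ⟨w0, hw0⟩ := isConj_iff.mp hc
      rw [card_conj_right y c w0 hw0, mul_one]
    · have hemp : IsEmpty {w : G // w * y * w⁻¹ = c} :=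
        ⟨fun w => hc (isConj_iff.mpr ⟨w.1, w.2⟩)⟩
      rw [Nat.card_of_isEmpty]
      simp
  have h3 : ∀ v : G,
      ∑ u : G, (if IsConj (u * a * u⁻¹ * (v * b * v⁻¹)) c then (1 : ℂ) else 0) =
        (Nat.card {u : G // IsConj (u * a * u⁻¹ * b) c} : ℂ) := by
    intro v
    rw [← Equiv.sum_comp (Equiv.mulLeft v)]
    have hiff : ∀ u' : G, IsConj ((v * u') * a * (v * u')⁻¹ * (v * b * v⁻¹)) c ↔
        IsConj (u' * a * u'⁻¹ * b) c := by
      intro u'
      have hc : IsConj (u' * a * u'⁻¹ * b) ((v * u') * a * (v * u')⁻¹ * (v * b * v⁻¹)) :=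
        isConj_iff.mpr ⟨v, by group⟩
      exact ⟨fun h => hc.trans h, fun h => hc.symm.trans h⟩
    simp only [Equiv.coe_mulLeft, hiff]
    rw [Nat.card_eq_fintype_card, Fintype.card_subtype]
    simp
  have key : (Nat.card G : ℂ) ^ 2 * ∑ χ : Cfsg.IrrCharacter G,
      (χ : G → ℂ) a * (χ : G → ℂ) b * conj ((χ : G → ℂ) c) / (χ : G → ℂ) 1 =
      (Nat.card (centralizer ({c} : Set G)) : ℂ) * ((Nat.card G : ℂ) *
        (Nat.card {u : G // IsConj (u * a * u⁻¹ * b) c} : ℂ)) := by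
    rw [Finset.mul_sum, Finset.sum_congr rfl (fun χ _ => h1 χ), Finset.sum_comm]
    have h5 : ∀ u : G, ∑ χ : Cfsg.IrrCharacter G, ∑ v : G,
        (χ : G → ℂ) (u * a * u⁻¹ * (v * b * v⁻¹)) * conj ((χ : G → ℂ) c) =
        ∑ v : G, (Nat.card (centralizer ({c} : Set G)) : ℂ) *
          (if IsConj (u * a * u⁻¹ * (v * b * v⁻¹)) c then (1 : ℂ) else 0) := by
      intro u
      rw [Finset.sum_comm]
      exact Finset.sum_congr rfl fun v _ => h2 _
    rw [Finset.sum_congr rfl (fun u _ => h5 u), Finset.sum_comm]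
    simp only [← Finset.mul_sum]
    rw [Finset.sum_congr rfl (fun v _ => h3 v), Finset.sum_const, Finset.card_univ,
      nsmul_eq_mul, ← Nat.card_eq_fintype_card]
  rw [card_conj_fiber a b c] at key
  push_cast at key
  have key2 : (Nat.card G : ℂ) * ((Nat.card G : ℂ) * ∑ χ : Cfsg.IrrCharacter G,
      (χ : G → ℂ) a * (χ : G → ℂ) b * conj ((χ : G → ℂ) c) / (χ : G → ℂ) 1) =
      (Nat.card G : ℂ) * ((Nat.card {g : G // IsConj g a ∧ IsConj (g * b) c} : ℂ) *
      (Nat.card (centralizer ({a} : Set G)) : ℂ) * (Nat.card (centralizer ({c} : Set G)) : ℂ)) := by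
    rw [← mul_assoc, ← pow_two, key]
    ring
  exact (mul_left_cancel₀ hG key2).symm

end Cfsg.Agent.H83.ClassProd
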