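import Mathlib
import Cfsg.Prelude.Def_Characters
import Cfsg.Agent.H82.CanonExt
import Cfsg.Agent.Lib.ItoConv

/-!
# Degrees over a normal subgroup with `2`-power index (helper83)

* `degree_of_prime_index`: for `M ⊴ G` of prime index `p`, `χ ∈ Irr(G)` over `θ ∈ Irr(M)` has
  `χ(1) = θ(1)` or `χ(1) = p θ(1)`.
* `degree_over_mult`: `χ(1) = [G : I_G(θ)] · e · θ(1)` with `e = [χ|N, θ]`.
* `degree_pow_two`: if `[G : N] = 2^k` then `χ(1) = 2^j θ(1)` for `χ` over `θ`.
* `mult_eq_pow_two`: in that situation the multiplicity `[χ|N, θ]` is a power of `2`.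
-/

set_option autoImplicit false
set_option linter.unusedSectionVars false
set_option linter.style.haveILetI false

namespace Cfsg.Agent.H83

open Cfsg Cfsg.Agent.H4 Cfsg.Agent.Clifford Cfsg.Agent.H82
open scoped ComplexConjugate

universe u

section PowDeg

/-- Over a normal subgroup of prime index `p`, the degree of an irreducible character is the
degree of a constituent of its restriction, or `p` times it. -/
theorem degree_of_prime_index {G : Type u} [Group G] [Fintype G] (M : Subgroup G)
    [hM : M.Normal] [Fintype M] {p : ℕ} (hp : p.Prime) (hidx : M.index = p) {χ : G → ℂ}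
    (hχ : IsIrrCharacter G χ) {θ : M → ℂ} (hθ : IsIrrCharacter M θ)
    (h1 : classInner (fun n : M => χ n) θ ≠ 0) :
    charDegree χ = charDegree θ ∨ charDegree χ = p * charDegree θ := by
  classical
  have hχc : IsCharacter G χ := isCharacter_of_isIrrCharacter hχ
  have hθcf : IsClassFunction M θ :=
    isClassFunction_of_isCharacter (isCharacter_of_isIrrCharacter hθ)
  by_cases hI : Clifford.inertia M θ = ⊤
  · left
    have hinv : ∀ (g : G) (n : M), θ ⟨g * n * g⁻¹, hM.conj_mem (n : G) n.2 g⟩ = θ n := by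
      intro g
      have hg : g ∈ Clifford.inertia M θ := by rw [hI]; exact Subgroup.mem_top g
      exact (mem_inertia_iff M).mp hg
    obtain ⟨χ₀, hχ₀, hext⟩ := exists_extension_of_cyclic M
      (isCyclic_quotient_of_index_prime M hp hidx) θ hθ hinv
    obtain ⟨f, hfM, -, hχeq⟩ := exists_linear_twist M hp hidx hθ hinv hχ₀ hχ hext h1
    apply charDegree_eq_of_one_eq
    rw [hχeq]
    show ((f 1 : ℂˣ) : ℂ) * χ₀ 1 = θ 1
    have := hext 1
    rw [map_one, Units.val_one, one_mul]
    simpa using this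
  · right
    have hle : M ≤ Clifford.inertia M θ := le_inertia M hθcf
    have hmul := Subgroup.relIndex_mul_index hle
    rw [hidx] at hmul
    have hI1 : (Clifford.inertia M θ).index ≠ 1 := fun h => hI (Subgroup.index_eq_one.mp h)
    have hrel : M.relIndex (Clifford.inertia M θ) = 1 := by
      have hd : (Clifford.inertia M θ).index ∣ p := Dvd.intro_left _ hmul
      rcases (Nat.dvd_prime hp).mp hd with h | h
      · exact absurd h hI1
      · rw [h] at hmul
        have hp0 : 0 < p := hp.pos
        exact Nat.eq_of_mul_eq_mul_right hp0 (by rw [hmul, one_mul])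
    have hIM : Clifford.inertia M θ ≤ M := Subgroup.relIndex_eq_one.mp hrel
    have hT : M = Clifford.inertia M θ := le_antisymm hle hIM
    have h1' : classInner (fun n : M => θ ⟨n, (le_refl M) n.2⟩) θ ≠ 0 := by
      have : (fun n : M => θ ⟨n, (le_refl M) n.2⟩) = θ := rfl
      rw [this, classInner_irr_irr hθ hθ, if_pos rfl]
      exact one_ne_zero
    obtain ⟨hind, -⟩ := clifford_corr_irr hθ (le_refl M) hT hθ h1'
    have hne : classInner (indFun M θ) χ ≠ 0 := by
      rw [frobenius_reciprocity M θ χ (isClassFunction_of_isCharacter hχc)]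
      intro h0
      apply h1
      rw [← classInner_conj_symm, h0, map_zero]
    have heq : indFun M θ = χ := eq_of_classInner_ne_zero hind hχ hne
    have h1v : χ 1 = (p : ℂ) * θ 1 := by
      rw [← heq, indFun_one, hidx]
    have hθ1 := irr_one_eq_charDegree ⟨θ, hθ⟩
    have hχ1 := irr_one_eq_charDegree ⟨χ, hχ⟩
    simp only at hθ1 hχ1
    rw [hθ1, hχ1] at h1v
    exact_mod_cast h1v

/-- Degrees in Clifford theory with the multiplicity made explicit:
`χ(1) = [G : T] · e · θ(1)` with `T` the inertia group of `θ` and `e = [χ|N, θ]`. -/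
theorem degree_over_mult {G : Type u} [Group G] [Fintype G] (N : Subgroup G) [hN : N.Normal]
    [Fintype N] (θ : IrrCharacter N) (χ : IrrCharacter G) (f : ℕ)
    (hf : classInner (fun n : N => χ.1 n) θ.1 = (f : ℂ)) (hf0 : f ≠ 0) :
    charDegree χ.1 = (Clifford.inertia N θ.1).index * f * charDegree θ.1 := by
  classical
  haveI : Fintype (Clifford.inertia N θ.1) := Fintype.ofFinite _
  have h : classInner (fun n : N => χ.1 n) θ.1 ≠ 0 := by
    rw [hf]; exact_mod_cast hf0
  have hNT : N ≤ Clifford.inertia N θ.1 :=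
    le_inertia N (isClassFunction_of_isCharacter (isCharacter_of_isIrrCharacter θ.2))
  obtain ⟨ψ, hψ, hind, hc⟩ := clifford_corr_surj θ.2 hNT rfl χ.2 h
  have hc' : classInner (fun n : N => ψ ⟨n, hNT n.2⟩) θ.1 ≠ 0 := by rw [hc]; exact h
  have hres := res_eq_smul_of_le_inertia θ.2 hNT le_rfl hψ hc'
  rw [hc, hf] at hres
  have h1 : χ.1 1 = ((Clifford.inertia N θ.1).index : ℂ) * ψ 1 := by rw [← hind, indFun_one_eq]
  have h2 : ψ 1 = (f : ℂ) * θ.1 1 := by
    have h3 := congrFun hres 1
    simp only [Pi.smul_apply, smul_eq_mul] at h3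
    rw [← h3]
    rfl
  have h3 : ((charDegree χ.1 : ℕ) : ℂ) =
      (((Clifford.inertia N θ.1).index * f * charDegree θ.1 : ℕ) : ℂ) := by
    rw [← Cfsg.Agent.H82.irr_one_eq_charDegree χ]
    push_cast
    rw [← Cfsg.Agent.H82.irr_one_eq_charDegree θ, h1, h2]
    ring
  exact_mod_cast h3

/-- If `[G : N] = 2^k` and `χ ∈ Irr(G)` lies over `φ ∈ Irr(N)`, then `χ(1) / φ(1)` is a power
of `2`. -/
theorem degree_pow_two_aux : ∀ (k : ℕ) (G : Type u) [Group G] [Fintype G] (N : Subgroup G)
    [N.Normal] [Fintype N], N.index = 2 ^ k → ∀ (χ : G → ℂ) (φ : N → ℂ), IsIrrCharacter G χ →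
    IsIrrCharacter N φ → classInner (fun n : N => χ n) φ ≠ 0 →
    ∃ j : ℕ, charDegree χ = 2 ^ j * charDegree φ := by
  intro k
  induction k with
  | zero =>
    intro G _ _ N _ _ hk χ φ hχ hφ h
    have hN : N = ⊤ := Subgroup.index_eq_one.mp (by simpa using hk)
    refine ⟨0, ?_⟩
    rw [pow_zero, one_mul]
    have hres : IsIrrCharacter N (fun n : N => χ n) := by
      obtain ⟨e, he⟩ : ∃ e : N ≃* G, ∀ n : N, e n = (n : G) :=
        ⟨(MulEquiv.subgroupCongr hN).trans Subgroup.topEquiv, fun n => rfl⟩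
      have := isIrrCharacter_comp_equiv e hχ
      simpa only [he] using this
    have heq := eq_of_classInner_ne_zero hres hφ h
    apply charDegree_eq_of_one_eq
    have h1 := congrFun heq 1
    simpa using h1
  | succ k ih =>
    intro G _ _ N _ _ hk χ φ hχ hφ h
    classical
    obtain ⟨M, hMn, hNM, hMidx⟩ : ∃ M : Subgroup G, M.Normal ∧ N ≤ M ∧ M.index = 2 := by
      have hcard : Nat.card (G ⧸ N) = 2 ^ (k + 1) := by rw [← Subgroup.index_eq_card, hk]
      obtain ⟨K, hK⟩ := Sylow.exists_subgroup_card_pow_prime (G := G ⧸ N) 2 (n := k)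
        (by rw [hcard]; exact pow_dvd_pow 2 (Nat.le_succ k))
      have hKidx : K.index = 2 := by
        have := Subgroup.card_mul_index K
        rw [hK, hcard, pow_succ] at this
        exact Nat.eq_of_mul_eq_mul_left (by positivity) this
      refine ⟨K.comap (QuotientGroup.mk' N), ?_, ?_, ?_⟩
      · haveI := Subgroup.normal_of_index_eq_two hKidx
        infer_instance
      · intro n hn
        rw [Subgroup.mem_comap]
        have : (QuotientGroup.mk' N) n = 1 := by
          rw [QuotientGroup.mk'_apply, QuotientGroup.eq_one_iff]; exact hn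
        rw [this]; exact K.one_mem
      · rw [Subgroup.index_comap_of_surjective K (QuotientGroup.mk'_surjective N), hKidx]
    haveI := hMn
    haveI : Fintype M := Fintype.ofFinite M
    haveI : Fintype (N.subgroupOf M) := Fintype.ofFinite _
    have hrel : (N.subgroupOf M).index = 2 ^ k := by
      have := Subgroup.relIndex_mul_index hNM
      rw [hMidx, hk, pow_succ] at this
      exact Nat.eq_of_mul_eq_mul_right (by norm_num) this
    let e : N.subgroupOf M ≃* N := Subgroup.subgroupOfEquivOfLe hNM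
    have hφ' : IsIrrCharacter (N.subgroupOf M) (fun x => φ (e x)) :=
      isIrrCharacter_comp_equiv e hφ
    have hχM : IsCharacter M (fun m : M => χ m) :=
      isCharacter_restrict M (isCharacter_of_isIrrCharacter hχ)
    have hexp := classInner_comp_expand (isClassFunction_of_isCharacter hχM)
      (fun x : N.subgroupOf M => (x : M)) (fun x => φ (e x))
    have hL : classInner (fun x : N.subgroupOf M => (fun m : M => χ m) (x : M))
        (fun x => φ (e x)) = classInner (fun n : N => χ n) φ :=
      classInner_comp_equiv e (fun n : N => χ n) φ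
    rw [hL] at hexp
    have hne : ∑ᶠ ξ : IrrCharacter M, classInner (fun m : M => χ m) ξ.1 *
        classInner (fun x : N.subgroupOf M => ξ.1 (x : M)) (fun x => φ (e x)) ≠ 0 := by
      rw [← hexp]; exact h
    obtain ⟨ξ, hξ⟩ : ∃ ξ : IrrCharacter M, classInner (fun m : M => χ m) ξ.1 *
        classInner (fun x : N.subgroupOf M => ξ.1 (x : M)) (fun x => φ (e x)) ≠ 0 := by
      by_contra hall
      push Not at hall
      exact hne (finsum_eq_zero_of_forall_eq_zero hall)
    have hξ1 : classInner (fun m : M => χ m) ξ.1 ≠ 0 := left_ne_zero_of_mul hξ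
    have hξ2 := right_ne_zero_of_mul hξ
    obtain ⟨j, hj⟩ := ih M (N.subgroupOf M) hrel ξ.1 (fun x => φ (e x)) ξ.2 hφ' hξ2
    have hdeg : charDegree (fun x : N.subgroupOf M => φ (e x)) = charDegree φ :=
      charDegree_eq_of_one_eq (by simp)
    rw [hdeg] at hj
    rcases degree_of_prime_index M Nat.prime_two hMidx hχ ξ.2 hξ1 with h1 | h1
    · exact ⟨j, by rw [h1, hj]⟩
    · exact ⟨j + 1, by rw [h1, hj, pow_succ]; ring⟩

/-- If `[G : N]` is a power of `2`, the multiplicity of `φ ∈ Irr(N)` in the restriction of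
`χ ∈ Irr(G)` is a power of `2` (when nonzero). -/
theorem mult_eq_pow_two {G : Type u} [Group G] [Fintype G] (N : Subgroup G) [N.Normal]
    [Fintype N] {k : ℕ} (hk : N.index = 2 ^ k) (χ : IrrCharacter G) (φ : IrrCharacter N) (a : ℕ)
    (ha : classInner (fun n : N => χ.1 n) φ.1 = (a : ℂ)) (ha0 : a ≠ 0) : ∃ i : ℕ, a = 2 ^ i := by
  have h1 := degree_over_mult N φ χ a ha ha0
  have hne : classInner (fun n : N => χ.1 n) φ.1 ≠ 0 := by rw [ha]; exact_mod_cast ha0
  obtain ⟨j, hj⟩ := degree_pow_two_aux k G N hk χ.1 φ.1 χ.2 φ.2 hne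
  rw [hj] at h1
  have hpos : 0 < charDegree φ.1 := Cfsg.Agent.H82.charDegree_pos φ
  have h2 : 2 ^ j = (Clifford.inertia N φ.1).index * a :=
    Nat.eq_of_mul_eq_mul_right hpos h1
  have h3 : a ∣ 2 ^ j := Dvd.intro_left _ h2.symm
  obtain ⟨i, -, hi⟩ := (Nat.dvd_prime_pow Nat.prime_two).mp h3
  exact ⟨i, hi⟩

end PowDeg

end Cfsg.Agent.H83
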