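import Mathlib
import Cfsg.Prelude.Def_Characters
import Cfsg.Agent.H83.SkewParity
import Cfsg.Agent.H83.PowDeg
import Cfsg.Agent.H83.Basic
import Cfsg.Agent.H78.DefZeroInvol
import Cfsg.Agent.H78.FrobSchur3
import Cfsg.Agent.H4.RealClasses
import Cfsg.Agent.Lib.CliffordCorr

/-!
# Strongly real characters over a `2`-defect-zero character (helper83)

Let `N ⊴ G` with `G / N` a `2`-group and let `φ ∈ Irr(N)` have `2`-defect zero and be
`G`-conjugate to its complex conjugate.  Then some `χ ∈ Irr(G)` with Frobenius–Schur indicator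
`+1` satisfies `[χ|N, φ] = 1` (`exists_strongly_real_over`).

Proof: with `P` a Sylow `2`-subgroup of `G`, `∑_χ [χ|N, φ] [χ|P, 1] = [(φ^G)|P, 1] = φ(1)/|N|₂` is
odd; complex conjugation preserves both factors, so a real `χ` has both factors odd; a
symplectic character contains `1_P` evenly (`even_fixed_of_indicator_neg_one`), and the
multiplicity `[χ|N, φ]` is a power of two (`mult_eq_pow_two`).
-/

set_option autoImplicit false
set_option linter.unusedSectionVars false
set_option linter.style.haveILetI false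

namespace Cfsg.Agent.H83

open Cfsg Cfsg.Agent.H4 Cfsg.Agent.Clifford
open scoped ComplexConjugate

universe u

section DZ

/-- If an involution `σ` preserves `f : α → ℕ` and `∑ f` is odd, some fixed point of `σ` has
`f` odd. -/
theorem exists_fixed_odd {α : Type*} [Fintype α] [DecidableEq α] (σ : α → α)
    (hσ : ∀ x, σ (σ x) = x) (f : α → ℕ) (hf : ∀ x, f (σ x) = f x) (hodd : Odd (∑ x, f x)) :
    ∃ x, σ x = x ∧ Odd (f x) := by
  by_contra hcon
  push Not at hcon
  have h0 : ∑ x, (f x : ZMod 2) = 0 := by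
    refine Finset.sum_involution (fun a _ => σ a) ?_ ?_ ?_ ?_
    · intro a _
      rw [hf a]
      exact CharTwo.add_self_eq_zero _
    · intro a _ ha hfix
      apply ha
      have := hcon a hfix
      rw [Nat.not_odd_iff_even] at this
      exact (ZMod.natCast_eq_zero_iff_even).mpr this
    · intro a _; exact Finset.mem_univ _
    · intro a _; exact hσ a
  have h1 : ((∑ x, f x : ℕ) : ZMod 2) = 0 := by rw [Nat.cast_sum]; exact h0
  rw [ZMod.natCast_eq_zero_iff_even] at h1
  exact (Nat.not_even_iff_odd.mpr hodd) h1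

/-- A function induced from a function vanishing on elements of even order vanishes on elements
of even order. -/
theorem indFun_eq_zero_of_even_order {G : Type u} [Group G] [Fintype G] (N : Subgroup G)
    (φ : N → ℂ) (hvan : ∀ n : N, 2 ∣ orderOf n → φ n = 0) (x : G) (hx : 2 ∣ orderOf x) :
    indFun N φ x = 0 := by
  rw [indFun_apply]
  have : ∀ y : G, extendByZero N φ (y⁻¹ * x * y) = 0 := by
    intro y
    by_cases hmem : y⁻¹ * x * y ∈ N
    · rw [extendByZero_of_mem N φ hmem]
      apply hvan
      have h1 : orderOf (⟨y⁻¹ * x * y, hmem⟩ : N) = orderOf x := by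
        rw [← Subgroup.orderOf_coe]
        show orderOf (y⁻¹ * x * y) = orderOf x
        have := (MulAut.conj y⁻¹).orderOf_eq x
        simpa using this
      rw [h1]; exact hx
    · exact extendByZero_of_not_mem N φ hmem
  rw [Finset.sum_eq_zero (fun y _ => this y), mul_zero]

/-- The counting identity: for a `2`-subgroup `P` and a function `φ` on `N` vanishing on elements
of even order, `∑_χ [φ, χ|N] [χ|P, 1] = [G : N] φ(1) / |P|`. -/
theorem sum_mult_mul_fixed {G : Type u} [Group G] [Fintype G] (N : Subgroup G) [Fintype N]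
    (P : Subgroup G) [Fintype P] (hP : IsPGroup 2 P) (φ : N → ℂ)
    (hvan : ∀ n : N, 2 ∣ orderOf n → φ n = 0) :
    ∑ᶠ χ : IrrCharacter G, classInner φ (fun n : N => χ.1 n) *
        classInner (fun x : P => χ.1 x) (fun _ => (1 : ℂ)) =
      (Nat.card P : ℂ)⁻¹ * ((N.index : ℂ) * φ 1) := by
  classical
  have hcf := indFun_isClassFunction N φ
  have hexp := classInner_comp_expand hcf (fun x : P => (x : G)) (fun _ : P => (1 : ℂ))
  have hfr : ∀ χ : IrrCharacter G,
      classInner (indFun N φ) χ.1 = classInner φ (fun n : N => χ.1 n) :=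
    fun χ => frobenius_reciprocity N φ χ.1 (irr_isClassFunction χ)
  simp only [hfr] at hexp
  rw [← hexp]
  unfold classInner
  congr 1
  rw [Finset.sum_eq_single (1 : P)]
  · simp [indFun_one_eq]
  · intro x _ hx1
    have h2 : 2 ∣ orderOf (x : G) := by
      obtain ⟨j, hj⟩ := hP x
      have hd : orderOf x ∣ 2 ^ j := orderOf_dvd_of_pow_eq_one hj
      obtain ⟨i, -, hi⟩ := (Nat.dvd_prime_pow Nat.prime_two).mp hd
      rw [Subgroup.orderOf_coe, hi]
      rcases Nat.eq_zero_or_pos i with h0 | hpos
      · exfalso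
        rw [h0, pow_zero, orderOf_eq_one_iff] at hi
        exact hx1 hi
      · exact dvd_pow_self 2 hpos.ne'
    show indFun N φ (x : G) * conj (1 : ℂ) = 0
    rw [indFun_eq_zero_of_even_order N φ hvan x h2, zero_mul]
  · intro h; exact absurd (Finset.mem_univ _) h

/-- **Strongly real characters over defect zero characters**: if `G / N` is a `2`-group and
`φ ∈ Irr(N)` has `2`-defect zero and is `G`-conjugate to its complex conjugate, some
`χ ∈ Irr(G)` with Frobenius–Schur indicator `1` has `[χ|N, φ] = 1`. -/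
theorem exists_strongly_real_over {G : Type u} [Group G] [Fintype G] (N : Subgroup G)
    [hN : N.Normal] [Fintype N] (h2 : IsPGroup 2 (G ⧸ N)) (φ : IrrCharacter N)
    (hdef : 2 ^ (Nat.card N).factorization 2 ∣ charDegree φ.1)
    (hconj : ∃ g : G, ∀ n n' : N, (n' : G) = g * (n : G) * g⁻¹ → φ.1 n' = conj (φ.1 n)) :
    ∃ χ : IrrCharacter G, (Nat.card G : ℂ)⁻¹ * ∑ g : G, χ.1 (g * g) = 1 ∧
      classInner (fun n : N => χ.1 n) φ.1 = 1 := by
  classical
  letI := fintypeIrr G
  haveI : Fact (Nat.Prime 2) := ⟨Nat.prime_two⟩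
  obtain ⟨P⟩ : Nonempty (Sylow 2 G) := inferInstance
  haveI : Fintype (P : Subgroup G) := Fintype.ofFinite _
  have hPcard : Nat.card (P : Subgroup G) = 2 ^ (Nat.card G).factorization 2 :=
    Sylow.card_eq_multiplicity P
  obtain ⟨k, hk⟩ : ∃ k, N.index = 2 ^ k := by
    rw [Subgroup.index_eq_card]; exact IsPGroup.iff_card.mp h2
  have hGcard : Nat.card G = 2 ^ k * Nat.card N := by
    rw [← hk]; exact (Subgroup.index_mul_card N).symm
  obtain ⟨v, hv⟩ : ∃ v, v = (Nat.card N).factorization 2 := ⟨_, rfl⟩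
  have hfac : (Nat.card G).factorization 2 = k + v := by
    rw [hGcard, Nat.factorization_mul (by positivity) Nat.card_pos.ne',
      Nat.Prime.factorization_pow Nat.prime_two, hv]
    simp
  have hdz := Cfsg.Agent.H78.defect_zero_of_pow_dvd φ 2 Nat.prime_two hdef
  have hvan : ∀ n : N, 2 ∣ orderOf n → φ.1 n = 0 := fun n hn =>
    Cfsg.Agent.H78.irr_defect_zero_vanish 2 Nat.prime_two φ hdz n hn
  rw [← hv] at hdef
  obtain ⟨u, hu⟩ := hdef
  have hu_odd : Odd u := by
    by_contra hne
    rw [Nat.not_odd_iff_even] at hne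
    obtain ⟨w, hw⟩ := hne
    have hdvd := Cfsg.Agent.H81.irr_charDegree_dvd φ
    apply Nat.pow_succ_factorization_not_dvd (n := Nat.card N) Nat.card_pos.ne' Nat.prime_two
    refine dvd_trans ?_ hdvd
    rw [hu, hw, ← hv]
    exact ⟨w, by ring⟩
  have hcount := sum_mult_mul_fixed N (P : Subgroup G) P.isPGroup' φ.1 hvan
  have hA : ∀ χ : IrrCharacter G, ∃ a : ℕ, classInner (fun n : N => χ.1 n) φ.1 = a := fun χ =>
    classInner_isCharacter_nat (isCharacter_restrict N (isCharacter_of_isIrrCharacter χ.2))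
      (isCharacter_of_isIrrCharacter φ.2)
  have hB : ∀ χ : IrrCharacter G, ∃ b : ℕ,
      classInner (fun x : (P : Subgroup G) => χ.1 x) (fun _ => (1 : ℂ)) = b := fun χ =>
    classInner_isCharacter_nat (isCharacter_restrict _ (isCharacter_of_isIrrCharacter χ.2))
      (isCharacter_of_isIrrCharacter (isIrrCharacter_one _))
  choose a ha using hA
  choose b hb using hB
  have hsum : ∑ χ : IrrCharacter G, a χ * b χ = u := by
    have h1 : ((∑ χ : IrrCharacter G, a χ * b χ : ℕ) : ℂ) = (u : ℂ) := by
      rw [Nat.cast_sum]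
      rw [finsum_irr_eq_sum] at hcount
      have hterm : ∀ χ : IrrCharacter G, ((a χ * b χ : ℕ) : ℂ) =
          classInner φ.1 (fun n : N => χ.1 n) *
            classInner (fun x : (P : Subgroup G) => χ.1 x) (fun _ => (1 : ℂ)) := by
        intro χ
        rw [← classInner_conj_symm, ha, hb]
        simp
      rw [Finset.sum_congr rfl (fun χ _ => hterm χ), hcount, hPcard, hfac, hk,
        Cfsg.Agent.H82.irr_one_eq_charDegree φ, hu]
      push_cast
      field_simp
      ring
    exact_mod_cast h1
  let σ : IrrCharacter G → IrrCharacter G := fun χ =>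
    ⟨fun g => conj (χ.1 g), isIrrCharacter_conj χ.2⟩
  have hσ : ∀ χ, σ (σ χ) = χ := by
    intro χ
    apply Subtype.ext
    funext g
    simp [σ]
  have hcc : ∀ (X : Type u) [Group X] [Fintype X] (f g : X → ℂ),
      classInner (fun x => conj (f x)) g = conj (classInner f (fun x => conj (g x))) := by
    intro X _ _ f g
    unfold classInner
    rw [map_mul, map_inv₀, Complex.conj_natCast, map_sum]
    congr 1
    refine Finset.sum_congr rfl fun x _ => ?_
    rw [map_mul, Complex.conj_conj]
  obtain ⟨g₀, hg₀⟩ := hconj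
  have hφconj : (fun n : N => conj (φ.1 n)) = conjChar N φ.1 g₀ := by
    funext n
    rw [conjChar_apply]
    exact (hg₀ n ⟨g₀ * n * g₀⁻¹, hN.conj_mem (n : G) n.2 g₀⟩ rfl).symm
  have haσ : ∀ χ, a (σ χ) = a χ := by
    intro χ
    have h1 : classInner (fun n : N => (σ χ).1 n) φ.1 = (a χ : ℂ) := by
      show classInner (fun n : N => conj (χ.1 n)) φ.1 = _
      rw [hcc, hφconj, classInner_res_conjChar N (irr_isClassFunction χ) φ.1 g₀, ha,
        Complex.conj_natCast]
    rw [ha] at h1
    exact_mod_cast h1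
  have hbσ : ∀ χ, b (σ χ) = b χ := by
    intro χ
    have h1 : classInner (fun x : (P : Subgroup G) => (σ χ).1 x) (fun _ => (1 : ℂ)) =
        (b χ : ℂ) := by
      show classInner (fun x : (P : Subgroup G) => conj (χ.1 x)) (fun _ => (1 : ℂ)) = _
      rw [hcc]
      simp only [map_one]
      rw [hb, Complex.conj_natCast]
    rw [hb] at h1
    exact_mod_cast h1
  obtain ⟨χ, hχfix, hχodd⟩ := exists_fixed_odd σ hσ (fun χ => a χ * b χ)
    (fun χ => by rw [haσ, hbσ]) (by rw [hsum]; exact hu_odd)
  have haodd : Odd (a χ) := (Nat.odd_mul.mp hχodd).1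
  have hbodd : Odd (b χ) := (Nat.odd_mul.mp hχodd).2
  refine ⟨χ, ?_, ?_⟩
  · have hreal : ∀ g, (χ.1 g).im = 0 := by
      intro g
      have := congrArg (fun ψ : IrrCharacter G => ψ.1 g) hχfix
      exact Complex.conj_eq_iff_im.mp this
    obtain ⟨h3, h4⟩ := Cfsg.Agent.H78.irr_indicator χ
    unfold Cfsg.Agent.H78.indicator at h3 h4
    rcases h3 with h | h | h
    · exfalso
      obtain ⟨s, hs⟩ := h4.mp h
      exact hs (hreal s)
    · exact h
    · exfalso
      have := even_fixed_of_indicator_neg_one χ h (P : Subgroup G) (b χ) (by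
        rw [← hb]; unfold classInner; simp)
      exact (Nat.not_even_iff_odd.mpr hbodd) this
  · obtain ⟨i, hi⟩ := mult_eq_pow_two N hk χ φ (a χ) (ha χ) haodd.pos.ne'
    rw [ha]
    have h1 : a χ = 1 := by
      rcases Nat.eq_zero_or_pos i with h0 | hpos
      · rw [hi, h0, pow_zero]
      · exfalso
        rw [hi] at haodd
        exact (Nat.not_odd_iff_even.mpr (Nat.even_pow.mpr ⟨even_two, hpos.ne'⟩)) haodd
    rw [h1, Nat.cast_one]

end DZ

end Cfsg.Agent.H83
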