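import Mathlib
import Cfsg.Prelude.Def_Characters
import Cfsg.Agent.H4.Irr
import Cfsg.Agent.H4.Chars
import Cfsg.Agent.H4.IrrCount
import Cfsg.Agent.H4.RealClasses
import Cfsg.Agent.H78.FrobSchur3
import Cfsg.Agent.H82.Irr
import Cfsg.Agent.Lib.Clifford
import Cfsg.Agent.S0161
import Cfsg.Agent.H83.Basic

/-!
# Real characters and normal subgroups of odd index (helper83)

For `N ⊴ G` of odd index:
* `mem_of_sq_mem_of_odd_index` : `g * g ∈ N → g ∈ N`;
* `sqrtCount_coe` : square roots in `G` of an element of `N` lie in `N`;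
* `sum_indicator_mul` : `∑ χ ∈ Irr(G), ν(χ) [χ|N, φ] = ν(φ)`;
* `classInner_res_parity` : for real-valued `χ₁ χ₂ ∈ Irr(G)`, `[χ₁|N, χ₂|N]` is a natural
  number congruent to `δ_{χ₁ χ₂}` mod 2;
* `eq_of_real_of_res_ne_zero` : at most one real-valued irreducible character of `G` lies over a
  given irreducible character of `N`;
* `exists_unique_indicator_one` : the statement S4873.
-/

set_option autoImplicit false

namespace Cfsg.Agent.H83

open Cfsg Cfsg.Agent.H4 Cfsg.Agent.Clifford
open scoped ComplexConjugate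

universe u

section OddIndex

variable {G : Type u} [Group G] [Fintype G] (N : Subgroup G) [hN : N.Normal] [Fintype N]

omit [Fintype G] [Fintype N] in
theorem mem_of_sq_mem_of_odd_index [Finite G] (hodd : Odd N.index) {g : G} (h : g * g ∈ N) :
    g ∈ N := by
  have h1 : (QuotientGroup.mk g : G ⧸ N) ^ 2 = 1 := by
    rw [← QuotientGroup.mk_pow, pow_two]
    exact (QuotientGroup.eq_one_iff _).mpr h
  have h2 : orderOf (QuotientGroup.mk g : G ⧸ N) ∣ 2 := orderOf_dvd_of_pow_eq_one h1
  have h3 : orderOf (QuotientGroup.mk g : G ⧸ N) ∣ Nat.card (G ⧸ N) := orderOf_dvd_natCard _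
  have hc : Nat.Coprime 2 (Nat.card (G ⧸ N)) := Nat.coprime_two_left.mpr hodd
  have h4 : orderOf (QuotientGroup.mk g : G ⧸ N) = 1 := Nat.eq_one_of_dvd_coprimes hc h2 h3
  exact (QuotientGroup.eq_one_iff g).mp (orderOf_eq_one_iff.mp h4)

theorem sqrtCount_coe (hodd : Odd N.index) (n : N) :
    H78.sqrtCount (n : G) = H78.sqrtCount n := by
  classical
  unfold H78.sqrtCount
  have e1 : ∑ s : G, (if s * s = (n : G) then (1 : ℂ) else 0) =
      ∑ s ∈ Finset.univ.filter (fun s : G => s ∈ N), (if s * s = (n : G) then (1 : ℂ) else 0) := by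
    symm
    apply Finset.sum_filter_of_ne
    intro s _ hs
    by_contra hsN
    apply hs
    rw [if_neg]
    intro hsn
    exact hsN (mem_of_sq_mem_of_odd_index N hodd (by rw [hsn]; exact n.2))
  rw [e1, Finset.sum_subtype (Finset.univ.filter (fun s : G => s ∈ N)) (p := fun s : G => s ∈ N)
    (by simp) (fun s : G => if s * s = (n : G) then (1 : ℂ) else 0)]
  refine Finset.sum_congr rfl fun s _ => ?_
  have : ((s : G) * (s : G) = (n : G)) ↔ s * s = n := by
    rw [Subtype.ext_iff]; rfl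
  simp only [this]
  congr

theorem sum_indicator_mul (hodd : Odd N.index) (φ : IrrCharacter N) :
    ∑ᶠ χ : IrrCharacter G, H78.indicator χ.1 * classInner (fun n : N => χ.1 n) φ.1 =
      H78.indicator φ.1 := by
  classical
  let _ := fintypeIrr G
  rw [← H78.classInner_sqrtCount φ]
  have h1 : (H78.sqrtCount (G := N)) =
      ∑ χ : IrrCharacter G, H78.indicator χ.1 • (fun n : N => χ.1 n) := by
    funext n
    rw [← sqrtCount_coe N hodd n, H78.sqrtCount_eq, finsum_irr_apply, finsum_irr_eq_sum,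
      Finset.sum_apply]
    rfl
  rw [h1, classInner_sum_left, finsum_irr_eq_sum]
  exact Finset.sum_congr rfl fun χ _ => (classInner_smul_left _ _ _).symm

/-- A real-valued irreducible character of `G` whose restriction to the odd-index normal subgroup
`N` contains the trivial character is trivial. -/
theorem eq_trivChar_of_real_of_res (hodd : Odd N.index) (β : IrrCharacter G)
    (hreal : ∀ g, (β.1 g).im = 0)
    (h : classInner (fun n : N => β.1 n) (fun _ => (1 : ℂ)) ≠ 0) : β = trivChar G := by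
  classical
  have h1 : IsIrrCharacter N (fun _ => (1 : ℂ)) := isIrrCharacter_one N
  have hres := clifford_res N β.2 h1 h
  have hset : {ψ : N → ℂ | ∃ g : G, ψ = conjChar N (fun _ => (1 : ℂ)) g} = {fun _ => (1 : ℂ)} := by
    ext ψ
    simp only [Set.mem_ofPred_eq, Set.mem_singleton_iff]
    constructor
    · rintro ⟨g, rfl⟩; rfl
    · rintro rfl; exact ⟨1, rfl⟩
  rw [hset, finsum_mem_singleton] at hres
  have hker : ∀ x ∈ N, β.1 x = β.1 1 := by
    intro x hx
    have e1 := congrFun hres ⟨x, hx⟩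
    have e2 := congrFun hres 1
    simp only [Pi.smul_apply, smul_eq_mul, mul_one] at e1 e2
    rw [e1]
    exact e2.symm
  obtain ⟨β', hβ'⟩ := H82.exists_deflate N β hker
  have hodd' : Odd (Nat.card (G ⧸ N)) := hodd
  have hreal' : ∀ q : G ⧸ N, (β'.1 q).im = 0 := by
    intro q
    obtain ⟨g, rfl⟩ := QuotientGroup.mk_surjective q
    rw [← H82.inflate_apply, hβ']
    exact hreal g
  have h2 := Cfsg.Agent.S0161.result hodd' β' hreal'
  apply Subtype.ext
  funext g
  rw [← hβ', H82.inflate_apply, h2]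
  rfl

omit [Fintype G] in
theorem irrConj_irrConj [Finite G] (β : IrrCharacter G) : irrConj (irrConj β) = β := by
  apply Subtype.ext
  funext g
  simp [irrConj]

omit [Fintype G] in
theorem irrConj_trivChar [Finite G] : irrConj (trivChar G) = trivChar G := by
  apply Subtype.ext
  funext g
  simp [irrConj, trivChar]

omit [Fintype G] in
theorem irrConj_eq_self_iff [Finite G] (β : IrrCharacter G) :
    irrConj β = β ↔ ∀ g, (β.1 g).im = 0 := by
  constructor
  · intro h g
    have := congrArg (fun χ : IrrCharacter G => χ.1 g) h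
    exact Complex.conj_eq_iff_im.mp this
  · intro h
    apply Subtype.ext
    funext g
    exact Complex.conj_eq_iff_im.mpr (h g)

/-- For real-valued irreducible characters `χ₁`, `χ₂` of `G` and `N ⊴ G` of odd index, the inner
product of the restrictions to `N` is a natural number congruent to `δ_{χ₁,χ₂}` modulo 2. -/
theorem classInner_res_parity (hodd : Odd N.index) (χ₁ χ₂ : IrrCharacter G)
    (h₁ : ∀ g, (χ₁.1 g).im = 0) (h₂ : ∀ g, (χ₂.1 g).im = 0) :
    ∃ k : ℕ, classInner (fun n : N => χ₁.1 n) (fun n : N => χ₂.1 n) = k ∧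
      (k : ZMod 2) = if χ₁ = χ₂ then 1 else 0 := by
  classical
  let _ := fintypeIrr G
  have hFchar : IsCharacter G (χ₁.1 * χ₂.1) :=
    isCharacter_mul (isCharacter_of_isIrrCharacter χ₁.2) (isCharacter_of_isIrrCharacter χ₂.2)
  have hFreal : ∀ g, conj ((χ₁.1 * χ₂.1) g) = (χ₁.1 * χ₂.1) g := by
    intro g
    rw [Pi.mul_apply, map_mul, Complex.conj_eq_iff_im.mpr (h₁ g), Complex.conj_eq_iff_im.mpr (h₂ g)]
  have hc : ∀ β : IrrCharacter G, ∃ n : ℕ, classInner (χ₁.1 * χ₂.1) β.1 = n := fun β =>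
    classInner_isCharacter_nat hFchar (isCharacter_of_isIrrCharacter β.2)
  have ha : ∀ β : IrrCharacter G, ∃ n : ℕ,
      classInner (fun n : N => β.1 n) (fun _ => (1 : ℂ)) = n := fun β =>
    classInner_isCharacter_nat (isCharacter_restrict N (isCharacter_of_isIrrCharacter β.2))
      (isCharacter_of_isIrrCharacter (isIrrCharacter_one N))
  choose c hc using hc
  choose a ha using ha
  have hkey : classInner (fun n : N => χ₁.1 n) (fun n : N => χ₂.1 n) =
      ((∑ β : IrrCharacter G, c β * a β : ℕ) : ℂ) := by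
    have e1 : classInner (fun n : N => χ₁.1 n) (fun n : N => χ₂.1 n) =
        classInner (fun n : N => (χ₁.1 * χ₂.1) n) (fun _ => (1 : ℂ)) := by
      unfold classInner
      congr 1
      refine Finset.sum_congr rfl fun n _ => ?_
      simp only [Pi.mul_apply, map_one, mul_one]
      rw [Complex.conj_eq_iff_im.mpr (h₂ n)]
    have e2 : (fun n : N => (χ₁.1 * χ₂.1) n) =
        ∑ β : IrrCharacter G, (c β : ℂ) • (fun n : N => β.1 n) := by
      funext n
      have := congrFun (classFunction_eq_finsum (isClassFunction_of_isCharacter hFchar)) (n : G)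
      rw [finsum_irr_apply, finsum_irr_eq_sum] at this
      rw [this, Finset.sum_apply]
      refine Finset.sum_congr rfl fun β _ => ?_
      rw [hc]
      rfl
    rw [e1, e2, classInner_sum_left, Nat.cast_sum]
    refine Finset.sum_congr rfl fun β _ => ?_
    rw [classInner_smul_left, ha, Nat.cast_mul]
  refine ⟨∑ β : IrrCharacter G, c β * a β, hkey, ?_⟩
  have hcconj : ∀ β, c (irrConj β) = c β := by
    intro β
    have : (c (irrConj β) : ℂ) = c β := by
      rw [← hc, ← hc]
      have h3 : classInner (χ₁.1 * χ₂.1) (irrConj β).1 = conj (classInner (χ₁.1 * χ₂.1) β.1) := by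
        unfold classInner
        rw [map_mul, map_inv₀, Complex.conj_natCast, map_sum]
        congr 1
        refine Finset.sum_congr rfl fun g _ => ?_
        rw [map_mul, hFreal g]
        rfl
      rw [h3, hc, Complex.conj_natCast]
    exact_mod_cast this
  have haconj : ∀ β, a (irrConj β) = a β := by
    intro β
    have : (a (irrConj β) : ℂ) = a β := by
      rw [← ha, ← ha]
      have h3 : classInner (fun n : N => (irrConj β).1 n) (fun _ => (1 : ℂ)) =
          conj (classInner (fun n : N => β.1 n) (fun _ => (1 : ℂ))) := by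
        unfold classInner
        rw [map_mul, map_inv₀, Complex.conj_natCast, map_sum]
        congr 1
        refine Finset.sum_congr rfl fun g _ => ?_
        rw [map_mul]
        simp [irrConj]
      rw [h3, ha, Complex.conj_natCast]
    exact_mod_cast this
  have hc_triv : c (trivChar G) = if χ₁ = χ₂ then 1 else 0 := by
    have : (c (trivChar G) : ℂ) = if χ₁ = χ₂ then 1 else 0 := by
      rw [← hc, ← irr_inner χ₁ χ₂]
      unfold classInner
      congr 1
      refine Finset.sum_congr rfl fun g _ => ?_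
      rw [Pi.mul_apply, trivChar_apply, map_one, mul_one, Complex.conj_eq_iff_im.mpr (h₂ g)]
    split_ifs at this ⊢ with h
    · exact_mod_cast this
    · exact_mod_cast this
  have ha_triv : a (trivChar G) = 1 := by
    have : (a (trivChar G) : ℂ) = 1 := by
      rw [← ha]
      exact irr_inner_self (trivChar N)
    exact_mod_cast this
  have hsum : ∑ β ∈ (Finset.univ.erase (trivChar G) : Finset (IrrCharacter G)),
      ((c β * a β : ℕ) : ZMod 2) = 0 := by
    refine Finset.sum_involution (fun β _ => irrConj β) ?_ ?_ ?_ ?_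
    · intro β _
      rw [hcconj, haconj]
      rw [← two_mul]
      have : (2 : ZMod 2) = 0 := rfl
      rw [this, zero_mul]
    · intro β hβ hne hfix
      apply hne
      have hβ' : β ≠ trivChar G := (Finset.mem_erase.mp hβ).1
      have ha0 : a β = 0 := by
        by_contra h0
        apply hβ'
        apply eq_trivChar_of_real_of_res N hodd β ((irrConj_eq_self_iff β).mp hfix)
        rw [ha]
        exact_mod_cast h0
      rw [ha0, mul_zero, Nat.cast_zero]
    · intro β hβ
      have hβ' : β ≠ trivChar G := (Finset.mem_erase.mp hβ).1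
      refine Finset.mem_erase.mpr ⟨?_, Finset.mem_univ _⟩
      intro h
      apply hβ'
      rw [← irrConj_irrConj β, h, irrConj_trivChar]
    · intro β _
      exact irrConj_irrConj β
  rw [Nat.cast_sum, ← Finset.add_sum_erase Finset.univ _ (Finset.mem_univ (trivChar G)), hsum,
    add_zero, hc_triv, ha_triv, mul_one]
  split_ifs <;> simp

/-- Clifford: the multiplicities of the irreducible constituents of `χ|N`. -/
theorem classInner_res_irr_eq (χ : IrrCharacter G) (φ : IrrCharacter N)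
    (h : classInner (fun n : N => χ.1 n) φ.1 ≠ 0) (θ : IrrCharacter N) :
    classInner (fun n : N => χ.1 n) θ.1 =
      if ∃ g : G, θ.1 = conjChar N φ.1 g then classInner (fun n : N => χ.1 n) φ.1 else 0 := by
  classical
  split_ifs with hθ
  · obtain ⟨g, hg⟩ := hθ
    rw [hg, classInner_res_conjChar N (irr_isClassFunction χ) φ.1 g]
  · by_contra hne
    exact hθ (clifford_conj N χ.2 φ.2 θ.2 h hne)

/-- If `χ₁`, `χ₂` both lie over `φ` with multiplicities `M₁`, `M₂`, then
`[χ₁|N, χ₂|N] = M₁ M₂ t` with `t` the size of the `G`-orbit of `φ`. -/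
theorem classInner_res_res (χ₁ χ₂ : IrrCharacter G) (φ : IrrCharacter N) (M₁ M₂ : ℕ)
    (h₁ : classInner (fun n : N => χ₁.1 n) φ.1 = M₁)
    (h₂ : classInner (fun n : N => χ₂.1 n) φ.1 = M₂) (hM₁ : M₁ ≠ 0) (hM₂ : M₂ ≠ 0) :
    classInner (fun n : N => χ₁.1 n) (fun n : N => χ₂.1 n) =
      ((M₁ * M₂ * Nat.card {θ : IrrCharacter N // ∃ g : G, θ.1 = conjChar N φ.1 g} : ℕ) : ℂ) := by
  classical
  let _ := fintypeIrr N
  have hA : IsClassFunction N (fun n : N => χ₁.1 n) :=
    isClassFunction_of_isCharacter (isCharacter_restrict N (isCharacter_of_isIrrCharacter χ₁.2))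
  rw [classInner_eq_sum_irr hA, finsum_irr_eq_sum]
  have hterm : ∀ θ : IrrCharacter N,
      classInner (fun n : N => χ₁.1 n) θ.1 * classInner θ.1 (fun n : N => χ₂.1 n) =
        if ∃ g : G, θ.1 = conjChar N φ.1 g then ((M₁ * M₂ : ℕ) : ℂ) else 0 := by
    intro θ
    rw [← classInner_conj_symm θ.1 (fun n : N => χ₂.1 n)]
    rw [classInner_res_irr_eq N χ₁ φ (by rw [h₁]; exact_mod_cast hM₁) θ,
      classInner_res_irr_eq N χ₂ φ (by rw [h₂]; exact_mod_cast hM₂) θ, h₁, h₂]
    split_ifs
    · simp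
    · simp
  simp only [hterm]
  rw [Finset.sum_ite, Finset.sum_const_zero, add_zero, Finset.sum_const, nsmul_eq_mul,
    Nat.card_eq_fintype_card, Fintype.card_subtype]
  push_cast
  ring

/-- For `N ⊴ G` of odd index, at most one real-valued irreducible character of `G` lies over a
given irreducible character of `N`. -/
theorem eq_of_real_of_res_ne_zero (hodd : Odd N.index) (φ : IrrCharacter N)
    (χ₁ χ₂ : IrrCharacter G) (hr₁ : ∀ g, (χ₁.1 g).im = 0) (hr₂ : ∀ g, (χ₂.1 g).im = 0)
    (h₁ : classInner (fun n : N => χ₁.1 n) φ.1 ≠ 0)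
    (h₂ : classInner (fun n : N => χ₂.1 n) φ.1 ≠ 0) : χ₁ = χ₂ := by
  classical
  obtain ⟨M₁, hM₁⟩ := classInner_isCharacter_nat
    (isCharacter_restrict N (isCharacter_of_isIrrCharacter χ₁.2)) (isCharacter_of_isIrrCharacter φ.2)
  obtain ⟨M₂, hM₂⟩ := classInner_isCharacter_nat
    (isCharacter_restrict N (isCharacter_of_isIrrCharacter χ₂.2)) (isCharacter_of_isIrrCharacter φ.2)
  have hM₁0 : M₁ ≠ 0 := by
    rintro rfl
    apply h₁
    rw [hM₁]
    simp
  have hM₂0 : M₂ ≠ 0 := by
    rintro rfl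
    apply h₂
    rw [hM₂]
    simp
  obtain ⟨k₁₁, e₁₁, p₁₁⟩ := classInner_res_parity N hodd χ₁ χ₁ hr₁ hr₁
  obtain ⟨k₂₂, e₂₂, p₂₂⟩ := classInner_res_parity N hodd χ₂ χ₂ hr₂ hr₂
  obtain ⟨k₁₂, e₁₂, p₁₂⟩ := classInner_res_parity N hodd χ₁ χ₂ hr₁ hr₂
  rw [classInner_res_res N χ₁ χ₁ φ M₁ M₁ hM₁ hM₁ hM₁0 hM₁0] at e₁₁
  rw [classInner_res_res N χ₂ χ₂ φ M₂ M₂ hM₂ hM₂ hM₂0 hM₂0] at e₂₂
  rw [classInner_res_res N χ₁ χ₂ φ M₁ M₂ hM₁ hM₂ hM₁0 hM₂0] at e₁₂
  generalize Nat.card {θ : IrrCharacter N // ∃ g : G, θ.1 = conjChar N φ.1 g} = t at e₁₁ e₂₂ e₁₂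
  have e₁₁' : M₁ * M₁ * t = k₁₁ := by exact_mod_cast e₁₁
  have e₂₂' : M₂ * M₂ * t = k₂₂ := by exact_mod_cast e₂₂
  have e₁₂' : M₁ * M₂ * t = k₁₂ := by exact_mod_cast e₁₂
  by_contra hne
  rw [if_pos rfl] at p₁₁ p₂₂
  rw [if_neg hne] at p₁₂
  rw [← e₁₁'] at p₁₁
  rw [← e₂₂'] at p₂₂
  rw [← e₁₂'] at p₁₂
  push_cast at p₁₁ p₂₂ p₁₂
  have h1 : ((M₁ : ZMod 2) * M₂ * t) * ((M₁ : ZMod 2) * M₂ * t) = 1 := by
    calc ((M₁ : ZMod 2) * M₂ * t) * ((M₁ : ZMod 2) * M₂ * t)
        = ((M₁ : ZMod 2) * M₁ * t) * ((M₂ : ZMod 2) * M₂ * t) := by ring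
      _ = 1 := by rw [p₁₁, p₂₂, mul_one]
  rw [p₁₂, mul_zero] at h1
  exact absurd h1 (by decide)

/-- **S4873**: for `N ⊴ G` of odd index and `φ ∈ Irr(N)` of Frobenius–Schur indicator `1`, there
is exactly one `χ ∈ Irr(G)` of indicator `1` lying over `φ`. -/
theorem exists_unique_indicator_one (hodd : Odd N.index) (φ : IrrCharacter N)
    (hφ : H78.indicator φ.1 = 1) :
    ∃! χ : IrrCharacter G, H78.indicator χ.1 = 1 ∧ classInner (fun n : N => χ.1 n) φ.1 ≠ 0 := by
  classical
  have hsum := sum_indicator_mul N hodd φ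
  rw [hφ] at hsum
  have hex : ∃ χ₀ : IrrCharacter G,
      H78.indicator χ₀.1 * classInner (fun n : N => χ₀.1 n) φ.1 ≠ 0 := by
    by_contra hall
    push Not at hall
    rw [finsum_congr hall] at hsum
    simp at hsum
  obtain ⟨χ₀, hχ₀⟩ := hex
  have hν₀ : H78.indicator χ₀.1 ≠ 0 := left_ne_zero_of_mul hχ₀
  have hm₀ : classInner (fun n : N => χ₀.1 n) φ.1 ≠ 0 := right_ne_zero_of_mul hχ₀
  have hreal : ∀ χ : IrrCharacter G, H78.indicator χ.1 ≠ 0 → ∀ g, (χ.1 g).im = 0 := by
    intro χ hν g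
    by_contra hg
    exact hν (H78.irr_indicator_eq_zero_of_not_real χ g hg)
  have huniq : ∀ χ : IrrCharacter G, H78.indicator χ.1 ≠ 0 →
      classInner (fun n : N => χ.1 n) φ.1 ≠ 0 → χ = χ₀ := fun χ hν hm =>
    eq_of_real_of_res_ne_zero N hodd φ χ χ₀ (hreal χ hν) (hreal χ₀ hν₀) hm hm₀
  have hsingle : ∑ᶠ χ : IrrCharacter G,
      H78.indicator χ.1 * classInner (fun n : N => χ.1 n) φ.1 =
        H78.indicator χ₀.1 * classInner (fun n : N => χ₀.1 n) φ.1 := by
    apply finsum_eq_single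
    intro χ hne
    by_contra h0
    exact hne (huniq χ (left_ne_zero_of_mul h0) (right_ne_zero_of_mul h0))
  rw [hsingle] at hsum
  obtain ⟨M, hM⟩ := classInner_isCharacter_nat
    (isCharacter_restrict N (isCharacter_of_isIrrCharacter χ₀.2)) (isCharacter_of_isIrrCharacter φ.2)
  have hν1 : H78.indicator χ₀.1 = 1 := by
    rcases H78.irr_indicator_sq_of_real χ₀ (hreal χ₀ hν₀) with h | h
    · exact h
    · exfalso
      rw [h, hM] at hsum
      have h2 := congrArg Complex.re hsum
      simp at h2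
      have hM0 : (0 : ℝ) ≤ M := Nat.cast_nonneg M
      linarith
  refine ⟨χ₀, ⟨hν1, hm₀⟩, ?_⟩
  rintro χ ⟨hν, hm⟩
  exact huniq χ (by rw [hν]; exact one_ne_zero) hm

end OddIndex

end Cfsg.Agent.H83
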