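import Mathlib
import Cfsg.Prelude.Def_Characters
import Cfsg.Agent.H4.RealClasses
import Cfsg.Agent.H32.InvOver
import Cfsg.Agent.H82.CanonExt
import Cfsg.Agent.H81.Reg
import Cfsg.Agent.Lib.ThompsonDeg

/-!
# Groups whose real irreducible characters have degree prime to `p` (helper83)

* `dvd_degree_of_not_ker`: if `M ⊴ G` lies in the derived subgroup of a Sylow `p`-subgroup, every
  irreducible character of `G` not trivial on `M` has degree divisible by `p`.
* `exists_real_lift`: if `M ⊴ G` has odd order, every real element of `G ⧸ M` lifts to a real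
  element of `G`.
* `eq_one_of_real_mem`: if all real irreducible characters of `G` are trivial on the odd-order
  normal subgroup `M`, then `M` contains no real element of `G` other than `1`.
* `two_elements_centralize`: under the same hypothesis every element of `2`-power order
  centralizes `M`.
-/

set_option autoImplicit false
set_option linter.unusedSectionVars false
set_option linter.style.haveILetI false

namespace Cfsg.Agent.H83

open Cfsg Cfsg.Agent.H4 Cfsg.Agent.Clifford Cfsg.Agent.H82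
open scoped ComplexConjugate

universe u

section RealPrime

variable {G : Type u} [Group G]

/-- If `M ⊴ G` is contained in the derived subgroup of a Sylow `p`-subgroup `P`, then every
irreducible character of `G` that is not trivial on `M` has degree divisible by `p`. -/
theorem dvd_degree_of_not_ker [Fintype G] (p : ℕ) [Fact p.Prime] (P : Sylow p G)
    (M : Subgroup G) [hM : M.Normal] (hMP : M ≤ ⁅(P : Subgroup G), (P : Subgroup G)⁆)
    (χ : IrrCharacter G) (hχ : ¬ ∀ x ∈ M, χ.1 x = χ.1 1) : p ∣ charDegree χ.1 := by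
  classical
  have hp := (Fact.out : p.Prime)
  by_contra hnd
  apply hχ
  haveI : Fintype (P : Subgroup G) := Fintype.ofFinite _
  haveI : Fintype M := Fintype.ofFinite M
  letI := fintypeIrr (P : Subgroup G)
  have hMleP : M ≤ (P : Subgroup G) := hMP.trans (Subgroup.commutator_le_self _)
  have hχP : IsCharacter (P : Subgroup G) (fun x : (P : Subgroup G) => χ.1 x) :=
    isCharacter_restrict _ (isCharacter_of_isIrrCharacter χ.2)
  have hnat : ∀ ψ : IrrCharacter (P : Subgroup G), ∃ n : ℕ,
      classInner (fun x : (P : Subgroup G) => χ.1 x) ψ.1 = n :=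
    fun ψ => classInner_isCharacter_nat hχP (isCharacter_of_isIrrCharacter ψ.2)
  choose a ha using hnat
  have hdeg : charDegree χ.1 = ∑ ψ : IrrCharacter (P : Subgroup G), a ψ * charDegree ψ.1 := by
    have h2 := congrFun (classFunction_eq_finsum (isClassFunction_of_isCharacter hχP)) 1
    rw [finsum_irr_eq_sum, Finset.sum_apply] at h2
    have h3 : ((charDegree χ.1 : ℕ) : ℂ) =
        ((∑ ψ : IrrCharacter (P : Subgroup G), a ψ * charDegree ψ.1 : ℕ) : ℂ) := by
      rw [← irr_one_eq_charDegree χ]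
      have h4 : χ.1 1 = χ.1 (((1 : (P : Subgroup G)) : G)) := by rw [OneMemClass.coe_one]
      rw [h4, h2]
      push_cast
      refine Finset.sum_congr rfl fun ψ _ => ?_
      rw [Pi.smul_apply, smul_eq_mul, ha ψ, irr_one_eq_charDegree]
    exact_mod_cast h3
  -- a linear constituent of the restriction to `P`
  obtain ⟨ψ, hψa, hψ1⟩ : ∃ ψ : IrrCharacter (P : Subgroup G), a ψ ≠ 0 ∧ charDegree ψ.1 = 1 := by
    by_contra hcon
    push Not at hcon
    apply hnd
    rw [hdeg]
    apply Finset.dvd_sum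
    intro ψ _
    by_cases h0 : a ψ = 0
    · rw [h0, zero_mul]; exact dvd_zero p
    · apply Dvd.dvd.mul_left
      have h1 := hcon ψ h0
      have h2 : charDegree ψ.1 ∣ Nat.card (P : Subgroup G) := Cfsg.Agent.H81.irr_charDegree_dvd ψ
      obtain ⟨k, hk⟩ := IsPGroup.iff_card.mp P.isPGroup'
      rw [hk] at h2
      obtain ⟨j, -, hj⟩ := (Nat.dvd_prime_pow hp).mp h2
      rcases Nat.eq_zero_or_pos j with h0' | hpos
      · rw [h0', pow_zero] at hj
        exact absurd hj h1
      · rw [hj]; exact dvd_pow_self p hpos.ne'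
  have hψone := Cfsg.Agent.ThompsonDeg.one_of_charDegree hψ1
  have hψker := Cfsg.Agent.ThompsonDeg.commutator_le_irrKer ψ hψone
  -- `ψ` is trivial on `M`
  have hψM : ∀ y : (P : Subgroup G), (y : G) ∈ M → ψ.1 y = 1 := by
    intro y hy
    have h1 : (y : G) ∈ (commutator (P : Subgroup G)).map (P : Subgroup G).subtype := by
      rw [Subgroup.map_subtype_commutator]; exact hMP hy
    obtain ⟨z, hz, hzy⟩ := h1
    have h2 : z = y := Subtype.ext hzy
    rw [← h2, ← hψone]
    exact (mem_irrKer ψ z).mp (hψker hz)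
  -- hence the trivial character of `M` occurs in the restriction of `χ`
  haveI : Fintype (M.subgroupOf (P : Subgroup G)) := Fintype.ofFinite _
  have h1' : classInner (fun x : (P : Subgroup G) => χ.1 x) ψ.1 ≠ 0 := by
    rw [ha]; exact_mod_cast hψa
  have htriv : IsCharacter (M.subgroupOf (P : Subgroup G)) (fun _ => (1 : ℂ)) :=
    isCharacter_of_isIrrCharacter (isIrrCharacter_one _)
  have h2' : classInner (fun h : M.subgroupOf (P : Subgroup G) => ψ.1 h) (fun _ => (1 : ℂ)) ≠ 0 := by
    have e : (fun h : M.subgroupOf (P : Subgroup G) => ψ.1 h) = fun _ => (1 : ℂ) := by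
      funext h
      exact hψM h (Subgroup.mem_subgroupOf.mp h.2)
    rw [e]
    have := Cfsg.Agent.Clifford.classInner_irr_irr (isIrrCharacter_one (M.subgroupOf (P : Subgroup G)))
      (isIrrCharacter_one (M.subgroupOf (P : Subgroup G)))
    rw [this, if_pos rfl]
    exact one_ne_zero
  have h3 := Cfsg.Agent.H32.constituent_res_of_constituent (M.subgroupOf (P : Subgroup G)) hχP ψ.2
    h1' htriv h2'
  let e : M.subgroupOf (P : Subgroup G) ≃* M := Subgroup.subgroupOfEquivOfLe hMleP
  have h4 : classInner (fun n : M => χ.1 n) (1 : M → ℂ) ≠ 0 := by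
    have := classInner_comp_equiv e (fun n : M => χ.1 n) (1 : M → ℂ)
    rw [← this]
    exact h3
  have h5 := const_of_over_one M χ.2 h4
  intro x hx
  exact h5 ⟨x, hx⟩

end RealPrime

section Lift

variable {G : Type u} [Group G]

/-- If `M ⊴ G` has odd order, every real element of `G ⧸ M` is the image of a real element. -/
theorem exists_real_lift [Finite G] (M : Subgroup G) [hM : M.Normal] (hodd : Odd (Nat.card M))
    (x : G) (hx : IsConj (QuotientGroup.mk x : G ⧸ M) (QuotientGroup.mk x)⁻¹) :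
    ∃ y : G, (QuotientGroup.mk y : G ⧸ M) = QuotientGroup.mk x ∧ IsConj y y⁻¹ := by
  classical
  obtain ⟨q, hq⟩ := isConj_iff.mp hx
  obtain ⟨g, rfl⟩ := QuotientGroup.mk_surjective q
  obtain ⟨X, hX⟩ : ∃ X : Type u, X = {y : G // (QuotientGroup.mk y : G ⧸ M) = QuotientGroup.mk x} :=
    ⟨_, rfl⟩
  subst hX
  haveI : Fintype {y : G // (QuotientGroup.mk y : G ⧸ M) = QuotientGroup.mk x} :=
    Fintype.ofFinite _
  have hq1 : (QuotientGroup.mk g : G ⧸ M) * (QuotientGroup.mk x)⁻¹ * (QuotientGroup.mk g)⁻¹ =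
      QuotientGroup.mk x := by
    have := congrArg (fun z => z⁻¹) hq
    simpa [mul_assoc] using this
  have hq2 : (QuotientGroup.mk g : G ⧸ M)⁻¹ * (QuotientGroup.mk x)⁻¹ * (QuotientGroup.mk g) =
      QuotientGroup.mk x := by
    rw [← hq]; group
  have hmem : ∀ y : {y : G // (QuotientGroup.mk y : G ⧸ M) = QuotientGroup.mk x},
      (QuotientGroup.mk (g * (y : G)⁻¹ * g⁻¹) : G ⧸ M) = QuotientGroup.mk x := by
    intro y
    rw [QuotientGroup.mk_mul, QuotientGroup.mk_mul, QuotientGroup.mk_inv, QuotientGroup.mk_inv,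
      y.2]
    exact hq1
  have hmem' : ∀ y : {y : G // (QuotientGroup.mk y : G ⧸ M) = QuotientGroup.mk x},
      (QuotientGroup.mk (g⁻¹ * (y : G)⁻¹ * g) : G ⧸ M) = QuotientGroup.mk x := by
    intro y
    rw [QuotientGroup.mk_mul, QuotientGroup.mk_mul, QuotientGroup.mk_inv, QuotientGroup.mk_inv,
      y.2]
    exact hq2
  let τ : Equiv.Perm {y : G // (QuotientGroup.mk y : G ⧸ M) = QuotientGroup.mk x} :=
    { toFun := fun y => ⟨g * (y : G)⁻¹ * g⁻¹, hmem y⟩
      invFun := fun y => ⟨g⁻¹ * (y : G)⁻¹ * g, hmem' y⟩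
      left_inv := fun y => Subtype.ext (by simp [mul_assoc])
      right_inv := fun y => Subtype.ext (by simp [mul_assoc]) }
  have hτ : ∀ y, ((τ y : {y : G // (QuotientGroup.mk y : G ⧸ M) = QuotientGroup.mk x}) : G) =
      g * (y : G)⁻¹ * g⁻¹ := fun y => rfl
  have hcard : Fintype.card {y : G // (QuotientGroup.mk y : G ⧸ M) = QuotientGroup.mk x} =
      Nat.card M := by
    rw [← Nat.card_eq_fintype_card]
    exact Nat.card_congr
      { toFun := fun y => ⟨x⁻¹ * (y : G), QuotientGroup.eq.mp y.2.symm⟩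
        invFun := fun m => ⟨x * (m : G), QuotientGroup.mk_mul_of_mem x m.2⟩
        left_inv := fun y => Subtype.ext (by simp)
        right_inv := fun m => Subtype.ext (by simp) }
  obtain ⟨k, b, hb, hkb⟩ := Nat.exists_eq_two_pow_mul_odd (orderOf_pos τ).ne'
  have hσ : (τ ^ b) ^ 2 ^ k = 1 := by rw [← pow_mul, mul_comm, ← hkb, pow_orderOf_eq_one]
  haveI : Fact (Nat.Prime 2) := ⟨Nat.prime_two⟩
  obtain ⟨y, hy⟩ := Equiv.Perm.exists_fixed_point_of_prime (p := 2) (n := k)
    (by rw [hcard]; exact fun h => (Nat.not_even_iff_odd.mpr hodd) (even_iff_two_dvd.mpr h)) hσ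
  refine ⟨y, y.2, ?_⟩
  have key : ∀ j : ℕ, IsConj (((τ ^ j) y : {y : G // (QuotientGroup.mk y : G ⧸ M) =
      QuotientGroup.mk x}) : G) (if Even j then (y : G) else (y : G)⁻¹) := by
    intro j
    induction j with
    | zero =>
      rw [pow_zero, Equiv.Perm.one_apply, if_pos (by decide : Even 0)]
    | succ j ih =>
      have h1 : (((τ ^ (j + 1)) y : {y : G // (QuotientGroup.mk y : G ⧸ M) =
          QuotientGroup.mk x}) : G) = g * (((τ ^ j) y : {y : G // (QuotientGroup.mk y : G ⧸ M) =
          QuotientGroup.mk x}) : G)⁻¹ * g⁻¹ := by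
        rw [pow_succ', Equiv.Perm.mul_apply, hτ]
      rw [h1]
      have h2 : IsConj (g * (((τ ^ j) y : {y : G // (QuotientGroup.mk y : G ⧸ M) =
          QuotientGroup.mk x}) : G)⁻¹ * g⁻¹) ((((τ ^ j) y : {y : G // (QuotientGroup.mk y : G ⧸ M) =
          QuotientGroup.mk x}) : G)⁻¹) := isConj_iff.mpr ⟨g⁻¹, by group⟩
      have h3 := isConj_inv_inv ih
      by_cases hj : Even j
      · rw [if_pos hj] at h3
        rw [if_neg (by rw [Nat.even_add_one]; exact not_not.mpr hj)]
        exact h2.trans h3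
      · rw [if_neg hj] at h3
        rw [if_pos (by rw [Nat.even_add_one]; exact hj)]
        have := h2.trans h3
        simpa using this
  have hfin := key b
  rw [hy, if_neg (Nat.not_even_iff_odd.mpr hb)] at hfin
  exact hfin

/-- If every real irreducible character of `G` is trivial on the odd-order normal subgroup `M`,
then the only real element of `G` in `M` is the identity. -/
theorem eq_one_of_real_mem [Finite G] (M : Subgroup G) [hM : M.Normal] (hodd : Odd (Nat.card M))
    (hker : ∀ χ : IrrCharacter G, (∀ g : G, (χ.1 g).im = 0) → ∀ x ∈ M, χ.1 x = χ.1 1)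
    (x : G) (hxM : x ∈ M) (hx : IsConj x x⁻¹) : x = 1 := by
  classical
  have h1 := card_real_irr_eq_card_real_classes (G := G)
  have h2 := card_real_irr_eq_card_real_classes (G := G ⧸ M)
  have h3 : Nat.card {χ : IrrCharacter (G ⧸ M) // ∀ q, (χ.1 q).im = 0} =
      Nat.card {χ : IrrCharacter G // ∀ g : G, (χ.1 g).im = 0} := by
    refine Nat.card_eq_of_bijective
      (fun χ => (⟨inflate M χ.1, fun g => χ.2 _⟩ :
        {χ : IrrCharacter G // ∀ g : G, (χ.1 g).im = 0})) ⟨?_, ?_⟩
    · intro a b hab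
      exact Subtype.ext (inflate_injective M (congrArg Subtype.val hab))
    · rintro ⟨χ, hχ⟩
      obtain ⟨χ', hχ'⟩ := exists_deflate M χ (hker χ hχ)
      refine ⟨⟨χ', fun q => ?_⟩, Subtype.ext hχ'⟩
      obtain ⟨g, rfl⟩ := QuotientGroup.mk_surjective q
      rw [← inflate_apply, hχ']
      exact hχ g
  let ρ : {C : ConjClasses G // ∀ g : G, ConjClasses.mk g = C → IsConj g g⁻¹} →
      {C : ConjClasses (G ⧸ M) // ∀ q, ConjClasses.mk q = C → IsConj q q⁻¹} :=
    fun C => ⟨ConjClasses.map (QuotientGroup.mk' M) C.1, by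
      intro q hq
      obtain ⟨g, hg⟩ := ConjClasses.exists_rep C.1
      have hgr := C.2 g hg
      rw [← hg] at hq
      have h1 : IsConj q (QuotientGroup.mk' M g) := ConjClasses.mk_eq_mk_iff_isConj.mp hq
      have h2 : IsConj (QuotientGroup.mk' M g) (QuotientGroup.mk' M g)⁻¹ := by
        rw [← map_inv]; exact (QuotientGroup.mk' M).map_isConj hgr
      exact h1.trans (h2.trans (isConj_inv_inv h1.symm))⟩
  have hsurj : Function.Surjective ρ := by
    rintro ⟨D, hD⟩
    obtain ⟨q, hq⟩ := ConjClasses.exists_rep D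
    obtain ⟨g, rfl⟩ := QuotientGroup.mk_surjective q
    obtain ⟨y, hy, hyr⟩ := exists_real_lift M hodd g (hD _ hq)
    refine ⟨⟨ConjClasses.mk y, ?_⟩, ?_⟩
    · intro g' hg'
      have h1 : IsConj g' y := ConjClasses.mk_eq_mk_iff_isConj.mp hg'
      exact h1.trans (hyr.trans (isConj_inv_inv h1.symm))
    · apply Subtype.ext
      show ConjClasses.map (QuotientGroup.mk' M) (ConjClasses.mk y) = D
      rw [← hq]
      show ConjClasses.mk (QuotientGroup.mk' M y) = _
      rw [QuotientGroup.mk'_apply, hy]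
  have hbij := (Nat.bijective_iff_surjective_and_card ρ).mpr ⟨hsurj, by rw [← h1, ← h2, h3]⟩
  have hreal1 : ∀ g : G, ConjClasses.mk g = ConjClasses.mk (1 : G) → IsConj g g⁻¹ := by
    intro g hg
    have h4 : IsConj g 1 := ConjClasses.mk_eq_mk_iff_isConj.mp hg
    rw [isConj_one_left.mp h4]
    simp
  have hrealx : ∀ g : G, ConjClasses.mk g = ConjClasses.mk x → IsConj g g⁻¹ := by
    intro g hg
    have h4 : IsConj g x := ConjClasses.mk_eq_mk_iff_isConj.mp hg
    exact h4.trans (hx.trans (isConj_inv_inv h4.symm))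
  have heq : ρ ⟨ConjClasses.mk x, hrealx⟩ = ρ ⟨ConjClasses.mk 1, hreal1⟩ := by
    apply Subtype.ext
    show ConjClasses.mk (QuotientGroup.mk' M x) = ConjClasses.mk (QuotientGroup.mk' M 1)
    rw [QuotientGroup.mk'_apply, QuotientGroup.mk'_apply, (QuotientGroup.eq_one_iff x).mpr hxM,
      QuotientGroup.mk_one]
  have h5 := congrArg Subtype.val (hbij.1 heq)
  have hc : IsConj x 1 := ConjClasses.mk_eq_mk_iff_isConj.mp h5
  exact isConj_one_left.mp hc

/-- If every real irreducible character of `G` is trivial on the odd-order normal subgroup `M`,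
then every element of `2`-power order centralizes `M`. -/
theorem two_elements_centralize [Finite G] (M : Subgroup G) [hM : M.Normal]
    (hodd : Odd (Nat.card M))
    (hker : ∀ χ : IrrCharacter G, (∀ g : G, (χ.1 g).im = 0) → ∀ x ∈ M, χ.1 x = χ.1 1) :
    Subgroup.closure {g : G | ∃ k : ℕ, orderOf g = 2 ^ k} ≤ Subgroup.centralizer (M : Set G) := by
  rw [Subgroup.closure_le]
  rintro t ⟨k, hk⟩
  induction k generalizing t with
  | zero =>
    rw [pow_zero, orderOf_eq_one_iff] at hk
    rw [hk]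
    exact Subgroup.one_mem _
  | succ k ih =>
    have ht2 : t ^ 2 ∈ Subgroup.centralizer (M : Set G) := @ih (t ^ 2) (by
      rw [orderOf_pow_of_dvd (by norm_num) (by rw [hk, pow_succ]; exact Dvd.intro_left _ rfl), hk,
        pow_succ]
      simp)
    rw [SetLike.mem_coe, Subgroup.mem_centralizer_iff]
    intro m hm
    have hc_mem : m⁻¹ * (t * m * t⁻¹) ∈ M := M.mul_mem (M.inv_mem hm) (hM.conj_mem m hm t)
    have h : m * (t * t) = t * t * m := by
      rw [← pow_two]; exact (Subgroup.mem_centralizer_iff.mp ht2) m hm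
    have e : t * m * t⁻¹ * t⁻¹ = t⁻¹ * m := by
      calc t * m * t⁻¹ * t⁻¹ = t⁻¹ * (t * t * m) * t⁻¹ * t⁻¹ := by group
        _ = t⁻¹ * (m * (t * t)) * t⁻¹ * t⁻¹ := by rw [h]
        _ = t⁻¹ * m := by group
    have hreal : IsConj (m⁻¹ * (t * m * t⁻¹)) (m⁻¹ * (t * m * t⁻¹))⁻¹ := by
      refine isConj_iff.mpr ⟨t, ?_⟩
      calc t * (m⁻¹ * (t * m * t⁻¹)) * t⁻¹ = t * m⁻¹ * (t * m * t⁻¹ * t⁻¹) := by group
        _ = t * m⁻¹ * (t⁻¹ * m) := by rw [e]
        _ = (m⁻¹ * (t * m * t⁻¹))⁻¹ := by group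
    have h1 := eq_one_of_real_mem M hodd hker _ hc_mem hreal
    calc m * t = m * (m⁻¹ * (t * m * t⁻¹)) * t := by rw [h1, mul_one]
      _ = t * m := by group

end Lift

end Cfsg.Agent.H83
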