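import Mathlib
import Cfsg.Prelude.Def_Characters
import Cfsg.Agent.H83.RealPrime
import Cfsg.Agent.H83.OddIndex
import Cfsg.Agent.H83.PowDeg
import Cfsg.Agent.H83.DefZeroReal
import Cfsg.Agent.H4.GlaubP
import Cfsg.Agent.Lib.ItoConv
import Cfsg.Agent.Lib.CliffordCorr

/-!
# Real characters of `p'`-degree and normal Sylow subgroups (helper83)

If the subgroup generated by the `p`-elements of `G` is solvable and every real-valued irreducible
character of `G` has degree prime to `p`, then the subgroup generated by the `2`-elements of `G`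
has a normal Sylow `p`-subgroup.

* `pGen p G`: the subgroup generated by the elements of `p`-power order.
* `exists_min_normal_le`, `comm_of_min_normal_solvable`, `isPGroup_or_of_min_normal`: minimal
  normal subgroups inside a solvable normal subgroup.
* `dvd_degree_of_fixed_point_free`: coprime fixed-point-free action forces `p ∣ χ(1)`.
* `exists_real_not_ker_of_complement`: a complemented normal subgroup of even order is not in the
  kernel of every real irreducible character.
-/

set_option autoImplicit false
set_option linter.unusedSectionVars false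
set_option linter.style.haveILetI false

namespace Cfsg.Agent.H83

open Cfsg Cfsg.Agent.H4 Cfsg.Agent.Clifford Cfsg.Agent.H82
open scoped ComplexConjugate

universe u

section PGen

variable {G : Type u} [Group G]

/-- The subgroup generated by the elements of `p`-power order. -/
def pGen (p : ℕ) (G : Type u) [Group G] : Subgroup G :=
  Subgroup.closure {g : G | ∃ k : ℕ, orderOf g = p ^ k}

theorem pGen_normal (p : ℕ) : (pGen p G).Normal := by
  constructor
  intro x hx g
  unfold pGen at hx ⊢
  induction hx using Subgroup.closure_induction with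
  | mem y hy =>
    apply Subgroup.subset_closure
    obtain ⟨k, hk⟩ := hy
    exact ⟨k, by rw [← hk]; exact (MulAut.conj g).orderOf_eq y⟩
  | one => simp
  | mul y z _ _ hy hz =>
    have : g * (y * z) * g⁻¹ = (g * y * g⁻¹) * (g * z * g⁻¹) := by group
    rw [this]; exact Subgroup.mul_mem _ hy hz
  | inv y _ hy =>
    have : g * y⁻¹ * g⁻¹ = (g * y * g⁻¹)⁻¹ := by group
    rw [this]; exact Subgroup.inv_mem _ hy

theorem pElt_of_pow_eq_one (p : ℕ) [hp : Fact p.Prime] {g : G} {k : ℕ} (h : g ^ p ^ k = 1) :
    ∃ j : ℕ, orderOf g = p ^ j := by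
  obtain ⟨j, -, hj⟩ := (Nat.dvd_prime_pow hp.out).mp (orderOf_dvd_of_pow_eq_one h)
  exact ⟨j, hj⟩

theorem pElt_map {G' : Type*} [Group G'] (p : ℕ) [hp : Fact p.Prime] (f : G →* G') {g : G}
    (h : ∃ k : ℕ, orderOf g = p ^ k) : ∃ k : ℕ, orderOf (f g) = p ^ k := by
  obtain ⟨k, hk⟩ := h
  apply pElt_of_pow_eq_one p (k := k)
  rw [← map_pow, ← hk, pow_orderOf_eq_one, map_one]

theorem map_pGen_le {G' : Type*} [Group G'] (p : ℕ) [Fact p.Prime] (f : G →* G') :
    (pGen p G).map f ≤ pGen p G' := by
  unfold pGen
  rw [MonoidHom.map_closure, Subgroup.closure_le]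
  rintro _ ⟨g, hg, rfl⟩
  exact Subgroup.subset_closure (pElt_map p f hg)

theorem pGen_pGen (p : ℕ) : pGen p ↥(pGen p G) = ⊤ := by
  rw [eq_top_iff]
  have h : pGen p G ≤ (pGen p ↥(pGen p G)).map (pGen p G).subtype := by
    conv_lhs => unfold pGen
    rw [Subgroup.closure_le]
    rintro g ⟨k, hk⟩
    have hg : g ∈ pGen p G := Subgroup.subset_closure ⟨k, hk⟩
    refine ⟨⟨g, hg⟩, Subgroup.subset_closure ⟨k, ?_⟩, rfl⟩
    rw [← hk]; exact Subgroup.orderOf_mk g hg
  intro x _
  obtain ⟨y, hy, hxy⟩ := h x.2
  have : y = x := Subtype.ext hxy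
  rw [← this]; exact hy

theorem sylow_le_pGen (p : ℕ) [Fact p.Prime] (P : Sylow p G) :
    (P : Subgroup G) ≤ pGen p G := by
  intro x hx
  apply Subgroup.subset_closure
  obtain ⟨k, hk⟩ := P.isPGroup' ⟨x, hx⟩
  have h1 : x ^ p ^ k = 1 := by simpa using congrArg Subtype.val hk
  exact pElt_of_pow_eq_one p h1

theorem not_dvd_index_pGen [Finite G] (p : ℕ) [Fact p.Prime] : ¬ p ∣ (pGen p G).index := by
  obtain ⟨P⟩ : Nonempty (Sylow p G) := inferInstance
  intro h
  exact P.not_dvd_index (dvd_trans h (Subgroup.index_dvd_of_le (sylow_le_pGen p P)))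

theorem odd_index_pGen_two [Finite G] : Odd (pGen 2 G).index := by
  haveI : Fact (Nat.Prime 2) := ⟨Nat.prime_two⟩
  rw [← Nat.not_even_iff_odd, even_iff_two_dvd]
  exact not_dvd_index_pGen 2

/-- The `p`-elements of a quotient lie in the image of `pGen p G`. -/
theorem pGen_quotient_le [Finite G] (p : ℕ) [Fact p.Prime] (N : Subgroup G) [N.Normal] :
    pGen p (G ⧸ N) ≤ (pGen p G).map (QuotientGroup.mk' N) := by
  haveI := pGen_normal (G := G) p
  conv_lhs => unfold pGen
  rw [Subgroup.closure_le]
  rintro q ⟨k, hk⟩
  obtain ⟨g, rfl⟩ := QuotientGroup.mk_surjective q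
  have h1 : ((g : G ⧸ N)) ^ (pGen p G).index ∈ (pGen p G).map (QuotientGroup.mk' N) :=
    ⟨g ^ (pGen p G).index, Subgroup.pow_index_mem _ g, rfl⟩
  have hc : ((pGen p G).index).Coprime (orderOf (g : G ⧸ N)) := by
    rw [hk]
    exact Nat.Coprime.pow_right k
      ((Nat.Prime.coprime_iff_not_dvd Fact.out).mpr (not_dvd_index_pGen p)).symm
  obtain ⟨m, hm⟩ := exists_pow_eq_self_of_coprime hc
  rw [SetLike.mem_coe, ← hm]
  exact Subgroup.pow_mem _ h1 m

/-- A surjection maps a group generated by `p`-elements onto one. -/
theorem pGen_eq_top_of_surjective {G' : Type*} [Group G'] (p : ℕ) [Fact p.Prime] (f : G →* G')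
    (hf : Function.Surjective f) (h : pGen p G = ⊤) : pGen p G' = ⊤ := by
  rw [eq_top_iff]
  have := map_pGen_le p f
  rw [h, ← MonoidHom.range_eq_map, MonoidHom.range_eq_top.mpr hf] at this
  exact this

end PGen

section MinNormal

variable {G : Type u} [Group G]

theorem exists_min_normal_le [Finite G] (L : Subgroup G) [hL : L.Normal] (hne : L ≠ ⊥) :
    ∃ N : Subgroup G, N.Normal ∧ N ≠ ⊥ ∧ N ≤ L ∧
      ∀ N' : Subgroup G, N'.Normal → N' ≤ N → N' = ⊥ ∨ N' = N := by
  classical
  have hex : ∃ k : ℕ, ∃ T : Subgroup G, T.Normal ∧ T ≠ ⊥ ∧ T ≤ L ∧ Nat.card T = k :=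
    ⟨_, L, hL, hne, le_rfl, rfl⟩
  obtain ⟨T, hTn, hT0, hTL, hTk⟩ := Nat.find_spec hex
  refine ⟨T, hTn, hT0, hTL, fun N' hN' hle => ?_⟩
  by_contra hcon
  push Not at hcon
  have hlt : Nat.card N' < Nat.card T := by
    by_contra hge
    push Not at hge
    exact hcon.2 (Subgroup.eq_of_le_of_card_ge hle hge)
  exact Nat.find_min hex (hTk ▸ hlt) ⟨N', hN', hcon.1, hle.trans hTL, rfl⟩

theorem comm_of_min_normal_solvable (N : Subgroup G) [hN : N.Normal] (hne : N ≠ ⊥)
    (hmin : ∀ N' : Subgroup G, N'.Normal → N' ≤ N → N' = ⊥ ∨ N' = N)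
    (hsol : Group.IsSolvable N) : ∀ a ∈ N, ∀ b ∈ N, a * b = b * a := by
  have hnorm : (⁅N, N⁆ : Subgroup G).Normal := Subgroup.commutator_normal N N
  have hle : ⁅N, N⁆ ≤ N := Subgroup.commutator_le_left N N
  rcases hmin _ hnorm hle with h | h
  · intro a ha b hb
    have := Subgroup.commutator_mem_commutator ha hb
    rw [h, Subgroup.mem_bot] at this
    exact commutatorElement_eq_one_iff_mul_comm.mp this
  · exfalso
    haveI : Nontrivial N := (Subgroup.nontrivial_iff_ne_bot N).mpr hne
    have h1 := Group.IsSolvable.commutator_lt_top_of_nontrivial N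
    have h2 : (commutator N).map N.subtype = N := by
      rw [Subgroup.map_subtype_commutator]; exact h
    apply h1.ne
    apply Subgroup.map_injective N.subtype_injective
    rw [h2, ← MonoidHom.range_eq_map, Subgroup.range_subtype]

theorem isPGroup_or_of_min_normal [Finite G] (p : ℕ) [Fact p.Prime] (N : Subgroup G)
    [hN : N.Normal] (hmin : ∀ N' : Subgroup G, N'.Normal → N' ≤ N → N' = ⊥ ∨ N' = N)
    (hcomm : ∀ a ∈ N, ∀ b ∈ N, a * b = b * a) : IsPGroup p N ∨ ¬ p ∣ Nat.card N := by
  let Ω : Subgroup G :=
    { carrier := {n | n ∈ N ∧ n ^ p = 1}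
      mul_mem' := by
        rintro a b ⟨ha, ha'⟩ ⟨hb, hb'⟩
        refine ⟨N.mul_mem ha hb, ?_⟩
        rw [(show Commute a b from hcomm a ha b hb).mul_pow, ha', hb', one_mul]
      one_mem' := ⟨N.one_mem, one_pow p⟩
      inv_mem' := by
        rintro a ⟨ha, ha'⟩
        exact ⟨N.inv_mem ha, by rw [inv_pow, ha', inv_one]⟩ }
  have hΩn : Ω.Normal := ⟨by
    rintro a ⟨ha, ha'⟩ g
    refine ⟨hN.conj_mem a ha g, ?_⟩
    rw [conj_pow, ha']; simp⟩
  have hΩle : Ω ≤ N := fun a ha => ha.1
  rcases hmin Ω hΩn hΩle with h | h
  · right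
    intro hdvd
    obtain ⟨x, hx⟩ := exists_prime_orderOf_dvd_card' p hdvd
    have hmem : (x : G) ∈ Ω := ⟨x.2, by
      rw [← Subgroup.coe_pow]
      have : x ^ p = 1 := by rw [← hx]; exact pow_orderOf_eq_one x
      rw [this]; rfl⟩
    rw [h, Subgroup.mem_bot] at hmem
    have : x = 1 := Subtype.ext hmem
    rw [this, orderOf_one] at hx
    exact (Fact.out : p.Prime).ne_one hx.symm
  · left
    intro x
    refine ⟨1, ?_⟩
    have : (x : G) ∈ Ω := by rw [h]; exact x.2
    apply Subtype.ext
    rw [pow_one]
    simpa using this.2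

/-- For `M ⊴ G`, the index of `I ∩ M` in `M` divides the index of `I` in `G`. -/
theorem relIndex_dvd_index_of_normal_right [Finite G] (I M : Subgroup G) [hM : M.Normal] :
    I.relIndex M ∣ I.index := by
  have h1 : Nat.card I * I.relIndex (I ⊔ M) = Nat.card (I ⊔ M : Subgroup G) := by
    rw [← Subgroup.relIndex_bot_left, ← Subgroup.relIndex_bot_left]
    exact Subgroup.relIndex_mul_relIndex _ _ _ bot_le le_sup_left
  have h2 : Nat.card M * M.relIndex I = Nat.card (I ⊔ M : Subgroup G) := by
    rw [← Subgroup.relIndex_sup_right I M, ← Subgroup.relIndex_bot_left,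
      ← Subgroup.relIndex_bot_left]
    exact Subgroup.relIndex_mul_relIndex _ _ _ bot_le le_sup_right
  have h3 : Nat.card (I ⊓ M : Subgroup G) * M.relIndex I = Nat.card I := by
    rw [← Subgroup.inf_relIndex_left, ← Subgroup.relIndex_bot_left, ← Subgroup.relIndex_bot_left]
    exact Subgroup.relIndex_mul_relIndex _ _ _ bot_le inf_le_left
  have h4 : Nat.card (I ⊓ M : Subgroup G) * I.relIndex M = Nat.card M := by
    rw [← Subgroup.inf_relIndex_right, ← Subgroup.relIndex_bot_left, ← Subgroup.relIndex_bot_left]
    exact Subgroup.relIndex_mul_relIndex _ _ _ bot_le inf_le_right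
  have h5 : I.relIndex (I ⊔ M) = I.relIndex M := by
    have hI : 0 < Nat.card I := Nat.card_pos
    apply Nat.eq_of_mul_eq_mul_left hI
    rw [h1, ← h2, ← h4, ← h3]
    ring
  rw [← h5]
  exact Subgroup.relIndex_dvd_index_of_le le_sup_left

end MinNormal

section ClaimA

variable {G : Type u} [Group G]

/-- If the `p`-group `P` acts without nontrivial fixed points on the normal `p'`-subgroup `N`, and
`P ≤ M ⊴ G` with `M / N` a `p`-group, then every irreducible character of `G` not trivial on `N`
has degree divisible by `p`. -/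
theorem dvd_degree_of_fixed_point_free [Fintype G] (p : ℕ) [Fact p.Prime] (N M P : Subgroup G)
    [hN : N.Normal] [hM : M.Normal] (hPM : P ≤ M) (hP : IsPGroup p P)
    (hidx : ∃ a : ℕ, N.relIndex M = p ^ a) (hcop : ¬ p ∣ Nat.card N)
    (hfix : ∀ n ∈ N, (∀ x ∈ P, x * n = n * x) → n = 1)
    (χ : IrrCharacter G) (hχ : ¬ ∀ x ∈ N, χ.1 x = χ.1 1) : p ∣ charDegree χ.1 := by
  classical
  have hp := (Fact.out : p.Prime)
  by_contra hnd
  haveI : Fintype N := Fintype.ofFinite N
  letI := fintypeIrr N
  have hχN : IsCharacter N (fun n : N => χ.1 n) :=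
    isCharacter_restrict _ (isCharacter_of_isIrrCharacter χ.2)
  have h0 : classInner (fun n : N => χ.1 n) (1 : N → ℂ) = 0 := by
    by_contra h
    exact hχ fun x hx => const_of_over_one N χ.2 h ⟨x, hx⟩
  obtain ⟨θ, hθ⟩ : ∃ θ : IrrCharacter N, classInner (fun n : N => χ.1 n) θ.1 ≠ 0 := by
    by_contra hcon
    push Not at hcon
    have h2 := classFunction_eq_finsum (isClassFunction_of_isCharacter hχN)
    have h3 : (fun n : N => χ.1 n) = 0 :=
      h2.trans (finsum_eq_zero_of_forall_eq_zero fun θ => by rw [hcon θ, zero_smul])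
    have h4 := congrFun h3 1
    simp only [OneMemClass.coe_one, Pi.zero_apply] at h4
    exact H82.irr_one_ne_zero χ h4
  have hθ1 : θ ≠ H78.trivIrr N := by
    rintro rfl
    exact hθ h0
  obtain ⟨f, hf⟩ := classInner_isCharacter_nat hχN (isCharacter_of_isIrrCharacter θ.2)
  have hf0 : f ≠ 0 := by
    rintro rfl
    apply hθ
    rw [hf]; simp
  have hdeg := degree_over_mult N θ χ f hf hf0
  have hNT : N ≤ Clifford.inertia N θ.1 :=
    le_inertia N (isClassFunction_of_isCharacter (isCharacter_of_isIrrCharacter θ.2))
  have hIidx : ¬ p ∣ (Clifford.inertia N θ.1).index := by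
    intro h
    apply hnd
    rw [hdeg, mul_assoc]
    exact Dvd.dvd.mul_right h _
  have hMI : M ≤ Clifford.inertia N θ.1 := by
    rw [← Subgroup.relIndex_eq_one]
    have h1 := relIndex_dvd_index_of_normal_right (Clifford.inertia N θ.1) M
    have h2 : (Clifford.inertia N θ.1).relIndex M ∣ N.relIndex M :=
      Subgroup.relIndex_dvd_of_le_left M hNT
    obtain ⟨a, ha⟩ := hidx
    rw [ha] at h2
    obtain ⟨j, -, hj⟩ := (Nat.dvd_prime_pow hp).mp h2
    rcases Nat.eq_zero_or_pos j with hj0 | hjpos
    · rw [hj, hj0, pow_zero]
    · exfalso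
      apply hIidx
      exact dvd_trans (hj ▸ dvd_pow_self p hjpos.ne') h1
  have hnorm : ∀ s ∈ P, ∀ g ∈ N, s * g * s⁻¹ ∈ N := fun s _ g hg => hN.conj_mem g hg s
  letI := conjAct N P hnorm
  have hinv : ∀ (s : P) (n : N), θ.1 (s • n) = θ.1 n := by
    intro s n
    have h1 : conjChar N θ.1 (s : G) = θ.1 := hMI (hPM s.2)
    exact congrFun h1 n
  have key := pDiv_sum_sub_sum_fixed hp hP (fun n : N => θ.1 n) hinv
    (fun n => Cfsg.Agent.H81.irr_isIntegral θ n)
  have hfixed : Finset.univ.filter (fun n : N => ∀ s : P, s • n = n) = {1} := by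
    ext n
    simp only [Finset.mem_filter, Finset.mem_univ, true_and, Finset.mem_singleton]
    constructor
    · intro h
      apply Subtype.ext
      apply hfix n n.2
      intro x hx
      have h1 := congrArg Subtype.val (h ⟨x, hx⟩)
      have h2 : x * (n : G) * x⁻¹ = (n : G) := h1
      calc x * (n : G) = x * (n : G) * x⁻¹ * x := by group
        _ = (n : G) * x := by rw [h2]
    · rintro rfl s
      exact smul_one s
  rw [hfixed, Finset.sum_singleton, H78.irr_sum_eq_zero hθ1, zero_sub] at key
  have key2 : PDiv p (((charDegree θ.1 : ℕ) : ℤ) : ℂ) := by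
    have := key.neg
    rw [neg_neg, irr_one_eq_charDegree θ] at this
    exact_mod_cast this
  have h5 : (p : ℤ) ∣ ((charDegree θ.1 : ℕ) : ℤ) := PDiv.dvd_int hp.pos key2
  have h6 : p ∣ charDegree θ.1 := by exact_mod_cast h5
  exact hcop (dvd_trans h6 (Cfsg.Agent.H81.irr_charDegree_dvd θ))

end ClaimA

section ClaimB

variable {G : Type u} [Group G]

/-- A normal subgroup of even order having a complement is not contained in the kernel of every
real-valued irreducible character. -/
theorem exists_real_not_ker_of_complement [Fintype G] (N H : Subgroup G) [hN : N.Normal]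
    (hdisj : N ⊓ H = ⊥) (hidx : H.index = Nat.card N) (heven : Even (Nat.card N)) :
    ∃ χ : IrrCharacter G, (∀ g, (χ.1 g).im = 0) ∧ ¬ ∀ x ∈ N, χ.1 x = χ.1 1 := by
  classical
  haveI : Fintype N := Fintype.ofFinite N
  haveI : Fintype H := Fintype.ofFinite H
  letI := fintypeIrr G
  by_contra hcon
  push Not at hcon
  have hAchar : IsCharacter G (indFun H (fun _ : H => (1 : ℂ))) :=
    isCharacter_indFun H _ (isCharacter_of_isIrrCharacter (isIrrCharacter_one H))
  have h1N : IsCharacter N (fun _ : N => (1 : ℂ)) :=
    isCharacter_of_isIrrCharacter (isIrrCharacter_one N)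
  obtain ⟨a, c, ha, hc, hsum⟩ := classInner_comp_expand_nat hAchar N.subtype h1N
  have hcardN : (Nat.card N : ℂ) ≠ 0 := by
    exact_mod_cast (Nat.card_pos (α := N)).ne'
  -- the induced character vanishes on `N \ {1}`
  have hAN : ∀ n : N, n ≠ 1 → indFun H (fun _ : H => (1 : ℂ)) (n : G) = 0 := by
    intro n hn
    rw [indFun_apply, Finset.sum_eq_zero, mul_zero]
    intro x _
    apply extendByZero_of_not_mem
    intro hmem
    have h1 : x⁻¹ * (n : G) * x ∈ N := by
      have := hN.conj_mem (n : G) n.2 x⁻¹
      simpa using this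
    have h2 : x⁻¹ * (n : G) * x ∈ N ⊓ H := ⟨h1, hmem⟩
    rw [hdisj, Subgroup.mem_bot] at h2
    apply hn
    apply Subtype.ext
    have : (n : G) = x * (x⁻¹ * (n : G) * x) * x⁻¹ := by group
    rw [this, h2]; simp
  have hA1 : indFun H (fun _ : H => (1 : ℂ)) 1 = (Nat.card N : ℂ) := by
    rw [indFun_one_eq, hidx, mul_one]
  have hsum1 : ∑ χ : IrrCharacter G, a χ * c χ = 1 := by
    have h1 : classInner (fun n : N => indFun H (fun _ : H => (1 : ℂ)) (N.subtype n))
        (fun _ : N => (1 : ℂ)) = 1 := by
      unfold classInner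
      rw [Finset.sum_eq_single (1 : N)]
      · simp only [map_one]
        rw [hA1]; field_simp
      · intro n _ hn
        show indFun H (fun _ : H => (1 : ℂ)) (n : G) * _ = 0
        rw [hAN n hn, zero_mul]
      · intro h; exact absurd (Finset.mem_univ _) h
    rw [h1, finsum_irr_eq_sum] at hsum
    exact_mod_cast hsum.symm
  have hsumd : ∑ χ : IrrCharacter G, a χ * charDegree χ.1 = Nat.card N := by
    have h2 := congrFun (classFunction_eq_finsum (isClassFunction_of_isCharacter hAchar)) 1
    rw [finsum_irr_apply, finsum_irr_eq_sum, hA1] at h2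
    have h3 : ((Nat.card N : ℕ) : ℂ) =
        ((∑ χ : IrrCharacter G, a χ * charDegree χ.1 : ℕ) : ℂ) := by
      rw [h2]; push_cast
      refine Finset.sum_congr rfl fun χ _ => ?_
      rw [ha χ, irr_one_eq_charDegree]
    exact_mod_cast h3.symm
  -- invariance under complex conjugation
  have haconj : ∀ χ, a (irrConj χ) = a χ := by
    intro χ
    have : (a (irrConj χ) : ℂ) = a χ := by
      rw [← ha, ← ha]
      rw [frobenius_reciprocity H _ _ (irr_isClassFunction (irrConj χ)),
        frobenius_reciprocity H _ _ (irr_isClassFunction χ)]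
      have h3 : classInner (fun _ : H => (1 : ℂ)) (fun h : H => (irrConj χ).1 h) =
          conj (classInner (fun _ : H => (1 : ℂ)) (fun h : H => χ.1 h)) := by
        unfold classInner
        rw [map_mul, map_inv₀, Complex.conj_natCast, map_sum]
        congr 1
        refine Finset.sum_congr rfl fun g _ => ?_
        rw [map_mul]
        simp [irrConj]
      rw [h3, ← frobenius_reciprocity H _ _ (irr_isClassFunction χ), ha, Complex.conj_natCast]
    exact_mod_cast this
  have hcconj : ∀ χ, c (irrConj χ) = c χ := by
    intro χ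
    have : (c (irrConj χ) : ℂ) = c χ := by
      rw [← hc, ← hc]
      have h3 : classInner (fun n : N => (irrConj χ).1 (N.subtype n)) (fun _ => (1 : ℂ)) =
          conj (classInner (fun n : N => χ.1 (N.subtype n)) (fun _ => (1 : ℂ))) := by
        unfold classInner
        rw [map_mul, map_inv₀, Complex.conj_natCast, map_sum]
        congr 1
        refine Finset.sum_congr rfl fun g _ => ?_
        rw [map_mul]
        simp [irrConj]
      rw [h3, hc, Complex.conj_natCast]
    exact_mod_cast this
  have hdconj : ∀ χ : IrrCharacter G, charDegree (irrConj χ).1 = charDegree χ.1 := by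
    intro χ
    have : ((charDegree (irrConj χ).1 : ℕ) : ℂ) = (charDegree χ.1 : ℕ) := by
      rw [← irr_one_eq_charDegree, ← irr_one_eq_charDegree]
      show conj (χ.1 1) = χ.1 1
      rw [irr_one_eq_charDegree, Complex.conj_natCast]
    exact_mod_cast this
  have hodd : Odd (∑ χ : IrrCharacter G, a χ * (charDegree χ.1 + c χ)) := by
    simp only [mul_add]
    rw [Finset.sum_add_distrib, hsumd, hsum1]
    exact heven.add_one
  obtain ⟨χ, hχfix, hχodd⟩ := exists_fixed_odd irrConj irrConj_irrConj
    (fun χ => a χ * (charDegree χ.1 + c χ)) (fun χ => by rw [haconj, hcconj, hdconj]) hodd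
  have hreal := (irrConj_eq_self_iff χ).mp hχfix
  have hker := hcon χ hreal
  have hcd : c χ = charDegree χ.1 := by
    have : (c χ : ℂ) = (charDegree χ.1 : ℕ) := by
      rw [← hc χ]
      unfold classInner
      have h7 : ∀ n : N, χ.1 (N.subtype n) * conj (1 : ℂ) = (charDegree χ.1 : ℂ) := by
        intro n
        rw [map_one, mul_one, Subgroup.coe_subtype, hker n n.2, irr_one_eq_charDegree]
      rw [Finset.sum_congr rfl (fun n _ => h7 n), Finset.sum_const, Finset.card_univ,
        nsmul_eq_mul, ← Nat.card_eq_fintype_card]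
      field_simp
    exact_mod_cast this
  rw [hcd, ← two_mul] at hχodd
  have : Even (a χ * (2 * charDegree χ.1)) := by
    rw [← mul_assoc, mul_comm (a χ) 2, mul_assoc]
    exact even_two_mul _
  exact (Nat.not_even_iff_odd.mpr hχodd) this

end ClaimB

section Main

/-- The conclusion: the `p`-elements of `pGen 2 G` lie in a normal `p`-subgroup of `G`. -/
def NSyl (p : ℕ) (G : Type u) [Group G] : Prop :=
  ∃ P : Subgroup G, P.Normal ∧ IsPGroup p P ∧
    ∀ x ∈ pGen 2 G, (∃ k : ℕ, orderOf x = p ^ k) → x ∈ P

/-- The hypothesis: real-valued irreducible characters have degree prime to `p`. -/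
def RealHyp (p : ℕ) (G : Type u) [Group G] : Prop :=
  ∀ χ : IrrCharacter G, (∀ g : G, (χ.1 g).im = 0) → ¬ p ∣ charDegree χ.1

/-- The hypothesis on real characters passes to normal subgroups of odd index. -/
theorem realHyp_subgroup_odd {G : Type u} [Group G] [Finite G] (p : ℕ) (K : Subgroup G)
    [hK : K.Normal] (hodd : Odd K.index) (h : RealHyp p G) : RealHyp p K := by
  classical
  haveI : Fintype G := Fintype.ofFinite G
  haveI : Fintype K := Fintype.ofFinite K
  intro θ hθ
  have hν : H78.indicator θ.1 ≠ 0 := by
    rcases H78.irr_indicator_sq_of_real θ hθ with h1 | h1 <;> rw [h1] <;> norm_num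
  have hsum := sum_indicator_mul K hodd θ
  obtain ⟨χ, hχ⟩ : ∃ χ : IrrCharacter G,
      H78.indicator χ.1 * classInner (fun n : K => χ.1 n) θ.1 ≠ 0 := by
    by_contra hall
    push Not at hall
    rw [finsum_congr hall] at hsum
    simp at hsum
    exact hν hsum.symm
  have hν₀ : H78.indicator χ.1 ≠ 0 := left_ne_zero_of_mul hχ
  have hm₀ : classInner (fun n : K => χ.1 n) θ.1 ≠ 0 := right_ne_zero_of_mul hχ
  have hreal : ∀ g, (χ.1 g).im = 0 := by
    intro g
    by_contra hg
    exact hν₀ (H78.irr_indicator_eq_zero_of_not_real χ g hg)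
  obtain ⟨f, hf⟩ := Cfsg.Agent.ItoConv.degree_over K θ χ hm₀
  intro hdvd
  apply h χ hreal
  rw [hf]
  exact Dvd.dvd.mul_left hdvd _

theorem nsyl_main (p : ℕ) [hp : Fact p.Prime] : ∀ (n : ℕ) (G : Type u) [Group G] [Finite G],
    Nat.card G ≤ n → Group.IsSolvable ↥(pGen p G) → RealHyp p G → NSyl p G := by
  intro n
  induction n with
  | zero =>
    intro G _ _ hcard
    exact absurd hcard (by have := Nat.card_pos (α := G); omega)
  | succ n ih =>
    intro G _ _ hcard hsolv hreal
    classical
    haveI : Fintype G := Fintype.ofFinite G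
    haveI hKn : (pGen 2 G).Normal := pGen_normal 2
    haveI hLn : (pGen p G).Normal := pGen_normal p
    by_cases hK : pGen 2 G = ⊤
    swap
    · -- the case `K < G`
      have hcardK : Nat.card (pGen 2 G) ≤ n := by
        have h1 : Nat.card (pGen 2 G) < Nat.card G := by
          by_contra hge
          push Not at hge
          exact hK (Subgroup.eq_top_of_le_card _ hge)
        omega
      have hsolvK : Group.IsSolvable ↥(pGen p ↥(pGen 2 G)) := by
        have hle : (pGen p ↥(pGen 2 G)).map (pGen 2 G).subtype ≤ pGen p G :=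
          map_pGen_le p (pGen 2 G).subtype
        let f : ↥(pGen p ↥(pGen 2 G)) →* ↥(pGen p G) :=
          { toFun := fun x => ⟨((x : ↥(pGen 2 G)) : G), hle ⟨x, x.2, rfl⟩⟩
            map_one' := rfl
            map_mul' := fun x y => rfl }
        have hf : Function.Injective f := by
          intro x y hxy
          have := congrArg Subtype.val hxy
          exact Subtype.ext (Subtype.ext this)
        exact Group.isSolvable_of_isSolvable_injective hf
      have hrealK : RealHyp p ↥(pGen 2 G) :=
        realHyp_subgroup_odd p (pGen 2 G) odd_index_pGen_two hreal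
      obtain ⟨PK, hPKn, hPKp, hPKall⟩ := ih ↥(pGen 2 G) hcardK hsolvK hrealK
      have htop : pGen 2 ↥(pGen 2 G) = ⊤ := pGen_pGen 2
      refine ⟨PK.map (pGen 2 G).subtype, ?_, hPKp.map _, ?_⟩
      · constructor
        rintro _ ⟨y, hy, rfl⟩ g
        have hmem : g * (y : G) * g⁻¹ ∈ pGen 2 G := hKn.conj_mem _ y.2 g
        refine ⟨⟨g * (y : G) * g⁻¹, hmem⟩, ?_, rfl⟩
        apply hPKall _ (by rw [htop]; exact Subgroup.mem_top _)
        obtain ⟨k, hk⟩ := hPKp ⟨y, hy⟩
        have h1 : (y : G) ^ p ^ k = 1 := by
          have := congrArg (fun z : PK => ((z : ↥(pGen 2 G)) : G)) hk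
          simpa using this
        apply pElt_of_pow_eq_one p (k := k)
        apply Subtype.ext
        show (g * (y : G) * g⁻¹) ^ p ^ k = 1
        rw [conj_pow, h1]; simp
      · intro x hx hxp
        refine ⟨⟨x, hx⟩, ?_, rfl⟩
        apply hPKall _ (by rw [htop]; exact Subgroup.mem_top _)
        obtain ⟨k, hk⟩ := hxp
        exact ⟨k, by rw [← hk]; exact Subgroup.orderOf_mk x hx⟩
    · -- the case `K = G`
      by_cases hL : pGen p G = ⊥
      · refine ⟨⊥, Subgroup.normal_bot, IsPGroup.of_bot, ?_⟩
        intro x _ hxp
        have : x ∈ pGen p G := Subgroup.subset_closure hxp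
        rwa [hL] at this
      · obtain ⟨N, hNn, hN0, hNL, hNmin⟩ := exists_min_normal_le (pGen p G) hL
        haveI := hNn
        have hsolN : Group.IsSolvable N :=
          Group.isSolvable_of_isSolvable_injective (Subgroup.inclusion_injective hNL)
        have hcomm := comm_of_min_normal_solvable N hN0 hNmin hsolN
        have hpN := isPGroup_or_of_min_normal p N hNmin hcomm
        have hcardQ : Nat.card (G ⧸ N) ≤ n := by
          have h1 : Nat.card G = Nat.card (G ⧸ N) * Nat.card N :=
            Subgroup.card_eq_card_quotient_mul_card_subgroup N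
          have h2 : 1 < Nat.card N := (Subgroup.one_lt_card_iff_ne_bot N).mpr hN0
          have h3 : 0 < Nat.card (G ⧸ N) := Nat.card_pos
          nlinarith
        have hsolvQ : Group.IsSolvable ↥(pGen p (G ⧸ N)) := by
          have hle := pGen_quotient_le p N
          haveI : Group.IsSolvable ↥((pGen p G).map (QuotientGroup.mk' N)) :=
            Group.isSolvable_of_surjective
              ((QuotientGroup.mk' N).subgroupMap_surjective (pGen p G))
          exact Group.isSolvable_of_isSolvable_injective (Subgroup.inclusion_injective hle)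
        have hrealQ : RealHyp p (G ⧸ N) := by
          intro χ hχ
          rw [← charDegree_inflate N χ]
          apply hreal (inflate N χ)
          intro g
          rw [inflate_apply]; exact hχ _
        obtain ⟨Pbar, hPbn, hPbp, hPball⟩ := ih (G ⧸ N) hcardQ hsolvQ hrealQ
        have htopQ : pGen 2 (G ⧸ N) = ⊤ :=
          pGen_eq_top_of_surjective 2 (QuotientGroup.mk' N) (QuotientGroup.mk'_surjective N) hK
        obtain ⟨M, hMdef⟩ : ∃ M : Subgroup G, M = Pbar.comap (QuotientGroup.mk' N) := ⟨_, rfl⟩
        haveI hMn : M.Normal := by rw [hMdef]; exact hPbn.comap _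
        have hmemM : ∀ x : G, x ∈ M ↔ QuotientGroup.mk' N x ∈ Pbar := by
          intro x; rw [hMdef]; exact Subgroup.mem_comap
        have hNM : N ≤ M := by
          intro x hx
          rw [hmemM, QuotientGroup.mk'_apply, (QuotientGroup.eq_one_iff x).mpr hx]
          exact Pbar.one_mem
        have hMall : ∀ x : G, (∃ k : ℕ, orderOf x = p ^ k) → x ∈ M := by
          intro x hx
          rw [hmemM]
          exact hPball _ (by rw [htopQ]; exact Subgroup.mem_top _) (pElt_map p _ hx)
        rcases hpN with hNp | hNp
        · -- `N` is a `p`-group, so `M` is a normal `p`-subgroup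
          refine ⟨M, hMn, ?_, fun x _ hx => hMall x hx⟩
          intro x
          obtain ⟨k, hk⟩ := hPbp ⟨QuotientGroup.mk' N (x : G), (hmemM _).mp x.2⟩
          have h1 : (x : G) ^ p ^ k ∈ N := by
            have := congrArg Subtype.val hk
            rw [← QuotientGroup.eq_one_iff]
            simpa using this
          obtain ⟨j, hj⟩ := hNp ⟨_, h1⟩
          refine ⟨k + j, ?_⟩
          apply Subtype.ext
          have := congrArg Subtype.val hj
          simp only [Subgroup.coe_pow, Subgroup.coe_one] at this ⊢
          rw [pow_add, pow_mul]; exact this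
        · -- `p ∤ |N|`
          obtain ⟨P⟩ : Nonempty (Sylow p G) := inferInstance
          have hPM : (P : Subgroup G) ≤ M := fun x hx => hMall x (by
            obtain ⟨k, hk⟩ := P.isPGroup' ⟨x, hx⟩
            exact pElt_of_pow_eq_one p (by simpa using congrArg Subtype.val hk))
          have hMPN : M = (P : Subgroup G) ⊔ N := by
            have h1 : Pbar = (P : Subgroup G).map (QuotientGroup.mk' N) := by
              have := (P.mapSurjective (QuotientGroup.mk'_surjective N)).is_maximal' hPbp (by
                rw [Sylow.coe_mapSurjective]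
                rintro _ ⟨x, hx, rfl⟩
                exact (hmemM x).mp (hPM hx))
              rw [this, Sylow.coe_mapSurjective]
            rw [hMdef, h1, Subgroup.comap_map_eq, QuotientGroup.ker_mk']
          have hidx : ∃ a : ℕ, N.relIndex M = p ^ a := by
            have h1 : N.relIndex M = Nat.card (M.map (QuotientGroup.mk' N)) := by
              have := Subgroup.relIndex_ker M (QuotientGroup.mk' N)
              rwa [QuotientGroup.ker_mk'] at this
            rw [h1, hMdef,
              Subgroup.map_comap_eq_self_of_surjective (QuotientGroup.mk'_surjective N)]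
            exact IsPGroup.iff_card.mp hPbp
          by_cases hcent : ∀ n ∈ N, ∀ x ∈ M, x * n = n * x
          · -- `N` is central in `M`, so `P` is normal in `G`
            have hPall : ∀ y ∈ M, (∃ k : ℕ, orderOf y = p ^ k) → y ∈ (P : Subgroup G) := by
              intro y hy ⟨k, hk⟩
              rw [hMPN, Subgroup.mem_sup_of_normal_right] at hy
              obtain ⟨a, ha, m, hm, rfl⟩ := hy
              have hcomm' : Commute a m := hcent m hm a (hPM ha)
              obtain ⟨j, hj⟩ := P.isPGroup' ⟨a, ha⟩
              have haj : a ^ p ^ j = 1 := by simpa using congrArg Subtype.val hj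
              have h1 : m ^ p ^ (k + j) = 1 := by
                have h2 : (a * m) ^ p ^ (k + j) = 1 := by
                  rw [pow_add, pow_mul, ← hk, pow_orderOf_eq_one, one_pow]
                rw [hcomm'.mul_pow] at h2
                have h3 : a ^ p ^ (k + j) = 1 := by
                  rw [pow_add, mul_comm, pow_mul, haj, one_pow]
                rwa [h3, one_mul] at h2
              have hm1 : m = 1 := by
                have hd1 : orderOf m ∣ p ^ (k + j) := orderOf_dvd_of_pow_eq_one h1
                have hd2 : orderOf m ∣ Nat.card N := Subgroup.orderOf_dvd_natCard N hm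
                have hcop : Nat.Coprime (p ^ (k + j)) (Nat.card N) :=
                  Nat.Coprime.pow_left _ ((Nat.Prime.coprime_iff_not_dvd hp.out).mpr hNp)
                exact orderOf_eq_one_iff.mp (Nat.eq_one_of_dvd_coprimes hcop hd1 hd2)
              rw [hm1, mul_one]; exact ha
            have hPn : (P : Subgroup G).Normal := by
              constructor
              intro x hx g
              apply hPall _ (hMn.conj_mem x (hPM hx) g)
              obtain ⟨k, hk⟩ := P.isPGroup' ⟨x, hx⟩
              have hxk : x ^ p ^ k = 1 := by simpa using congrArg Subtype.val hk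
              apply pElt_of_pow_eq_one p (k := k)
              rw [conj_pow, hxk]; simp
            exact ⟨P, hPn, P.isPGroup', fun x _ hx => hPall x (hMall x hx) hx⟩
          · exfalso
            have hCn : (N ⊓ Subgroup.centralizer (M : Set G)).Normal :=
              Subgroup.normal_inf_normal _ _
            have hCbot : N ⊓ Subgroup.centralizer (M : Set G) = ⊥ := by
              rcases hNmin _ hCn inf_le_left with h | h
              · exact h
              · exfalso
                apply hcent
                intro m hm x hx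
                have : m ∈ N ⊓ Subgroup.centralizer (M : Set G) := by rw [h]; exact hm
                exact Subgroup.mem_centralizer_iff.mp this.2 x hx
            have hfix : ∀ m ∈ N, (∀ x ∈ (P : Subgroup G), x * m = m * x) → m = 1 := by
              intro m hm hx
              have : m ∈ N ⊓ Subgroup.centralizer (M : Set G) := by
                refine ⟨hm, ?_⟩
                show m ∈ Subgroup.centralizer (M : Set G)
                rw [Subgroup.mem_centralizer_iff]
                intro y hy
                rw [SetLike.mem_coe, hMPN, Subgroup.mem_sup_of_normal_right] at hy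
                obtain ⟨a, ha, m', hm', rfl⟩ := hy
                calc a * m' * m = a * (m' * m) := by group
                  _ = a * (m * m') := by rw [hcomm m' hm' m hm]
                  _ = (a * m) * m' := by group
                  _ = (m * a) * m' := by rw [hx a ha]
                  _ = m * (a * m') := by group
              rw [hCbot, Subgroup.mem_bot] at this
              exact this
            have hAll : ∀ χ : IrrCharacter G, (∀ g : G, (χ.1 g).im = 0) →
                ∀ x ∈ N, χ.1 x = χ.1 1 := by
              intro χ hχ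
              by_contra hnot
              exact hreal χ hχ (dvd_degree_of_fixed_point_free p N M P hPM P.isPGroup' hidx hNp
                hfix χ hnot)
            rcases Nat.even_or_odd (Nat.card N) with heven | hodd
            · -- a complement: the normalizer of `P`
              have hsup : Subgroup.normalizer ((P : Subgroup G) : Set G) ⊔ N = ⊤ := by
                have h1 := Sylow.normalizer_sup_eq_top (P.subtype hPM)
                have h2 : ((P.subtype hPM : Sylow p M) : Subgroup M).map M.subtype =
                    (P : Subgroup G) := by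
                  rw [Sylow.coe_subtype, Subgroup.subgroupOf_map_subtype]
                  exact inf_of_le_left hPM
                rw [h2, hMPN] at h1
                have h3 : (P : Subgroup G) ≤ Subgroup.normalizer ((P : Subgroup G) : Set G) :=
                  Subgroup.le_normalizer
                rw [← sup_assoc, sup_eq_left.mpr h3] at h1
                exact h1
              have hPN : (P : Subgroup G) ⊓ N = ⊥ := by
                apply disjoint_iff.mp
                apply Subgroup.disjoint_of_coprime_natCard
                obtain ⟨k, hk⟩ := IsPGroup.iff_card.mp P.isPGroup'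
                rw [hk]
                exact Nat.Coprime.pow_left _ ((Nat.Prime.coprime_iff_not_dvd hp.out).mpr hNp)
              have hdisj : N ⊓ Subgroup.normalizer ((P : Subgroup G) : Set G) = ⊥ := by
                rw [eq_bot_iff]
                rintro m ⟨hm, hmH⟩
                rw [Subgroup.mem_bot]
                apply hfix m hm
                intro x hx
                have h1 : m * x * m⁻¹ ∈ (P : Subgroup G) :=
                  (Subgroup.mem_normalizer_iff.mp hmH x).mp hx
                have h2 : m * x * m⁻¹ * x⁻¹ ∈ (P : Subgroup G) ⊓ N := by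
                  refine ⟨Subgroup.mul_mem _ h1 (Subgroup.inv_mem _ hx), ?_⟩
                  have : m * x * m⁻¹ * x⁻¹ = m * (x * m⁻¹ * x⁻¹) := by group
                  rw [this]
                  exact N.mul_mem hm (hNn.conj_mem _ (N.inv_mem hm) x)
                rw [hPN, Subgroup.mem_bot] at h2
                calc x * m = (m * x * m⁻¹ * x⁻¹) * (x * m) := by rw [h2, one_mul]
                  _ = m * x := by group
              have hidxH : (Subgroup.normalizer ((P : Subgroup G) : Set G)).index =
                  Nat.card N := by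
                have hc : Subgroup.IsComplement' N
                    (Subgroup.normalizer ((P : Subgroup G) : Set G)) := by
                  apply Subgroup.isComplement'_of_disjoint_and_mul_eq_univ
                  · exact disjoint_iff.mpr hdisj
                  · rw [← Subgroup.normal_mul, sup_comm, hsup]; rfl
                exact hc.index_eq_card
              obtain ⟨χ, hχr, hχn⟩ := exists_real_not_ker_of_complement N _ hdisj hidxH heven
              exact hχn (hAll χ hχr)
            · -- odd order: the `2`-elements centralize `N`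
              have h1 := two_elements_centralize N hodd hAll
              apply hcent
              intro m hm x hx
              have : x ∈ Subgroup.centralizer (N : Set G) := h1 (by
                show x ∈ pGen 2 G
                rw [hK]; exact Subgroup.mem_top x)
              exact (Subgroup.mem_centralizer_iff.mp this m hm).symm

/-- If the subgroup generated by the `p`-elements of `G` is solvable and every real-valued
irreducible character of `G` has degree prime to `p`, the subgroup generated by the `2`-elements
has a normal Sylow `p`-subgroup. -/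
theorem normal_sylow_of_real_pprime {G : Type u} [Group G] [Finite G] (p : ℕ) [Fact p.Prime]
    (hsolv : Group.IsSolvable ↥(Subgroup.closure {g : G | ∃ k : ℕ, orderOf g = p ^ k}))
    (hreal : ∀ χ : IrrCharacter G, (∀ g : G, ((χ : G → ℂ) g).im = 0) →
      ¬ p ∣ charDegree (χ : G → ℂ))
    (Q : Sylow p ↥(Subgroup.closure {g : G | ∃ k : ℕ, orderOf g = 2 ^ k})) :
    (Q : Subgroup ↥(Subgroup.closure {g : G | ∃ k : ℕ, orderOf g = 2 ^ k})).Normal := by
  obtain ⟨P, hPn, hPp, hPall⟩ := nsyl_main p (Nat.card G) G le_rfl hsolv hreal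
  have hQle : (Q : Subgroup ↥(Subgroup.closure {g : G | ∃ k : ℕ, orderOf g = 2 ^ k})) ≤
      P.subgroupOf (Subgroup.closure {g : G | ∃ k : ℕ, orderOf g = 2 ^ k}) := by
    intro x hx
    rw [Subgroup.mem_subgroupOf]
    apply hPall _ x.2
    obtain ⟨k, hk⟩ := Q.isPGroup' ⟨x, hx⟩
    apply pElt_of_pow_eq_one p (k := k)
    simpa using congrArg (fun z : (Q : Subgroup ↥(Subgroup.closure
      {g : G | ∃ k : ℕ, orderOf g = 2 ^ k})) => ((z : ↥(Subgroup.closure
      {g : G | ∃ k : ℕ, orderOf g = 2 ^ k})) : G)) hk
  have hPK : IsPGroup p (P.subgroupOf (Subgroup.closure {g : G | ∃ k : ℕ, orderOf g = 2 ^ k})) :=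
    hPp.comap_subtype
  have := Q.is_maximal' hPK hQle
  rw [← this]
  exact Subgroup.normal_subgroupOf

end Main

end Cfsg.Agent.H83
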