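import Mathlib
import Cfsg.Agent.H83.NormalSylow

/-!
# Group theory behind the degree graph of a solvable group (helper83)

For a finite solvable nonabelian group `G` take `K ⊴ G` maximal with `G / K` nonabelian and
`N = K G'`.  Then `N / K` is an abelian chief factor, a `t`-group, and either `G / K` is a
`t`-group or `N / K` is self-centralizing in `G / K` and meets the centre trivially.

* `centIn_normal`, `lemQ`: the statement inside the quotient.
* `degGraph_struct`: the statement pulled back to `G`.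
-/

set_option autoImplicit false
set_option linter.unusedSectionVars false
set_option linter.style.haveILetI false

namespace Cfsg.Agent.H83

open scoped commutatorElement

universe u

section GroupQ

variable {Q : Type u} [Group Q]

theorem comm_elt_mem_commutator (y a : Q) : y * a * y⁻¹ * a⁻¹ ∈ commutator Q := by
  have := Subgroup.commutator_mem_commutator (Subgroup.mem_top y) (Subgroup.mem_top a)
  rw [commutator_def]
  rwa [commutatorElement_def] at this

theorem mem_centIn {X : Subgroup Q} {a x : Q} :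
    x ∈ X ⊓ Subgroup.centralizer {a} ↔ x ∈ X ∧ x * a = a * x := by
  rw [Subgroup.mem_inf, Subgroup.mem_centralizer_singleton_iff]

/-- For a normal subgroup `X` centralizing the derived subgroup, the centralizer in `X` of any
element is normal. -/
theorem centIn_normal (X : Subgroup Q) [hX : X.Normal]
    (hXc : ∀ x ∈ X, ∀ n ∈ commutator Q, x * n = n * x) (a : Q) :
    (X ⊓ Subgroup.centralizer {a}).Normal := by
  constructor
  intro x hx g
  obtain ⟨hxX, hxa⟩ := mem_centIn.mp hx
  refine mem_centIn.mpr ⟨hX.conj_mem x hxX g, ?_⟩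
  have hz : a⁻¹ * g⁻¹ * a * g ∈ commutator Q := by
    have := comm_elt_mem_commutator a⁻¹ g⁻¹
    simpa using this
  have h1 := hXc x hxX _ hz
  have h2 : x * (g⁻¹ * a * g) = g⁻¹ * a * g * x := by
    have e : g⁻¹ * a * g = a * (a⁻¹ * g⁻¹ * a * g) := by group
    rw [e, ← mul_assoc, hxa, mul_assoc, h1, ← mul_assoc]
  calc g * x * g⁻¹ * a = g * (x * (g⁻¹ * a * g)) * g⁻¹ := by group
    _ = g * (g⁻¹ * a * g * x) * g⁻¹ := by rw [h2]
    _ = a * (g * x * g⁻¹) := by group

/-- The structure of a finite solvable group in which the derived subgroup is the unique minimal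
normal subgroup. -/
theorem lemQ [Finite Q] [Group.IsSolvable Q] (hne : commutator Q ≠ ⊥)
    (hmin : ∀ L : Subgroup Q, L.Normal → L ≠ ⊥ → commutator Q ≤ L) :
    ∃ t : ℕ, t.Prime ∧ IsPGroup t (commutator Q) ∧
      (∀ a ∈ commutator Q, ∀ b ∈ commutator Q, a * b = b * a) ∧
      (IsPGroup t Q ∨
        ((∀ n ∈ commutator Q, (∀ g : Q, g * n = n * g) → n = 1) ∧
         (∀ x : Q, (∀ n ∈ commutator Q, x * n = n * x) → x ∈ commutator Q))) := by
  classical
  obtain ⟨N, hN⟩ : ∃ N : Subgroup Q, N = commutator Q := ⟨_, rfl⟩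
  rw [← hN] at hne hmin ⊢
  haveI hNn : N.Normal := by rw [hN]; infer_instance
  have hmin' : ∀ N' : Subgroup Q, N'.Normal → N' ≤ N → N' = ⊥ ∨ N' = N := by
    intro N' hN' hle
    by_cases h : N' = ⊥
    · left; exact h
    · right; exact le_antisymm hle (hmin N' hN' h)
  have hcomm := comm_of_min_normal_solvable N hne hmin' inferInstance
  have hcard1 : Nat.card N ≠ 1 := fun h => hne (Subgroup.card_eq_one.mp h)
  obtain ⟨t, ht, htd⟩ := Nat.exists_prime_and_dvd hcard1
  haveI : Fact t.Prime := ⟨ht⟩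
  have hpg : IsPGroup t N :=
    (isPGroup_or_of_min_normal t N hmin' hcomm).resolve_right (fun h => h htd)
  have hκmem : ∀ y a : Q, y * a * y⁻¹ * a⁻¹ ∈ N := fun y a => by
    rw [hN]; exact comm_elt_mem_commutator y a
  refine ⟨t, ht, hpg, hcomm, ?_⟩
  by_cases hZ : N ⊓ Subgroup.center Q = ⊥
  · right
    constructor
    · intro n hn hcen
      have : n ∈ N ⊓ Subgroup.center Q := Subgroup.mem_inf.mpr ⟨hn, Subgroup.mem_center_iff.mpr hcen⟩
      rw [hZ, Subgroup.mem_bot] at this
      exact this
    · obtain ⟨⟨n₀, hn₀⟩, hn₀1⟩ := Subgroup.ne_bot_iff_exists_ne_one.mp hne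
      have hn₀1' : n₀ ≠ 1 := fun h => hn₀1 (Subtype.ext h)
      have hnc : ∃ a : Q, a * n₀ ≠ n₀ * a := by
        by_contra hall
        push Not at hall
        have : n₀ ∈ N ⊓ Subgroup.center Q :=
          Subgroup.mem_inf.mpr ⟨hn₀, Subgroup.mem_center_iff.mpr hall⟩
        rw [hZ, Subgroup.mem_bot] at this
        exact hn₀1' this
      obtain ⟨a, ha⟩ := hnc
      obtain ⟨C, hC⟩ : ∃ C : Subgroup Q, C = Subgroup.centralizer (N : Set Q) := ⟨_, rfl⟩
      haveI : C.Normal := by rw [hC]; exact Subgroup.normal_centralizer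
      have hNC : N ≤ C := fun x hx => by
        rw [hC]
        exact Subgroup.mem_centralizer_iff.mpr (fun y hy => hcomm y hy x hx)
      have hCc : ∀ x ∈ C, ∀ n ∈ commutator Q, x * n = n * x := fun x hx n hn => by
        rw [hC] at hx
        exact ((Subgroup.mem_centralizer_iff.mp hx) n (hN ▸ hn)).symm
      have hNc' : ∀ x ∈ N, ∀ n ∈ commutator Q, x * n = n * x := fun x hx n hn =>
        hcomm x hx n (hN ▸ hn)
      have h1 : N ⊓ Subgroup.centralizer {a} = ⊥ := by
        by_contra hcon
        have := hmin _ (centIn_normal N hNc' a) hcon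
        have hn₀' := (mem_centIn.mp (this hn₀)).2
        exact ha hn₀'.symm
      have h2 : C ⊓ Subgroup.centralizer {a} = ⊥ := by
        by_contra hcon
        have := hmin _ (centIn_normal C hCc a) hcon
        have hle : N ≤ N ⊓ Subgroup.centralizer {a} := fun x hx =>
          mem_centIn.mpr ⟨hx, (mem_centIn.mp (this hx)).2⟩
        rw [h1] at hle
        exact hne (le_bot_iff.mp hle)
      intro x hx
      have hxC : x ∈ C := by
        rw [hC]
        exact Subgroup.mem_centralizer_iff.mpr (fun n hn => (hx n hn).symm)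
      let κ : N → N := fun n => ⟨n * a * (n : Q)⁻¹ * a⁻¹, hκmem n a⟩
      have hκinj : Function.Injective κ := by
        intro n n' h
        have h' : (n : Q) * a * (n : Q)⁻¹ * a⁻¹ = n' * a * (n' : Q)⁻¹ * a⁻¹ :=
          congrArg Subtype.val h
        have h4 : (n : Q) * a * (n : Q)⁻¹ = n' * a * (n' : Q)⁻¹ := mul_right_cancel h'
        have h3 : ((n' : Q)⁻¹ * n) ∈ N ⊓ Subgroup.centralizer {a} := by
          refine mem_centIn.mpr ⟨N.mul_mem (N.inv_mem n'.2) n.2, ?_⟩
          calc (n' : Q)⁻¹ * n * a = (n' : Q)⁻¹ * ((n : Q) * a * (n : Q)⁻¹) * n := by group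
            _ = (n' : Q)⁻¹ * ((n' : Q) * a * (n' : Q)⁻¹) * n := by rw [h4]
            _ = a * ((n' : Q)⁻¹ * n) := by group
        rw [h1, Subgroup.mem_bot] at h3
        apply Subtype.ext
        exact (inv_mul_eq_one.mp h3).symm
      have hκsurj := Finite.injective_iff_surjective.mp hκinj
      obtain ⟨n, hn⟩ := hκsurj ⟨x * a * x⁻¹ * a⁻¹, hκmem x a⟩
      have hn' : (n : Q) * a * (n : Q)⁻¹ * a⁻¹ = x * a * x⁻¹ * a⁻¹ := congrArg Subtype.val hn
      have hn4 : (n : Q) * a * (n : Q)⁻¹ = x * a * x⁻¹ := mul_right_cancel hn'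
      have h5 : (n : Q)⁻¹ * x ∈ C ⊓ Subgroup.centralizer {a} := by
        refine mem_centIn.mpr ⟨C.mul_mem (C.inv_mem (hNC n.2)) hxC, ?_⟩
        calc (n : Q)⁻¹ * x * a = (n : Q)⁻¹ * (x * a * x⁻¹) * x := by group
          _ = (n : Q)⁻¹ * ((n : Q) * a * (n : Q)⁻¹) * x := by rw [hn4]
          _ = a * ((n : Q)⁻¹ * x) := by group
      rw [h2, Subgroup.mem_bot] at h5
      have hxn : x = n := (inv_mul_eq_one.mp h5).symm
      rw [hxn]
      exact n.2
  · left
    have hNZ : N ≤ Subgroup.center Q :=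
      (hmin (N ⊓ Subgroup.center Q) inferInstance hZ).trans inf_le_right
    have hcardQ : ∀ {s : ℕ}, s.Prime → s ∣ Nat.card Q → s = t := by
      intro s hs hsd
      by_contra hst
      haveI : Fact s.Prime := ⟨hs⟩
      obtain ⟨x, hx⟩ := exists_prime_orderOf_dvd_card' s hsd
      have hxs : x ^ s = 1 := by rw [← hx]; exact pow_orderOf_eq_one x
      have hxc : x ∈ Subgroup.center Q := by
        rw [Subgroup.mem_center_iff]
        intro g
        have hz : g * x * g⁻¹ * x⁻¹ ∈ N := hκmem g x
        have hzc := hNZ hz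
        have hzs : (g * x * g⁻¹ * x⁻¹) ^ s = 1 := by
          have hcomm' : Commute (g * x * g⁻¹ * x⁻¹) x := (Subgroup.mem_center_iff.mp hzc x).symm
          have e : g * x * g⁻¹ = (g * x * g⁻¹ * x⁻¹) * x := by group
          have h6 : (g * x * g⁻¹) ^ s = 1 := by rw [conj_pow, hxs]; group
          rw [e, hcomm'.mul_pow, hxs, mul_one] at h6
          exact h6
        obtain ⟨k, hk⟩ := hpg ⟨_, hz⟩
        have hk' : (g * x * g⁻¹ * x⁻¹) ^ t ^ k = 1 := by
          have := congrArg Subtype.val hk
          simpa using this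
        have hcop : Nat.Coprime s (t ^ k) :=
          Nat.Coprime.pow_right k ((Nat.coprime_primes hs ht).mpr hst)
        have hz1 : g * x * g⁻¹ * x⁻¹ = 1 := by
          have := pow_gcd_eq_one.mpr ⟨hzs, hk'⟩
          rwa [Nat.Coprime.gcd_eq_one hcop, pow_one] at this
        calc g * x = (g * x * g⁻¹ * x⁻¹) * x * g := by group
          _ = x * g := by rw [hz1, one_mul]
      have hzn : (Subgroup.zpowers x).Normal := by
        constructor
        intro y hy g
        have hyc : y ∈ Subgroup.center Q := (Subgroup.zpowers_le.mpr hxc) hy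
        have e : g * y * g⁻¹ = y := by
          rw [Subgroup.mem_center_iff.mp hyc g, mul_inv_cancel_right]
        rw [e]
        exact hy
      have hx1 : x ≠ 1 := by
        intro h
        rw [h, orderOf_one] at hx
        exact hs.ne_one hx.symm
      have hzne : Subgroup.zpowers x ≠ ⊥ := by
        rw [Ne, Subgroup.zpowers_eq_bot]
        exact hx1
      have hle := hmin _ hzn hzne
      have hd : Nat.card N ∣ s := by
        have := Subgroup.card_dvd_of_le hle
        rwa [Nat.card_zpowers, hx] at this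
      exact hst ((Nat.prime_dvd_prime_iff_eq ht hs).mp (htd.trans hd)).symm
    exact IsPGroup.of_card (Nat.eq_prime_pow_of_unique_prime_dvd Nat.card_pos.ne' hcardQ)

end GroupQ

section Struct

variable {G : Type u} [Group G]

/-- The structure used for the degree graph: `K` maximal normal with `G / K` nonabelian and
`N = K G'`. -/
theorem degGraph_struct [Finite G] [Group.IsSolvable G] (hna : commutator G ≠ ⊥) :
    ∃ (K N : Subgroup G) (t : ℕ), K.Normal ∧ N.Normal ∧ t.Prime ∧ K ≤ N ∧ K ≠ N ∧
      commutator G ≤ N ∧ ¬ commutator G ≤ K ∧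
      (∀ L : Subgroup G, L.Normal → K ≤ L → L ≠ K → N ≤ L) ∧
      (∀ a ∈ N, ∀ b ∈ N, a * b * a⁻¹ * b⁻¹ ∈ K) ∧
      (∃ m : ℕ, K.relIndex N = t ^ m) ∧
      ((∃ k : ℕ, K.index = t ^ k) ∨
        ((∀ n ∈ N, (∀ g : G, g * n * g⁻¹ * n⁻¹ ∈ K) → n ∈ K) ∧
         (∀ x : G, (∀ n ∈ N, x * n * x⁻¹ * n⁻¹ ∈ K) → x ∈ N))) := by
  classical
  obtain ⟨K, -, ⟨⟨hKn, hKc⟩, hKmax⟩⟩ := Finite.exists_le_maximal
    (p := fun L : Subgroup G => L.Normal ∧ ¬ commutator G ≤ L) (a := ⊥)
    ⟨inferInstance, fun h => hna (le_bot_iff.mp h)⟩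
  haveI := hKn
  have hmaxK : ∀ L : Subgroup G, L.Normal → K ≤ L → L ≠ K → commutator G ≤ L := by
    intro L hL hKL hne
    by_contra hc
    exact hne (le_antisymm (hKmax ⟨hL, hc⟩ hKL) hKL)
  obtain ⟨π, hπ⟩ : ∃ π : G →* G ⧸ K, π = QuotientGroup.mk' K := ⟨_, rfl⟩
  have hsurj : Function.Surjective π := by rw [hπ]; exact QuotientGroup.mk'_surjective K
  have hker : π.ker = K := by rw [hπ]; exact QuotientGroup.ker_mk' K
  have hmap : (commutator G).map π = commutator (G ⧸ K) := by
    rw [commutator_def, Subgroup.map_commutator, Subgroup.map_top_of_surjective π hsurj,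
      ← commutator_def]
  have hQne : commutator (G ⧸ K) ≠ ⊥ := by
    intro h
    rw [← hmap, Subgroup.map_eq_bot_iff, hker] at h
    exact hKc h
  have hQmin : ∀ L : Subgroup (G ⧸ K), L.Normal → L ≠ ⊥ → commutator (G ⧸ K) ≤ L := by
    intro L hL hLne
    have h1 : K ≤ L.comap π := by
      intro x hx
      rw [Subgroup.mem_comap]
      have : π x = 1 := by rw [← MonoidHom.mem_ker, hker]; exact hx
      rw [this]
      exact L.one_mem
    have h2 : L.comap π ≠ K := by
      intro h
      apply hLne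
      rw [← Subgroup.map_comap_eq_self_of_surjective hsurj L, h, Subgroup.map_eq_bot_iff, hker]
    have h3 := hmaxK _ (hL.comap π) h1 h2
    rw [← hmap]
    exact (Subgroup.map_mono h3).trans (Subgroup.map_comap_le π L)
  obtain ⟨t, ht, hpg, hcomm, hcase⟩ := lemQ hQne hQmin
  haveI : Fact t.Prime := ⟨ht⟩
  obtain ⟨N, hN⟩ : ∃ N : Subgroup G, N = (commutator (G ⧸ K)).comap π := ⟨_, rfl⟩
  have hNn : N.Normal := by rw [hN]; exact Subgroup.Normal.comap inferInstance π
  have hmemN : ∀ x : G, x ∈ N ↔ π x ∈ commutator (G ⧸ K) := fun x => by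
    rw [hN]; exact Subgroup.mem_comap
  have hmemK : ∀ x : G, x ∈ K ↔ π x = 1 := fun x => by
    rw [← MonoidHom.mem_ker, hker]
  have hKN : K ≤ N := by
    intro x hx
    rw [hmemN, (hmemK x).mp hx]
    exact Subgroup.one_mem _
  have hGN : commutator G ≤ N := by rw [hN, ← hmap]; exact Subgroup.le_comap_map π _
  refine ⟨K, N, t, hKn, hNn, ht, hKN, ?_, hGN, hKc, ?_, ?_, ?_, ?_⟩
  · intro h
    exact hKc (h ▸ hGN)
  · intro L hL hKL hne
    have h3 := hmaxK L hL hKL hne
    rw [hN, ← hmap, Subgroup.comap_map_eq, hker]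
    exact sup_le h3 hKL
  · intro a ha b hb
    rw [hmemK]
    have := hcomm (π a) ((hmemN a).mp ha) (π b) ((hmemN b).mp hb)
    simp only [map_mul, map_inv]
    rw [this]
    group
  · obtain ⟨m, hm⟩ := IsPGroup.exists_card_eq hpg
    refine ⟨m, ?_⟩
    have h1 : K.relIndex N = ((⊥ : Subgroup (G ⧸ K)).comap π).relIndex N := by
      congr 1
      rw [MonoidHom.comap_bot, hker]
    rw [h1, Subgroup.relIndex_comap, Subgroup.relIndex_bot_left, hN,
      Subgroup.map_comap_eq_self_of_surjective hsurj, hm]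
  · rcases hcase with hp | ⟨hc1, hc2⟩
    · left
      obtain ⟨k, hk⟩ := IsPGroup.exists_card_eq hp
      exact ⟨k, by rw [Subgroup.index_eq_card, hk]⟩
    · right
      constructor
      · intro n hn hall
        rw [hmemK]
        apply hc1 (π n) ((hmemN n).mp hn)
        intro g
        obtain ⟨g', rfl⟩ := hsurj g
        have := (hmemK _).mp (hall g')
        simp only [map_mul, map_inv] at this
        have h2 := mul_inv_eq_one.mp this
        exact mul_inv_eq_iff_eq_mul.mp h2
      · intro x hall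
        rw [hmemN]
        apply hc2
        intro n hn
        obtain ⟨n', rfl⟩ := hsurj n
        have hn' : n' ∈ N := (hmemN n').mpr hn
        have := (hmemK _).mp (hall n' hn')
        simp only [map_mul, map_inv] at this
        have h2 := mul_inv_eq_one.mp this
        exact mul_inv_eq_iff_eq_mul.mp h2

end Struct

end Cfsg.Agent.H83
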