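import Mathlib
import Cfsg.Prelude.Def_Characters
import Cfsg.Agent.H83.NormalSylow
import Cfsg.Agent.H4.GlaubCls

/-!
# Real classes and the normalizer of a Sylow subgroup (helper83)

Under the hypotheses of `nsyl_main` (the subgroup generated by the `p`-elements is solvable and
all real-valued irreducible characters have degree prime to `p`), the normalizer of a Sylow
`p`-subgroup meets every real class.

* `real_of_real_over`, `exists_real_over`: real characters over/under a normal subgroup of odd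
  index.
* `card_real_irr_eq_normalizer`: if `K ⊴ G` has odd index and order prime to `p`, and real
  characters of `G` have `p'`-degree, then `G` and `N_G(P)` have the same number of real
  irreducible characters.
* `exists_conj_mem_normalizer`: the statement on real classes.
-/

set_option autoImplicit false
set_option linter.unusedSectionVars false
set_option linter.style.haveILetI false

namespace Cfsg.Agent.H83

open Cfsg Cfsg.Agent.H4 Cfsg.Agent.Clifford Cfsg.Agent.H82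
open scoped ComplexConjugate

universe u

section OddIdx

variable {G : Type u} [Group G] [Fintype G] (N : Subgroup G) [hN : N.Normal] [Fintype N]

/-- Every irreducible character has an irreducible constituent on a subgroup. -/
theorem exists_constituent_res (M : Subgroup G) [Fintype M] (χ : IrrCharacter G) :
    ∃ θ : IrrCharacter M, classInner (fun n : M => χ.1 n) θ.1 ≠ 0 := by
  classical
  have hχM : IsCharacter M (fun n : M => χ.1 n) :=
    isCharacter_restrict _ (isCharacter_of_isIrrCharacter χ.2)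
  by_contra hcon
  push Not at hcon
  have h2 := classFunction_eq_finsum (isClassFunction_of_isCharacter hχM)
  have h3 : (fun n : M => χ.1 n) = 0 :=
    h2.trans (finsum_eq_zero_of_forall_eq_zero fun θ => by rw [hcon θ, zero_smul])
  have h4 := congrFun h3 1
  simp only [OneMemClass.coe_one, Pi.zero_apply] at h4
  exact H82.irr_one_ne_zero χ h4

/-- A constituent, on a normal subgroup of odd index, of a real irreducible character is real. -/
theorem real_of_real_over (hodd : Odd N.index) (χ : IrrCharacter G)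
    (hχ : ∀ g, (χ.1 g).im = 0) (θ : IrrCharacter N)
    (h : classInner (fun n : N => χ.1 n) θ.1 ≠ 0) : ∀ n, (θ.1 n).im = 0 := by
  classical
  have h' : classInner (fun n : N => χ.1 n) (irrConj θ).1 ≠ 0 := by
    have e : classInner (fun n : N => χ.1 n) (irrConj θ).1 =
        conj (classInner (fun n : N => χ.1 n) θ.1) := by
      unfold classInner
      rw [map_mul, map_inv₀, Complex.conj_natCast, map_sum]
      congr 1
      refine Finset.sum_congr rfl fun n _ => ?_
      rw [map_mul, Complex.conj_eq_iff_im.mpr (hχ n)]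
      rfl
    rw [e]
    exact (map_ne_zero _).mpr h
  obtain ⟨g, hg⟩ := clifford_conj N χ.2 θ.2 (irrConj θ).2 h h'
  have hg2 : g * g ∈ Clifford.inertia N θ.1 := by
    rw [Clifford.mem_inertia, ← conjChar_conjChar, ← hg]
    funext n
    rw [conjChar_apply]
    have h5 := congrFun hg ⟨g * n * g⁻¹, hN.conj_mem (n : G) n.2 g⟩
    have h6 := congrFun hg n
    rw [conjChar_apply] at h6
    show conj (θ.1 ⟨g * n * g⁻¹, hN.conj_mem (n : G) n.2 g⟩) = θ.1 n
    rw [← h6]
    show conj (conj (θ.1 n)) = θ.1 n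
    exact Complex.conj_conj _
  have hNI : N ≤ Clifford.inertia N θ.1 :=
    le_inertia N (isClassFunction_of_isCharacter (isCharacter_of_isIrrCharacter θ.2))
  have hgI : g ∈ Clifford.inertia N θ.1 := by
    obtain ⟨k, hk⟩ := hodd
    have h1 : g ^ N.index ∈ Clifford.inertia N θ.1 := hNI (Subgroup.pow_index_mem N g)
    have h2 : g ^ (2 * k) ∈ Clifford.inertia N θ.1 := by
      rw [pow_mul, pow_two]; exact Subgroup.pow_mem _ hg2 k
    have h3 : g = g ^ N.index * (g ^ (2 * k))⁻¹ := by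
      rw [hk, pow_succ]; group
    rw [h3]; exact Subgroup.mul_mem _ h1 (Subgroup.inv_mem _ h2)
  intro n
  have h4 : conjChar N θ.1 g = θ.1 := hgI
  rw [h4] at hg
  have := congrFun hg n
  exact Complex.conj_eq_iff_im.mp this

/-- Over a real irreducible character of a normal subgroup of odd index lies a real irreducible
character. -/
theorem exists_real_over (hodd : Odd N.index) (θ : IrrCharacter N)
    (hθ : ∀ n, (θ.1 n).im = 0) :
    ∃ χ : IrrCharacter G, (∀ g, (χ.1 g).im = 0) ∧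
      classInner (fun n : N => χ.1 n) θ.1 ≠ 0 := by
  classical
  have hν : H78.indicator θ.1 ≠ 0 := by
    rcases H78.irr_indicator_sq_of_real θ hθ with h1 | h1 <;> rw [h1] <;> norm_num
  have hsum := sum_indicator_mul N hodd θ
  obtain ⟨χ, hχ⟩ : ∃ χ : IrrCharacter G,
      H78.indicator χ.1 * classInner (fun n : N => χ.1 n) θ.1 ≠ 0 := by
    by_contra hall
    push Not at hall
    rw [finsum_congr hall] at hsum
    simp at hsum
    exact hν hsum.symm
  have hν₀ : H78.indicator χ.1 ≠ 0 := left_ne_zero_of_mul hχ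
  refine ⟨χ, fun g => ?_, right_ne_zero_of_mul hχ⟩
  by_contra hg
  exact hν₀ (H78.irr_indicator_eq_zero_of_not_real χ g hg)

end OddIdx

section SylowLemmas

variable {G : Type u} [Group G] [Finite G]

/-- If a subgroup `I` contains the Sylow subgroup `P` and its conjugate by `g`, then
`g ∈ I · N_G(P)`. -/
theorem exists_mul_mem_normalizer (p : ℕ) [Fact p.Prime] (P : Sylow p G) (I : Subgroup G)
    (h1 : (P : Subgroup G) ≤ I) (g : G) (h2 : ∀ s ∈ (P : Subgroup G), g * s * g⁻¹ ∈ I) :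
    ∃ c ∈ I, c * g ∈ Subgroup.normalizer ((P : Subgroup G) : Set G) := by
  have h2' : ((g • P : Sylow p G) : Subgroup G) ≤ I := by
    rintro - ⟨z, hz, rfl⟩
    simpa using h2 z hz
  obtain ⟨h, hh⟩ := MulAction.exists_smul_eq I ((g • P).subtype h2') (P.subtype h1)
  simp_rw [Sylow.smul_subtype, Subgroup.smul_def, smul_smul] at hh
  exact ⟨h, h.2, Sylow.smul_eq_iff_mem_normalizer.mp (Sylow.subtype_injective hh)⟩

/-- A subgroup of index prime to `p` contains a conjugate of each Sylow `p`-subgroup. -/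
theorem exists_conj_sylow_le (p : ℕ) [Fact p.Prime] (P : Sylow p G) (I : Subgroup G)
    (hI : ¬ p ∣ I.index) : ∃ g : G, ∀ s ∈ (P : Subgroup G), g⁻¹ * s * g ∈ I := by
  have hne := P.isPGroup'.nonempty_fixed_point_of_prime_not_dvd_card (G ⧸ I)
    (by rwa [← Subgroup.index_eq_card])
  obtain ⟨q, hq⟩ := hne
  obtain ⟨g, rfl⟩ := QuotientGroup.mk_surjective q
  refine ⟨g, fun s hs => ?_⟩
  have h1 : (⟨s, hs⟩ : (P : Subgroup G)) • (QuotientGroup.mk g : G ⧸ I) = QuotientGroup.mk g :=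
    hq ⟨s, hs⟩
  have h2 : (QuotientGroup.mk (s * g) : G ⧸ I) = QuotientGroup.mk g := h1
  have h3 := QuotientGroup.eq.mp h2.symm
  rwa [← mul_assoc] at h3

/-- Real elements lie in the subgroup generated by the `2`-elements. -/
theorem real_mem_pGen_two (x : G) (hx : IsConj x x⁻¹) : x ∈ pGen 2 G := by
  classical
  haveI : Fintype G := Fintype.ofFinite G
  haveI hKn : (pGen 2 G).Normal := pGen_normal 2
  obtain ⟨g, hg⟩ := isConj_iff.mp hx
  have hodd : Odd (pGen 2 G).index := odd_index_pGen_two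
  obtain ⟨k, hk⟩ := hodd
  -- `g * g` commutes with `x`
  have hgg : Commute (g * g) x := by
    have h1 : g * g * x * (g * g)⁻¹ = x := by
      calc g * g * x * (g * g)⁻¹ = g * (g * x * g⁻¹) * g⁻¹ := by group
        _ = g * x⁻¹ * g⁻¹ := by rw [hg]
        _ = (g * x * g⁻¹)⁻¹ := by group
        _ = x := by rw [hg, inv_inv]
    show g * g * x = x * (g * g)
    calc g * g * x = g * g * x * (g * g)⁻¹ * (g * g) := by group
      _ = x * (g * g) := by rw [h1]
  have hc : Commute (g ^ (2 * k)) x := by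
    rw [pow_mul, pow_two]; exact hgg.pow_left k
  have hκ : g ^ (pGen 2 G).index ∈ pGen 2 G := Subgroup.pow_index_mem _ g
  have hinv : g ^ (pGen 2 G).index * x * (g ^ (pGen 2 G).index)⁻¹ = x⁻¹ := by
    rw [hk, pow_succ]
    calc g ^ (2 * k) * g * x * (g ^ (2 * k) * g)⁻¹
        = g ^ (2 * k) * (g * x * g⁻¹) * (g ^ (2 * k))⁻¹ := by group
      _ = g ^ (2 * k) * x⁻¹ * (g ^ (2 * k))⁻¹ := by rw [hg]
      _ = x⁻¹ := by
        have := hc.inv_right
        rw [this.eq]; group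
  have hsq : x * x ∈ pGen 2 G := by
    have h2 : g ^ (pGen 2 G).index * x⁻¹ * (g ^ (pGen 2 G).index)⁻¹ = x := by
      calc g ^ (pGen 2 G).index * x⁻¹ * (g ^ (pGen 2 G).index)⁻¹
          = (g ^ (pGen 2 G).index * x * (g ^ (pGen 2 G).index)⁻¹)⁻¹ := by group
        _ = x := by rw [hinv, inv_inv]
    have h1 : x * x = x * (g ^ (pGen 2 G).index) * x⁻¹ * (g ^ (pGen 2 G).index)⁻¹ := by
      calc x * x = x * (g ^ (pGen 2 G).index * x⁻¹ * (g ^ (pGen 2 G).index)⁻¹) := by rw [h2]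
        _ = x * (g ^ (pGen 2 G).index) * x⁻¹ * (g ^ (pGen 2 G).index)⁻¹ := by group
    rw [h1]
    exact (pGen 2 G).mul_mem (hKn.conj_mem _ hκ x) ((pGen 2 G).inv_mem hκ)
  exact mem_of_sq_mem_of_odd_index (pGen 2 G) odd_index_pGen_two hsq

end SylowLemmas

section Count

variable {G : Type u} [Group G] [Fintype G]

/-- **Real McKay count, coprime case**: if `K ⊴ G` has odd index and order prime to `p`, and the
real irreducible characters of `G` have degree prime to `p`, then `G` and the normalizer of a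
Sylow `p`-subgroup have the same number of real irreducible characters. -/
theorem card_real_irr_eq_normalizer (p : ℕ) [hp : Fact p.Prime] (K : Subgroup G)
    [hK : K.Normal] (hodd : Odd K.index) (hpK : ¬ p ∣ Nat.card K)
    (hreal : ∀ χ : IrrCharacter G, (∀ g : G, (χ.1 g).im = 0) → ¬ p ∣ charDegree χ.1)
    (P : Sylow p G) :
    Nat.card {χ : IrrCharacter G // ∀ g : G, (χ.1 g).im = 0} =
      Nat.card {ξ : IrrCharacter ↥(Subgroup.normalizer ((P : Subgroup G) : Set G)) //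
        ∀ h, (ξ.1 h).im = 0} := by
  classical
  obtain ⟨H, hHdef⟩ : ∃ H : Subgroup G, H = Subgroup.normalizer ((P : Subgroup G) : Set G) :=
    ⟨_, rfl⟩
  rw [← hHdef]
  haveI : Fintype K := Fintype.ofFinite K
  haveI : Fintype H := Fintype.ofFinite H
  obtain ⟨N', hN'def⟩ : ∃ N' : Subgroup ↥H, N' = K.subgroupOf H := ⟨_, rfl⟩
  haveI hN'n : N'.Normal := by rw [hN'def]; exact Subgroup.normal_subgroupOf
  haveI : Fintype N' := Fintype.ofFinite N'
  have hN'mem : ∀ x : ↥H, x ∈ N' ↔ (x : G) ∈ K := by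
    intro x; rw [hN'def]; exact Subgroup.mem_subgroupOf
  have hmemN' : ∀ n : ↥N', ((n : ↥H) : G) ∈ K := fun n => (hN'mem n).mp n.2
  have hodd' : Odd N'.index := by
    have h1 : N'.index ∣ K.index := by
      rw [hN'def]; exact Subgroup.relIndex_dvd_index_of_normal K H
    exact Odd.of_dvd_nat hodd h1
  have hPK : (P : Subgroup G) ⊓ K = ⊥ := by
    apply disjoint_iff.mp
    apply Subgroup.disjoint_of_coprime_natCard
    obtain ⟨k, hk⟩ := IsPGroup.iff_card.mp P.isPGroup'
    rw [hk]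
    exact Nat.Coprime.pow_left _ ((Nat.Prime.coprime_iff_not_dvd hp.out).mpr hpK)
  have hnorm : ∀ s ∈ (P : Subgroup G), ∀ g ∈ K, s * g * s⁻¹ ∈ K :=
    fun s _ g hg => hK.conj_mem g hg s
  letI := conjAct K (P : Subgroup G) hnorm
  let ι : ↥N' →* ↥K :=
    { toFun := fun n => ⟨((n : ↥H) : G), hmemN' n⟩
      map_one' := rfl
      map_mul' := fun _ _ => rfl }
  have hι : Function.Injective ι := by
    intro a b hab
    apply Subtype.ext; apply Subtype.ext
    exact congrArg (fun k : ↥K => (k : G)) hab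
  have hfix : ∀ k : ↥K, (∃ c, ι c = k) ↔ ∀ s : ↥(P : Subgroup G), s • k = k := by
    intro k
    constructor
    · rintro ⟨c, rfl⟩ s
      apply Subtype.ext
      show (s : G) * ((c : ↥H) : G) * (s : G)⁻¹ = ((c : ↥H) : G)
      have hcH : ((c : ↥H) : G) ∈ Subgroup.normalizer ((P : Subgroup G) : Set G) := by
        rw [← hHdef]; exact (c : ↥H).2
      have hcK : ((c : ↥H) : G) ∈ K := hmemN' c
      have h1 : ((c : ↥H) : G) * (s : G)⁻¹ * ((c : ↥H) : G)⁻¹ ∈ (P : Subgroup G) :=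
        (Subgroup.mem_normalizer_iff.mp hcH _).mp (Subgroup.inv_mem _ s.2)
      have h2 : (s : G) * ((c : ↥H) : G) * (s : G)⁻¹ * ((c : ↥H) : G)⁻¹ ∈
          (P : Subgroup G) ⊓ K := by
        refine ⟨?_, ?_⟩
        · have : (s : G) * ((c : ↥H) : G) * (s : G)⁻¹ * ((c : ↥H) : G)⁻¹ =
              (s : G) * (((c : ↥H) : G) * (s : G)⁻¹ * ((c : ↥H) : G)⁻¹) := by group
          rw [this]; exact Subgroup.mul_mem _ s.2 h1
        · exact K.mul_mem (hK.conj_mem _ hcK _) (K.inv_mem hcK)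
      rw [hPK, Subgroup.mem_bot] at h2
      calc (s : G) * ((c : ↥H) : G) * (s : G)⁻¹
          = ((s : G) * ((c : ↥H) : G) * (s : G)⁻¹ * ((c : ↥H) : G)⁻¹) * ((c : ↥H) : G) := by
            group
        _ = ((c : ↥H) : G) := by rw [h2, one_mul]
    · intro h
      have hcomm : ∀ s ∈ (P : Subgroup G), s * (k : G) = (k : G) * s := by
        intro s hs
        have := congrArg Subtype.val (h ⟨s, hs⟩)
        have h2 : s * (k : G) * s⁻¹ = (k : G) := this
        calc s * (k : G) = s * (k : G) * s⁻¹ * s := by group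
          _ = (k : G) * s := by rw [h2]
      have hkH : (k : G) ∈ H := by
        rw [hHdef, Subgroup.mem_normalizer_iff]
        intro x
        constructor
        · intro hx
          have : (k : G) * x * (k : G)⁻¹ = x := by rw [← hcomm x hx]; group
          rw [this]; exact hx
        · intro hx
          have h3 := hcomm _ hx
          have h4 : (k : G) * x = (k : G) * ((k : G) * x * (k : G)⁻¹) := by
            rw [← h3]; group
          rw [mul_left_cancel h4]; exact hx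
      exact ⟨⟨⟨(k : G), hkH⟩, (hN'mem _).mpr k.2⟩, Subtype.ext rfl⟩
  obtain ⟨G1, -, G3, G4⟩ := glauberman_pgroup hp.out P.isPGroup' ι hι hfix (Or.inl hpK)
  -- conjugation by the normalizer preserves invariance
  have hF1 : ∀ (θ : ↥K → ℂ) (h : G), h ∈ H →
      (∀ (s : ↥(P : Subgroup G)) (k : ↥K), θ (s • k) = θ k) →
      ∀ (s : ↥(P : Subgroup G)) (k : ↥K), conjChar K θ h (s • k) = conjChar K θ h k := by
    intro θ h hh hinv s k
    have hsP : h * (s : G) * h⁻¹ ∈ (P : Subgroup G) := by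
      rw [hHdef] at hh
      exact (Subgroup.mem_normalizer_iff.mp hh _).mp s.2
    have h1 := hinv ⟨h * (s : G) * h⁻¹, hsP⟩ ⟨h * (k : G) * h⁻¹, hK.conj_mem _ k.2 h⟩
    rw [conjChar_apply, conjChar_apply, ← h1]
    refine congrArg θ (Subtype.ext ?_)
    show h * ((s : G) * (k : G) * (s : G)⁻¹) * h⁻¹ =
      (h * (s : G) * h⁻¹) * (h * (k : G) * h⁻¹) * (h * (s : G) * h⁻¹)⁻¹
    group
  -- the correspondence is equivariant
  have hF2 : ∀ (θ : ↥K → ℂ) (β : ↥N' → ℂ) (h : ↥H),
      classInner (fun c : ↥N' => conjChar K θ (h : G) (ι c)) (conjChar N' β h) =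
        classInner (fun c : ↥N' => θ (ι c)) β := by
    intro θ β h
    have e : (fun c : ↥N' => conjChar K θ (h : G) (ι c)) =
        conjChar N' (fun c : ↥N' => θ (ι c)) h := by
      funext c
      rw [conjChar_apply, conjChar_apply]
      congr 1
    rw [e]
    exact classInner_conjChar N' _ _ h
  -- complex conjugation
  have hconjβ : ∀ (θ : IrrCharacter ↥K) (_ : ∀ k, (θ.1 k).im = 0) (β : IrrCharacter ↥N') (m : ℕ),
      classInner (fun c : ↥N' => θ.1 (ι c)) β.1 = m →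
      classInner (fun c : ↥N' => θ.1 (ι c)) (irrConj β).1 = m := by
    intro θ hθ β m hm
    have : classInner (fun c : ↥N' => θ.1 (ι c)) (irrConj β).1 =
        conj (classInner (fun c : ↥N' => θ.1 (ι c)) β.1) := by
      unfold classInner
      rw [map_mul, map_inv₀, Complex.conj_natCast, map_sum]
      congr 1
      refine Finset.sum_congr rfl fun c _ => ?_
      rw [map_mul, Complex.conj_conj]
      show θ.1 _ * conj (conj (β.1 c)) = conj (θ.1 _) * β.1 c
      rw [Complex.conj_conj, Complex.conj_eq_iff_im.mpr (hθ _)]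
    rw [this, hm, Complex.conj_natCast]
  have hconjθ : ∀ (θ : IrrCharacter ↥K) (β : IrrCharacter ↥N') (_ : ∀ c, (β.1 c).im = 0) (m : ℕ),
      classInner (fun c : ↥N' => θ.1 (ι c)) β.1 = m →
      classInner (fun c : ↥N' => (irrConj θ).1 (ι c)) β.1 = m := by
    intro θ β hβ m hm
    have : classInner (fun c : ↥N' => (irrConj θ).1 (ι c)) β.1 =
        conj (classInner (fun c : ↥N' => θ.1 (ι c)) β.1) := by
      unfold classInner
      rw [map_mul, map_inv₀, Complex.conj_natCast, map_sum]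
      congr 1
      refine Finset.sum_congr rfl fun c _ => ?_
      rw [map_mul, Complex.conj_conj]
      show conj (θ.1 _) * conj (β.1 c) = conj (θ.1 _) * β.1 c
      rw [Complex.conj_eq_iff_im.mpr (hβ c)]
    rw [this, hm, Complex.conj_natCast]
  refine card_eq_of_rel (fun χ ξ => ∃ (θ : IrrCharacter ↥K) (β : IrrCharacter ↥N') (m : ℕ),
    (∀ (s : ↥(P : Subgroup G)) (k : ↥K), θ.1 (s • k) = θ.1 k) ∧
    classInner (fun n : ↥K => χ.1.1 n) θ.1 ≠ 0 ∧
    classInner (fun n : ↥N' => ξ.1.1 n) β.1 ≠ 0 ∧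
    classInner (fun c : ↥N' => θ.1 (ι c)) β.1 = m ∧ ¬ p ∣ m) ?_ ?_ ?_ ?_
  · -- every real character of `G` has a correspondent
    rintro ⟨χ, hχ⟩
    obtain ⟨θ₀, hθ₀⟩ := exists_constituent_res K χ
    have hθ₀r := real_of_real_over K hodd χ hχ θ₀ hθ₀
    obtain ⟨f, hf⟩ := Cfsg.Agent.ItoConv.degree_over K θ₀ χ hθ₀
    have hIidx : ¬ p ∣ (Clifford.inertia K θ₀.1).index := by
      intro h
      apply hreal χ hχ
      rw [hf, mul_assoc]
      exact Dvd.dvd.mul_right h _
    obtain ⟨g, hg⟩ := exists_conj_sylow_le p P (Clifford.inertia K θ₀.1) hIidx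
    let θ : IrrCharacter ↥K := ⟨conjChar K θ₀.1 g⁻¹, isIrrCharacter_conjChar K θ₀.2 g⁻¹⟩
    have hθinv : ∀ (s : ↥(P : Subgroup G)) (k : ↥K), θ.1 (s • k) = θ.1 k := by
      intro s k
      have h1 := (Clifford.mem_inertia_iff K).mp (hg s s.2)
        ⟨g⁻¹ * (k : G) * g⁻¹⁻¹, hK.conj_mem _ k.2 g⁻¹⟩
      show conjChar K θ₀.1 g⁻¹ (s • k) = conjChar K θ₀.1 g⁻¹ k
      rw [conjChar_apply, conjChar_apply, ← h1]
      refine congrArg θ₀.1 (Subtype.ext ?_)
      show g⁻¹ * ((s : G) * (k : G) * (s : G)⁻¹) * g⁻¹⁻¹ =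
        (g⁻¹ * (s : G) * g) * (g⁻¹ * (k : G) * g⁻¹⁻¹) * (g⁻¹ * (s : G) * g)⁻¹
      group
    have hθr : ∀ k, (θ.1 k).im = 0 := fun k => hθ₀r _
    have hθχ : classInner (fun n : ↥K => χ.1 n) θ.1 ≠ 0 := by
      show classInner (fun n : ↥K => χ.1 n) (conjChar K θ₀.1 g⁻¹) ≠ 0
      rw [classInner_res_conjChar K (irr_isClassFunction χ)]
      exact hθ₀
    obtain ⟨β, ⟨m, hm, hpm⟩, huniq⟩ := G1 θ hθinv
    have hβ : irrConj β = β := huniq _ ⟨m, hconjβ θ hθr β m hm, hpm⟩
    have hβr : ∀ c, (β.1 c).im = 0 := by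
      intro c
      have := congrArg (fun ψ : IrrCharacter ↥N' => ψ.1 c) hβ
      exact Complex.conj_eq_iff_im.mp this
    obtain ⟨ξ, hξr, hξβ⟩ := exists_real_over N' hodd' β hβr
    exact ⟨⟨ξ, hξr⟩, θ, β, m, hθinv, hθχ, hξβ, hm, hpm⟩
  · -- every real character of the normalizer has a correspondent
    rintro ⟨ξ, hξ⟩
    obtain ⟨β, hβ⟩ := exists_constituent_res N' ξ
    have hβr := real_of_real_over N' hodd' ξ hξ β hβ
    obtain ⟨θ, hθi, m, hm, hpm⟩ := G4 β
    have hθ' : irrConj θ = θ := G3 (irrConj θ) θ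
      (fun x k => by
        show conj (θ.1 (x • k)) = conj (θ.1 k)
        rw [hθi]) hθi β m m (hconjθ θ β hβr m hm) hpm hm hpm
    have hθr : ∀ k, (θ.1 k).im = 0 := by
      intro k
      have := congrArg (fun ψ : IrrCharacter ↥K => ψ.1 k) hθ'
      exact Complex.conj_eq_iff_im.mp this
    obtain ⟨χ, hχr, hχθ⟩ := exists_real_over K hodd θ hθr
    exact ⟨⟨χ, hχr⟩, θ, β, m, hθi, hχθ, hβ, hm, hpm⟩
  · -- uniqueness of the correspondent
    rintro ⟨χ, hχ⟩ ⟨ξ, hξ⟩ ⟨ξ', hξ'⟩ ⟨θ, β, m, hθi, hχθ, hξβ, hm, hpm⟩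
      ⟨θ', β', m', hθi', hχθ', hξβ', hm', hpm'⟩
    apply Subtype.ext
    show ξ = ξ'
    obtain ⟨g, hg⟩ := clifford_conj K χ.2 θ.2 θ'.2 hχθ hχθ'
    have hPI : (P : Subgroup G) ≤ Clifford.inertia K θ'.1 := by
      intro s hs
      rw [Clifford.mem_inertia]
      funext k
      exact hθi' ⟨s, hs⟩ k
    have hgI : ∀ s ∈ (P : Subgroup G), g⁻¹ * s * g⁻¹⁻¹ ∈ Clifford.inertia K θ'.1 := by
      intro s hs
      rw [Clifford.mem_inertia, hg, conjChar_conjChar]
      funext k
      have h1 := hθi ⟨s, hs⟩ ⟨g * (k : G) * g⁻¹, hK.conj_mem _ k.2 g⟩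
      rw [conjChar_apply, conjChar_apply, ← h1]
      refine congrArg θ.1 (Subtype.ext ?_)
      show g * (g⁻¹ * s * g⁻¹⁻¹) * (k : G) * (g * (g⁻¹ * s * g⁻¹⁻¹))⁻¹ =
        s * (g * (k : G) * g⁻¹) * s⁻¹
      group
    obtain ⟨c, hc, hcg⟩ := exists_mul_mem_normalizer p P (Clifford.inertia K θ'.1) hPI g⁻¹ hgI
    rw [← hHdef] at hcg
    -- `θ = θ'^(c g⁻¹)`
    have hθeq : θ.1 = conjChar K θ'.1 (c * g⁻¹) := by
      rw [← conjChar_conjChar, (Clifford.mem_inertia K).mp hc, hg, conjChar_conjChar,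
        mul_inv_cancel, conjChar_one]
    let β₁ : IrrCharacter ↥N' :=
      ⟨conjChar N' β'.1 ⟨c * g⁻¹, hcg⟩, isIrrCharacter_conjChar N' β'.2 _⟩
    have hβ₁ : classInner (fun c : ↥N' => θ.1 (ι c)) β₁.1 = m' := by
      rw [← hm', ← hF2 θ'.1 β'.1 ⟨c * g⁻¹, hcg⟩, hθeq]
    have hββ₁ : β₁ = β := (G1 θ hθi).unique ⟨m', hβ₁, hpm'⟩ ⟨m, hm, hpm⟩
    have hξ'β : classInner (fun n : ↥N' => ξ'.1 n) β.1 ≠ 0 := by
      rw [← hββ₁]
      show classInner (fun n : ↥N' => ξ'.1 n) (conjChar N' β'.1 ⟨c * g⁻¹, hcg⟩) ≠ 0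
      rw [classInner_res_conjChar N' (irr_isClassFunction ξ')]
      exact hξβ'
    exact eq_of_real_of_res_ne_zero N' hodd' β ξ ξ' hξ hξ' hξβ hξ'β
  · -- injectivity
    rintro ⟨χ, hχ⟩ ⟨χ', hχ'⟩ ⟨ξ, hξ⟩ ⟨θ, β, m, hθi, hχθ, hξβ, hm, hpm⟩
      ⟨θ', β', m', hθi', hχθ', hξβ', hm', hpm'⟩
    apply Subtype.ext
    show χ = χ'
    obtain ⟨h, hh⟩ := clifford_conj N' ξ.2 β.2 β'.2 hξβ hξβ'
    let θ₁ : IrrCharacter ↥K := ⟨conjChar K θ.1 (h : G), isIrrCharacter_conjChar K θ.2 _⟩
    have hθ₁i : ∀ (s : ↥(P : Subgroup G)) (k : ↥K), θ₁.1 (s • k) = θ₁.1 k :=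
      hF1 θ.1 (h : G) h.2 hθi
    have hθ₁β : classInner (fun c : ↥N' => θ₁.1 (ι c)) β'.1 = m := by
      rw [← hm, ← hF2 θ.1 β.1 h, hh]
    have hθ₁θ' : θ₁ = θ' := G3 θ₁ θ' hθ₁i hθi' β' m m' hθ₁β hpm hm' hpm'
    have hχθ'' : classInner (fun n : ↥K => χ.1 n) θ'.1 ≠ 0 := by
      rw [← hθ₁θ']
      show classInner (fun n : ↥K => χ.1 n) (conjChar K θ.1 (h : G)) ≠ 0
      rw [classInner_res_conjChar K (irr_isClassFunction χ)]
      exact hχθ
    exact eq_of_real_of_res_ne_zero K hodd θ' χ χ' hχ hχ' hχθ'' hχθ'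

end Count

section RealClasses

variable {G : Type u} [Group G] [Finite G]

theorem isConj_inv_of_isConj {x y : G} (h : IsConj x y) (hy : IsConj y y⁻¹) : IsConj x x⁻¹ := by
  obtain ⟨c, hc⟩ := isConj_iff.mp h
  have h1 : IsConj x⁻¹ y⁻¹ := isConj_iff.mpr ⟨c, by rw [← hc]; group⟩
  exact h.trans (hy.trans h1.symm)

/-- The coprime case: if the subgroup generated by the `2`-elements has order prime to `p` and the
real irreducible characters have degree prime to `p`, the normalizer of a Sylow `p`-subgroup meets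
every real class. -/
theorem exists_conj_mem_normalizer_of_coprime (p : ℕ) [hp : Fact p.Prime]
    (hpK : ¬ p ∣ Nat.card (pGen 2 G)) (hreal : RealHyp p G) (P : Sylow p G) (x : G)
    (hx : IsConj x x⁻¹) :
    ∃ y ∈ Subgroup.normalizer ((P : Subgroup G) : Set G), IsConj x y := by
  classical
  haveI : Fintype G := Fintype.ofFinite G
  haveI hKn : (pGen 2 G).Normal := pGen_normal 2
  have hcount := card_real_irr_eq_normalizer p (pGen 2 G) odd_index_pGen_two hpK hreal P
  rw [card_real_irr_eq_card_real_classes, card_real_irr_eq_card_real_classes] at hcount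
  obtain ⟨H, hHdef⟩ : ∃ H : Subgroup G, H = Subgroup.normalizer ((P : Subgroup G) : Set G) :=
    ⟨_, rfl⟩
  rw [← hHdef] at hcount ⊢
  have hPK : (P : Subgroup G) ⊓ pGen 2 G = ⊥ := by
    apply disjoint_iff.mp
    apply Subgroup.disjoint_of_coprime_natCard
    obtain ⟨k, hk⟩ := IsPGroup.iff_card.mp P.isPGroup'
    rw [hk]
    exact Nat.Coprime.pow_left _ ((Nat.Prime.coprime_iff_not_dvd hp.out).mpr hpK)
  have hrealG : ∀ h : ↥H, IsConj h h⁻¹ → IsConj (h : G) (h : G)⁻¹ := by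
    intro h hh
    have := H.subtype.map_isConj hh
    simpa using this
  -- real elements of the normalizer centralize `P`
  have hcent : ∀ h : ↥H, IsConj h h⁻¹ →
      (h : G) ∈ Subgroup.centralizer ((P : Subgroup G) : Set G) := by
    intro h hh
    have hK := real_mem_pGen_two (h : G) (hrealG h hh)
    rw [Subgroup.mem_centralizer_iff]
    intro s hs
    have hH : (h : G) ∈ Subgroup.normalizer ((P : Subgroup G) : Set G) := by
      rw [← hHdef]; exact h.2
    have h1 : (h : G) * s⁻¹ * (h : G)⁻¹ ∈ (P : Subgroup G) :=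
      (Subgroup.mem_normalizer_iff.mp hH _).mp (Subgroup.inv_mem _ hs)
    have h2 : s * (h : G) * s⁻¹ * (h : G)⁻¹ ∈ (P : Subgroup G) ⊓ pGen 2 G := by
      refine ⟨?_, ?_⟩
      · have : s * (h : G) * s⁻¹ * (h : G)⁻¹ = s * ((h : G) * s⁻¹ * (h : G)⁻¹) := by group
        rw [this]; exact Subgroup.mul_mem _ hs h1
      · exact (pGen 2 G).mul_mem (hKn.conj_mem _ hK _) ((pGen 2 G).inv_mem hK)
    rw [hPK, Subgroup.mem_bot] at h2
    calc s * (h : G) = (s * (h : G) * s⁻¹ * (h : G)⁻¹) * ((h : G) * s) := by group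
      _ = (h : G) * s := by rw [h2, one_mul]
  -- the map on real classes
  let Φ : {L : ConjClasses ↥H // ∀ h : ↥H, ConjClasses.mk h = L → IsConj h h⁻¹} →
      {C : ConjClasses G // ∀ g : G, ConjClasses.mk g = C → IsConj g g⁻¹} :=
    fun L => ⟨ConjClasses.map H.subtype L.1, by
      intro g hg
      obtain ⟨h, hh⟩ := ConjClasses.exists_rep L.1
      rw [← hh] at hg
      have hgh : IsConj g (h : G) := ConjClasses.mk_eq_mk_iff_isConj.mp hg
      exact isConj_inv_of_isConj hgh (hrealG h (L.2 h hh))⟩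
  have hΦ : Function.Injective Φ := by
    rintro ⟨L₁, hL₁⟩ ⟨L₂, hL₂⟩ h12
    apply Subtype.ext
    obtain ⟨h₁, rfl⟩ := ConjClasses.exists_rep L₁
    obtain ⟨h₂, rfl⟩ := ConjClasses.exists_rep L₂
    have h3 : ConjClasses.mk (h₁ : G) = ConjClasses.mk (h₂ : G) := congrArg Subtype.val h12
    obtain ⟨g, hg⟩ := isConj_iff.mp (ConjClasses.mk_eq_mk_iff_isConj.mp h3)
    have hc1 := hcent h₁ (hL₁ h₁ rfl)
    have hc2 := hcent h₂ (hL₂ h₂ rfl)
    have hg' : g⁻¹⁻¹ * (h₁ : G) * g⁻¹ = (h₂ : G) := by rw [inv_inv]; exact hg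
    obtain ⟨n, hn, hn2⟩ := P.conj_eq_normalizer_conj_of_mem_centralizer (h₁ : G) g⁻¹ hc1
      (by rw [hg']; exact hc2)
    show ConjClasses.mk h₁ = ConjClasses.mk h₂
    rw [ConjClasses.mk_eq_mk_iff_isConj, isConj_iff]
    refine ⟨⟨n⁻¹, by rw [hHdef]; exact Subgroup.inv_mem _ hn⟩, ?_⟩
    apply Subtype.ext
    show n⁻¹ * (h₁ : G) * n⁻¹⁻¹ = (h₂ : G)
    rw [inv_inv, ← hn2, hg']
  have hbij : Function.Bijective Φ := hΦ.bijective_of_nat_card_le (le_of_eq hcount)
  obtain ⟨L, hL⟩ := hbij.2 ⟨ConjClasses.mk x, fun g hg =>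
    isConj_inv_of_isConj (ConjClasses.mk_eq_mk_iff_isConj.mp hg) hx⟩
  obtain ⟨h, hh⟩ := ConjClasses.exists_rep L.1
  refine ⟨(h : G), h.2, ?_⟩
  have h5 : ConjClasses.map H.subtype L.1 = ConjClasses.mk x := congrArg Subtype.val hL
  rw [← hh] at h5
  exact (ConjClasses.mk_eq_mk_iff_isConj.mp h5).symm

/-- If the subgroup generated by the `p`-elements of `G` is solvable and every real-valued
irreducible character of `G` has degree prime to `p`, the normalizer of a Sylow `p`-subgroup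
meets every real class. -/
theorem exists_conj_mem_normalizer (p : ℕ) [hp : Fact p.Prime]
    (hsolv : Group.IsSolvable ↥(pGen p G)) (hreal : RealHyp p G) (P : Sylow p G) (x : G)
    (hx : IsConj x x⁻¹) :
    ∃ y ∈ Subgroup.normalizer ((P : Subgroup G) : Set G), IsConj x y := by
  classical
  obtain ⟨P₀, hP₀n, hP₀p, hP₀all⟩ := nsyl_main p (Nat.card G) G le_rfl hsolv hreal
  haveI := hP₀n
  haveI : Fact (Nat.Prime 2) := ⟨Nat.prime_two⟩
  have hrealQ : RealHyp p (G ⧸ P₀) := by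
    intro χ hχ
    rw [← charDegree_inflate P₀ χ]
    apply hreal (inflate P₀ χ)
    intro g
    rw [inflate_apply]; exact hχ _
  have hpKQ : ¬ p ∣ Nat.card (pGen 2 (G ⧸ P₀)) := by
    intro hdvd
    obtain ⟨q, hq⟩ := exists_prime_orderOf_dvd_card' p hdvd
    have hq1 : (q : G ⧸ P₀) ∈ (pGen 2 G).map (QuotientGroup.mk' P₀) :=
      pGen_quotient_le 2 P₀ q.2
    obtain ⟨k, hk, hkq⟩ := hq1
    obtain ⟨a, m, hm, hkm⟩ :=
      Nat.exists_eq_pow_mul_and_not_dvd (orderOf_pos k).ne' p hp.out.ne_one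
    have h1 : (k ^ m) ^ p ^ a = 1 := by
      rw [← pow_mul, mul_comm, ← hkm, pow_orderOf_eq_one]
    have h2 : k ^ m ∈ P₀ := hP₀all _ (Subgroup.pow_mem _ hk m) (pElt_of_pow_eq_one p h1)
    have h3 : (q : G ⧸ P₀) ^ m = 1 := by
      rw [← hkq, ← map_pow]
      exact (QuotientGroup.eq_one_iff _).mpr h2
    have h4 : orderOf (q : G ⧸ P₀) ∣ m := orderOf_dvd_of_pow_eq_one h3
    rw [Subgroup.orderOf_coe, hq] at h4
    exact hm h4
  obtain ⟨Pbar, hPbar⟩ : ∃ Pbar : Sylow p (G ⧸ P₀),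
      (Pbar : Subgroup (G ⧸ P₀)) = (P : Subgroup G).map (QuotientGroup.mk' P₀) :=
    ⟨P.mapSurjective (QuotientGroup.mk'_surjective P₀), Sylow.coe_mapSurjective _ _⟩
  have hxQ : IsConj (QuotientGroup.mk' P₀ x) (QuotientGroup.mk' P₀ x)⁻¹ := by
    have := (QuotientGroup.mk' P₀).map_isConj hx
    rwa [map_inv] at this
  obtain ⟨ybar, hybar, hconj⟩ :=
    exists_conj_mem_normalizer_of_coprime p hpKQ hrealQ Pbar _ hxQ
  obtain ⟨cbar, hcbar⟩ := isConj_iff.mp hconj
  obtain ⟨c, rfl⟩ := QuotientGroup.mk'_surjective P₀ cbar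
  have hP₀P : P₀ ≤ (P : Subgroup G) := by
    have h1 : IsPGroup p ((P : Subgroup G) ⊔ P₀ : Subgroup G) :=
      P.isPGroup'.to_sup_of_normal_right hP₀p
    have h2 := P.is_maximal' h1 le_sup_left
    rw [← h2]; exact le_sup_right
  have hcomap : ((P : Subgroup G).map (QuotientGroup.mk' P₀)).comap (QuotientGroup.mk' P₀) =
      (P : Subgroup G) := by
    rw [Subgroup.comap_map_eq, QuotientGroup.ker_mk', sup_eq_left.mpr hP₀P]
  refine ⟨c * x * c⁻¹, ?_, isConj_iff.mpr ⟨c, rfl⟩⟩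
  have hy : QuotientGroup.mk' P₀ (c * x * c⁻¹) ∈
      Subgroup.normalizer ((Pbar : Subgroup (G ⧸ P₀)) : Set (G ⧸ P₀)) := by
    rw [map_mul, map_mul, map_inv, hcbar]; exact hybar
  rw [Subgroup.mem_normalizer_iff] at hy ⊢
  intro s
  have hs := hy (QuotientGroup.mk' P₀ s)
  rw [hPbar] at hs
  have e1 : QuotientGroup.mk' P₀ s ∈ (P : Subgroup G).map (QuotientGroup.mk' P₀) ↔
      s ∈ (P : Subgroup G) := by
    rw [← Subgroup.mem_comap, hcomap]
  have e2 : QuotientGroup.mk' P₀ (c * x * c⁻¹) * QuotientGroup.mk' P₀ s *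
      (QuotientGroup.mk' P₀ (c * x * c⁻¹))⁻¹ ∈ (P : Subgroup G).map (QuotientGroup.mk' P₀) ↔
      (c * x * c⁻¹) * s * (c * x * c⁻¹)⁻¹ ∈ (P : Subgroup G) := by
    rw [← map_mul, ← map_inv, ← map_mul, ← Subgroup.mem_comap, hcomap]
  rw [← e1, ← e2]; exact hs

/-- The statement in the form of S4864. -/
theorem real_class_meets_normalizer (p : ℕ) [Fact p.Prime]
    (hsolv : Group.IsSolvable ↥(Subgroup.closure {g : G | ∃ k : ℕ, orderOf g = p ^ k}))
    (hreal : ∀ χ : IrrCharacter G, (∀ g : G, ((χ : G → ℂ) g).im = 0) →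
      ¬ p ∣ charDegree (χ : G → ℂ))
    (P : Sylow p G) (x : G) (hx : IsConj x x⁻¹) :
    ∃ y ∈ Subgroup.normalizer ((P : Subgroup G) : Set G), IsConj x y :=
  exists_conj_mem_normalizer p hsolv hreal P x hx

end RealClasses

end Cfsg.Agent.H83
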