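import Mathlib
import Cfsg.Prelude.Def_Characters
import Cfsg.Prelude.Def_Blocks
import Cfsg.Agent.H83.RealNormalizer
import Cfsg.Agent.H78.FrobSchur4
import Cfsg.Agent.Lib.Helper96.GoUp
import Cfsg.Agent.H81.Reg

/-!
# Real characters of odd degree: general lemmas (helper83)

* `real_of_real_odd_over`: the irreducible constituents, on a normal subgroup, of a real-valued
  irreducible character of odd degree are real-valued (and have odd degree and odd orbit).
* `real_odd_ker`: a normal subgroup of odd order lies in the kernel of every real-valued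
  irreducible character of odd degree.
* `constituent_mem_ker`: kernels pass to constituents of restrictions.
* `card_irr_comp_surjective`, `card_ro_of_odd_ker`: transport of character counts along
  surjective homomorphisms.
* `card_real_odd_over_eq_inertia`: the Clifford correspondence preserves "real of odd degree"
  over a real character with inertia group of odd index.
-/

set_option autoImplicit false
set_option linter.unusedSectionVars false
set_option linter.style.haveILetI false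

namespace Cfsg.Agent.H83

open Cfsg Cfsg.Agent.H4 Cfsg.Agent.Clifford Cfsg.Agent.H82
open scoped ComplexConjugate

universe u

/-- Real-valued, of odd degree, with value `c * χ 1` at `z`. -/
def RO {X : Type u} [Group X] (z : X) (c : ℂ) (χ : X → ℂ) : Prop :=
  (∀ x, (χ x).im = 0) ∧ Odd (charDegree χ) ∧ χ z = c * χ 1

section Basics

variable {G : Type u} [Group G] [Fintype G] (N : Subgroup G) [hN : N.Normal] [Fintype N]

/-- A constituent `θ`, on a normal subgroup, of a real irreducible character is real if its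
inertia group has odd index. -/
theorem real_of_real_over_of_odd_inertia (χ : IrrCharacter G)
    (hχ : ∀ g, (χ.1 g).im = 0) (θ : IrrCharacter N)
    (h : classInner (fun n : N => χ.1 n) θ.1 ≠ 0)
    (hodd : Odd (Clifford.inertia N θ.1).index) : ∀ n, (θ.1 n).im = 0 := by
  classical
  have h' : classInner (fun n : N => χ.1 n) (irrConj θ).1 ≠ 0 := by
    have e : classInner (fun n : N => χ.1 n) (irrConj θ).1 =
        conj (classInner (fun n : N => χ.1 n) θ.1) := by
      unfold classInner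
      rw [map_mul, map_inv₀, Complex.conj_natCast, map_sum]
      congr 1
      refine Finset.sum_congr rfl fun n _ => ?_
      rw [map_mul, Complex.conj_eq_iff_im.mpr (hχ n)]
      rfl
    rw [e]
    exact (map_ne_zero _).mpr h
  obtain ⟨g, hg⟩ := clifford_conj N χ.2 θ.2 (irrConj θ).2 h h'
  have hbar : ∀ (ψ : N → ℂ) (x : G),
      conjChar N (fun n => conj (ψ n)) x = fun n => conj (conjChar N ψ x n) := fun _ _ => rfl
  have hθbar : (irrConj θ).1 = fun n => conj (θ.1 n) := rfl
  have hg2 : g * g ∈ Clifford.inertia N θ.1 := by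
    rw [Clifford.mem_inertia, ← conjChar_conjChar, ← hg, hθbar, hbar, ← hg]
    funext n
    show conj (conj (θ.1 n)) = θ.1 n
    exact Complex.conj_conj _
  have hgn : g ∈ Subgroup.normalizer ((Clifford.inertia N θ.1 : Subgroup G) : Set G) := by
    rw [Subgroup.mem_normalizer_iff]
    intro x
    rw [Clifford.mem_inertia, Clifford.mem_inertia]
    constructor
    · intro hx
      rw [show g * x * g⁻¹ = g * (x * g⁻¹) by group, ← conjChar_conjChar, ← hg, hθbar,
        ← conjChar_conjChar, hbar, hx, ← hθbar, hg, conjChar_conjChar, mul_inv_cancel,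
        conjChar_one]
    · intro hx
      have h1 : conjChar N (conjChar N θ.1 (g * x * g⁻¹)) g = conjChar N θ.1 g := by rw [hx]
      rw [conjChar_conjChar, show g * x * g⁻¹ * g = g * x by group, ← conjChar_conjChar, ← hg,
        hθbar, hbar] at h1
      funext n
      have h2 := congrFun h1 n
      have h3 : conj (conjChar N θ.1 x n) = conj (θ.1 n) := h2
      exact (starRingEnd ℂ).injective h3
  -- pass to the normalizer of the inertia group
  obtain ⟨I, hI⟩ : ∃ I : Subgroup G, I = Clifford.inertia N θ.1 := ⟨_, rfl⟩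
  rw [← hI] at hgn hg2 hodd
  have hodd' : Odd (I.subgroupOf (Subgroup.normalizer (I : Set G))).index := by
    have h1 : I.relIndex (Subgroup.normalizer (I : Set G)) ∣ I.index :=
      Subgroup.relIndex_dvd_index_of_le Subgroup.le_normalizer
    exact Odd.of_dvd_nat hodd h1
  have hmem : (⟨g, hgn⟩ : Subgroup.normalizer (I : Set G)) ∈
      I.subgroupOf (Subgroup.normalizer (I : Set G)) := by
    apply mem_of_sq_mem_of_odd_index _ hodd'
    rw [Subgroup.mem_subgroupOf]
    exact hg2
  have hgI : g ∈ Clifford.inertia N θ.1 := by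
    rw [← hI]; exact Subgroup.mem_subgroupOf.mp hmem
  intro n
  have h4 : conjChar N θ.1 g = θ.1 := hgI
  rw [h4] at hg
  have := congrFun hg n
  exact Complex.conj_eq_iff_im.mp this

/-- Constituents of a real irreducible character of odd degree on a normal subgroup. -/
theorem real_of_real_odd_over (χ : IrrCharacter G) (hχ : ∀ g, (χ.1 g).im = 0)
    (hodd : Odd (charDegree χ.1)) (θ : IrrCharacter N)
    (h : classInner (fun n : N => χ.1 n) θ.1 ≠ 0) :
    (∀ n, (θ.1 n).im = 0) ∧ Odd (Clifford.inertia N θ.1).index ∧ Odd (charDegree θ.1) := by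
  obtain ⟨f, hf⟩ := Cfsg.Agent.ItoConv.degree_over N θ χ h
  rw [hf] at hodd
  have h1 := Nat.odd_mul.mp hodd
  have h2 := Nat.odd_mul.mp h1.1
  exact ⟨real_of_real_over_of_odd_inertia N χ hχ θ h h2.1, h2.1, h1.2⟩

/-- Odd-degree version without reality. -/
theorem odd_of_odd_over (χ : IrrCharacter G)
    (hodd : Odd (charDegree χ.1)) (θ : IrrCharacter N)
    (h : classInner (fun n : N => χ.1 n) θ.1 ≠ 0) :
    Odd (Clifford.inertia N θ.1).index ∧ Odd (charDegree θ.1) := by
  obtain ⟨f, hf⟩ := Cfsg.Agent.ItoConv.degree_over N θ χ h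
  rw [hf] at hodd
  have h1 := Nat.odd_mul.mp hodd
  have h2 := Nat.odd_mul.mp h1.1
  exact ⟨h2.1, h1.2⟩

/-- A normal subgroup of odd order lies in the kernel of every real irreducible character of odd
degree. -/
theorem real_odd_ker (hM : Odd (Nat.card N)) (χ : IrrCharacter G) (hχ : ∀ g, (χ.1 g).im = 0)
    (hodd : Odd (charDegree χ.1)) : ∀ m : N, χ.1 m = χ.1 1 := by
  obtain ⟨θ, hθ⟩ := exists_constituent_res N χ
  have hθr := (real_of_real_odd_over N χ hχ hodd θ hθ).1
  have hθ1 : θ = H78.trivIrr N := H78.eq_trivIrr_of_odd_of_real hM θ hθr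
  rw [hθ1] at hθ
  exact const_of_over_one N χ.2 hθ

/-- If `θ` is `G`-invariant, an irreducible character over `θ` restricts to a multiple of `θ`. -/
theorem res_eq_smul_of_invariant {χ : G → ℂ} (hχ : IsIrrCharacter G χ) {θ : N → ℂ}
    (hθ : IsIrrCharacter N θ) (hinv : ∀ g : G, conjChar N θ g = θ)
    (h1 : classInner (fun n : N => χ n) θ ≠ 0) :
    (fun n : N => χ n) = classInner (fun n : N => χ n) θ • θ := by
  have hcl := clifford_res N hχ hθ h1
  have hset : {ψ' : N → ℂ | ∃ g : G, ψ' = conjChar N θ g} = {θ} := by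
    ext ψ'
    constructor
    · rintro ⟨g, rfl⟩; exact hinv g
    · intro h
      have h' : ψ' = θ := h
      exact ⟨1, by rw [h', hinv]⟩
  rwa [hset, finsum_mem_singleton] at hcl

/-- Over a linear character `θ`, the value at a central element `z ∈ N` is `θ z * χ 1`. -/
theorem eq_mul_of_over_of_central {χ : G → ℂ} (hχ : IsIrrCharacter G χ) {θ : N → ℂ}
    (hθ : IsIrrCharacter N θ) (hθ1 : θ 1 = 1)
    (h1 : classInner (fun n : N => χ n) θ ≠ 0) (z : N) (hz : ∀ g : G, g * (z : G) * g⁻¹ = z) :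
    χ z = θ z * χ 1 := by
  classical
  have hcl := clifford_res N hχ hθ h1
  have hfin : {ψ : N → ℂ | ∃ g : G, ψ = conjChar N θ g}.Finite := by
    have : {ψ : N → ℂ | ∃ g : G, ψ = conjChar N θ g} = Set.range (fun g : G => conjChar N θ g) := by
      ext ψ; constructor
      · rintro ⟨g, rfl⟩; exact ⟨g, rfl⟩
      · rintro ⟨g, rfl⟩; exact ⟨g, rfl⟩
    rw [this]; exact Set.finite_range _
  rw [finsum_mem_eq_finite_toFinset_sum _ hfin] at hcl
  have hz' := congrFun hcl z
  have h1' := congrFun hcl 1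
  simp only [Pi.smul_apply, Finset.sum_apply, smul_eq_mul] at hz' h1'
  have hterm : ∀ ψ ∈ hfin.toFinset, ψ z = θ z * ψ 1 := by
    intro ψ hψ
    obtain ⟨g, rfl⟩ : ∃ g : G, ψ = conjChar N θ g := by simpa using hψ
    rw [conjChar_apply, conjChar_apply]
    have e1 : (⟨g * (z : G) * g⁻¹, hN.conj_mem (z : G) z.2 g⟩ : N) = z := Subtype.ext (hz g)
    have e2 : (⟨g * ((1 : N) : G) * g⁻¹, hN.conj_mem ((1 : N) : G) (1 : N).2 g⟩ : N) = 1 :=
      Subtype.ext (by simp)
    rw [e1, e2, hθ1, mul_one]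
  rw [Finset.sum_congr rfl hterm, ← Finset.mul_sum] at hz'
  have e3 : χ ((1 : N) : G) = χ 1 := by simp
  rw [hz', ← e3, h1']
  ring

end Basics

section Kernel

variable {G : Type u} [Group G] [Fintype G]

/-- Kernels pass to constituents of restrictions: if `χ d = χ 1` and `φ` is a constituent of
`χ|D`, then `φ d = φ 1`. -/
theorem constituent_mem_ker (D : Subgroup G) [Fintype D] (χ : IrrCharacter G)
    (φ : IrrCharacter D) (h : classInner (fun d : D => χ.1 d) φ.1 ≠ 0) (d : D)
    (hd : χ.1 d = χ.1 1) : φ.1 d = φ.1 1 := by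
  classical
  letI := fintypeIrr D
  have hχD : IsCharacter D (fun d : D => χ.1 d) :=
    isCharacter_restrict D (isCharacter_of_isIrrCharacter χ.2)
  have hm : ∀ φ' : IrrCharacter D, ∃ m : ℕ, classInner (fun d : D => χ.1 d) φ'.1 = m := fun φ' =>
    classInner_isCharacter_nat hχD (isCharacter_of_isIrrCharacter φ'.2)
  choose m hm using hm
  have hexp := classFunction_eq_finsum (isClassFunction_of_isCharacter hχD)
  rw [finsum_irr_eq_sum] at hexp
  have hval : ∀ x : D, χ.1 x = ∑ φ' : IrrCharacter D, (m φ' : ℂ) * φ'.1 x := by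
    intro x
    have := congrFun hexp x
    simp only [Finset.sum_apply, Pi.smul_apply, smul_eq_mul] at this
    rw [this]
    exact Finset.sum_congr rfl fun φ' _ => by rw [hm]
  have hdeg : ∀ φ' : IrrCharacter D, φ'.1 1 = (charDegree φ'.1 : ℂ) := fun φ' =>
    irr_one_eq_charDegree φ'
  have hle : ∀ (φ' : IrrCharacter D) (x : D), (φ'.1 x).re ≤ (charDegree φ'.1 : ℝ) := by
    intro φ' x
    have h1 := IsIrrCharacter.norm_le φ'.2 x
    rw [hdeg, Complex.norm_natCast] at h1
    exact (Complex.re_le_norm _).trans h1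
  have h1 : χ.1 ((1 : D) : G) = χ.1 1 := by simp
  have hsum : ∑ φ' : IrrCharacter D, (m φ' : ℝ) * ((charDegree φ'.1 : ℝ) - (φ'.1 d).re) = 0 := by
    have e1 := congrArg Complex.re (hval d)
    have e2 := congrArg Complex.re (hval 1)
    rw [hd] at e1
    rw [h1] at e2
    rw [e1] at e2
    simp only [Complex.re_sum, Complex.mul_re, Complex.natCast_re, Complex.natCast_im, zero_mul,
      sub_zero] at e2
    simp only [mul_sub, Finset.sum_sub_distrib]
    rw [e2]
    have : ∀ φ' : IrrCharacter D, (φ'.1 1).re = (charDegree φ'.1 : ℝ) := by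
      intro φ'; rw [hdeg, Complex.natCast_re]
    simp only [this]
    ring
  have hnn : ∀ φ' ∈ (Finset.univ : Finset (IrrCharacter D)),
      0 ≤ (m φ' : ℝ) * ((charDegree φ'.1 : ℝ) - (φ'.1 d).re) := fun φ' _ =>
    mul_nonneg (Nat.cast_nonneg _) (sub_nonneg.mpr (hle φ' d))
  have hz := (Finset.sum_eq_zero_iff_of_nonneg hnn).mp hsum φ (Finset.mem_univ _)
  have hmφ : (m φ : ℝ) ≠ 0 := by
    intro h0
    have : (m φ : ℂ) = 0 := by exact_mod_cast h0
    rw [← hm] at this
    exact h this
  have hre : (φ.1 d).re = (charDegree φ.1 : ℝ) := by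
    rcases mul_eq_zero.mp hz with h0 | h0
    · exact absurd h0 hmφ
    · linarith
  have hnorm := IsIrrCharacter.norm_le φ.2 d
  rw [hdeg, Complex.norm_natCast] at hnorm
  have him : (φ.1 d).im = 0 := by
    have h2 : ‖φ.1 d‖ ^ 2 = (φ.1 d).re ^ 2 + (φ.1 d).im ^ 2 := by
      rw [← Complex.normSq_eq_norm_sq, Complex.normSq_apply]; ring
    have h3 : ‖φ.1 d‖ ^ 2 ≤ (charDegree φ.1 : ℝ) ^ 2 :=
      pow_le_pow_left₀ (norm_nonneg _) hnorm 2
    rw [h2, hre] at h3
    have h4 : (φ.1 d).im ^ 2 ≤ 0 := by linarith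
    have h5 : (φ.1 d).im ^ 2 = 0 := le_antisymm h4 (sq_nonneg _)
    exact pow_eq_zero_iff (two_ne_zero) |>.mp h5
  rw [hdeg]
  apply Complex.ext
  · rw [hre, Complex.natCast_re]
  · rw [him, Complex.natCast_im]

end Kernel

section Transport

/-- Characters of a quotient: counting along a surjective homomorphism. -/
theorem card_irr_comp_surjective {A : Type u} {B : Type u} [Group A] [Group B] [Finite A]
    [Finite B] (f : A →* B) (hf : Function.Surjective f) (Φ : (A → ℂ) → Prop) :
    Nat.card {χ : IrrCharacter A // (∀ a, f a = 1 → χ.1 a = χ.1 1) ∧ Φ χ.1} =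
      Nat.card {χ' : IrrCharacter B // Φ (fun a => χ'.1 (f a))} := by
  symm
  refine Nat.card_eq_of_bijective (fun χ' =>
    ⟨⟨fun a => χ'.1.1 (f a), isIrrCharacter_comp_surjective f hf χ'.1.2⟩,
      ⟨fun a ha => by
        show χ'.1.1 (f a) = χ'.1.1 (f 1)
        rw [ha, map_one], χ'.2⟩⟩) ⟨?_, ?_⟩
  · intro x y hxy
    apply Subtype.ext; apply Subtype.ext
    funext b
    obtain ⟨a, rfl⟩ := hf b
    have h1 := congrArg (fun t : {χ : IrrCharacter A //
      (∀ a, f a = 1 → χ.1 a = χ.1 1) ∧ Φ χ.1} => t.1.1 a) hxy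
    exact h1
  · rintro ⟨χ, hk, hΦ⟩
    obtain ⟨χ', hχ', hval⟩ :=
      Cfsg.Agent.Lib.Helper96.exists_deflate_of_surj f hf χ.2 hk
    have e : (fun a => χ' (f a)) = χ.1 := funext hval
    refine ⟨⟨⟨χ', hχ'⟩, ?_⟩, ?_⟩
    · show Φ (fun a => χ' (f a))
      rw [e]; exact hΦ
    · apply Subtype.ext; apply Subtype.ext
      exact e

theorem charDegree_comp {A : Type u} {B : Type u} [Group A] [Group B] (f : A →* B)
    (χ : B → ℂ) : charDegree (fun a => χ (f a)) = charDegree χ := by
  unfold charDegree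
  show ⌊(χ (f 1)).re⌋₊ = ⌊(χ 1).re⌋₊
  rw [map_one]

theorem ro_comp_iff {A : Type u} {B : Type u} [Group A] [Group B] (f : A →* B)
    (hf : Function.Surjective f) (a₀ : A) (c : ℂ) (χ : B → ℂ) :
    RO a₀ c (fun a => χ (f a)) ↔ RO (f a₀) c χ := by
  unfold RO
  rw [charDegree_comp]
  show (∀ x : A, (χ (f x)).im = 0) ∧ Odd (charDegree χ) ∧ χ (f a₀) = c * χ (f 1) ↔ _
  rw [map_one]
  constructor
  · rintro ⟨h1, h2, h3⟩
    exact ⟨fun b => by obtain ⟨a, rfl⟩ := hf b; exact h1 a, h2, h3⟩
  · rintro ⟨h1, h2, h3⟩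
    exact ⟨fun a => h1 (f a), h2, h3⟩

/-- Real odd-degree characters are insensitive to quotients by normal subgroups of odd order. -/
theorem card_ro_of_odd_ker {A : Type u} {B : Type u} [Group A] [Group B] [Finite A]
    [Finite B] (f : A →* B) (hf : Function.Surjective f) (hodd : Odd (Nat.card f.ker))
    (a₀ : A) (c : ℂ) :
    Nat.card {χ : IrrCharacter A // RO a₀ c χ.1} =
      Nat.card {χ' : IrrCharacter B // RO (f a₀) c χ'.1} := by
  classical
  haveI : Fintype A := Fintype.ofFinite A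
  haveI : Fintype f.ker := Fintype.ofFinite _
  have h1 : Nat.card {χ : IrrCharacter A // RO a₀ c χ.1} =
      Nat.card {χ : IrrCharacter A // (∀ a, f a = 1 → χ.1 a = χ.1 1) ∧ RO a₀ c χ.1} := by
    apply Nat.card_congr
    apply Equiv.subtypeEquivRight
    intro χ
    constructor
    · intro h
      refine ⟨fun a ha => ?_, h⟩
      exact real_odd_ker f.ker hodd χ h.1 h.2.1 ⟨a, ha⟩
    · intro h; exact h.2
  rw [h1, card_irr_comp_surjective f hf (RO a₀ c)]
  apply Nat.card_congr
  apply Equiv.subtypeEquivRight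
  intro χ'
  exact ro_comp_iff f hf a₀ c χ'.1

end Transport

section Cliff

variable {G : Type u} [Group G] [Fintype G]

theorem extendByZero_conj (H : Subgroup G) (θ : H → ℂ) (g : G) :
    extendByZero H (fun h => conj (θ h)) g = conj (extendByZero H θ g) := by
  by_cases hg : g ∈ H
  · rw [extendByZero_of_mem H _ hg, extendByZero_of_mem H _ hg]
  · rw [extendByZero_of_not_mem H _ hg, extendByZero_of_not_mem H _ hg, map_zero]

theorem indFun_conj (H : Subgroup G) (θ : H → ℂ) (g : G) :
    indFun H (fun h => conj (θ h)) g = conj (indFun H θ g) := by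
  rw [indFun_apply, indFun_apply, map_mul, map_inv₀, Complex.conj_natCast, map_sum]
  congr 1
  exact Finset.sum_congr rfl fun x _ => extendByZero_conj H θ _

theorem indFun_real (H : Subgroup G) (θ : H → ℂ) (hθ : ∀ h, (θ h).im = 0) (g : G) :
    (indFun H θ g).im = 0 := by
  apply Complex.conj_eq_iff_im.mp
  rw [← indFun_conj]
  congr 1
  funext h
  exact Complex.conj_eq_iff_im.mpr (hθ h)

theorem charDegree_indFun (H : Subgroup G) (ψ : IrrCharacter H) :
    charDegree (indFun H ψ.1) = H.index * charDegree ψ.1 := by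
  have h1 : indFun H ψ.1 1 = ((H.index * charDegree ψ.1 : ℕ) : ℂ) := by
    rw [indFun_one_eq, irr_one_eq_charDegree]
    push_cast
    ring
  show ⌊(indFun H ψ.1 1).re⌋₊ = _
  rw [h1, Complex.natCast_re, Nat.floor_natCast]

theorem classInner_conj_left {X : Type u} [Group X] [Fintype X] (a b : X → ℂ)
    (hb : ∀ x, (b x).im = 0) :
    classInner (fun x => conj (a x)) b = conj (classInner a b) := by
  unfold classInner
  rw [map_mul, map_inv₀, Complex.conj_natCast, map_sum]
  congr 1
  refine Finset.sum_congr rfl fun x _ => ?_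
  rw [map_mul, Complex.conj_conj, Complex.conj_eq_iff_im.mpr (hb x)]

variable (N : Subgroup G) [hN : N.Normal] [Fintype N]

/-- The Clifford correspondence over a real character `ν` whose inertia group has odd index
preserves "real-valued of odd degree". -/
theorem card_real_odd_over_eq_inertia (ν : IrrCharacter N) (hν : ∀ n, (ν.1 n).im = 0)
    (T : Subgroup G) [Fintype T] (hT : T = Clifford.inertia N ν.1) (hNT : N ≤ T)
    (hodd : Odd T.index) :
    Nat.card {χ : IrrCharacter G // (∀ g, (χ.1 g).im = 0) ∧ Odd (charDegree χ.1) ∧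
        classInner (fun n : N => χ.1 n) ν.1 ≠ 0} =
      Nat.card {ψ : IrrCharacter T // (∀ t, (ψ.1 t).im = 0) ∧ Odd (charDegree ψ.1) ∧
        classInner (fun n : N => ψ.1 ⟨n, hNT n.2⟩) ν.1 ≠ 0} := by
  classical
  symm
  refine Nat.card_eq_of_bijective (fun ψ =>
    ⟨⟨indFun T ψ.1.1, (clifford_corr_irr ν.2 hNT hT ψ.1.2 ψ.2.2.2).1⟩,
      ⟨fun g => indFun_real T ψ.1.1 ψ.2.1 g, by
        show Odd (charDegree (indFun T ψ.1.1))
        rw [charDegree_indFun]
        exact Nat.odd_mul.mpr ⟨hodd, ψ.2.2.1⟩, by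
        show classInner (fun n : N => indFun T ψ.1.1 (n : G)) ν.1 ≠ 0
        rw [(clifford_corr_irr ν.2 hNT hT ψ.1.2 ψ.2.2.2).2]
        exact ψ.2.2.2⟩⟩) ⟨?_, ?_⟩
  · intro x y hxy
    apply Subtype.ext; apply Subtype.ext
    have h1 : indFun T x.1.1 = indFun T y.1.1 := congrArg (fun t : {χ : IrrCharacter G //
      (∀ g, (χ.1 g).im = 0) ∧ Odd (charDegree χ.1) ∧
        classInner (fun n : N => χ.1 n) ν.1 ≠ 0} => t.1.1) hxy
    exact clifford_corr_inj ν.2 hNT hT x.1.2 y.1.2 x.2.2.2 y.2.2.2 h1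
  · rintro ⟨χ, hχr, hχo, hχν⟩
    obtain ⟨ψ, hψ, hind, hc⟩ := clifford_corr_surj ν.2 hNT hT χ.2 hχν
    have hc' : classInner (fun n : N => ψ ⟨n, hNT n.2⟩) ν.1 ≠ 0 := by rw [hc]; exact hχν
    have hψbar : IsIrrCharacter T (fun t => conj (ψ t)) := isIrrCharacter_conj hψ
    have hcbar : classInner (fun n : N => conj (ψ ⟨n, hNT n.2⟩)) ν.1 ≠ 0 := by
      rw [classInner_conj_left _ _ hν]
      exact (map_ne_zero _).mpr hc'
    have hindbar : indFun T (fun t => conj (ψ t)) = indFun T ψ := by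
      funext g
      rw [indFun_conj, hind]
      exact Complex.conj_eq_iff_im.mpr (hχr g)
    have hψr : (fun t => conj (ψ t)) = ψ :=
      clifford_corr_inj ν.2 hNT hT hψbar hψ hcbar hc' hindbar
    have hψo : Odd (charDegree ψ) := by
      have h1 := charDegree_indFun T ⟨ψ, hψ⟩
      rw [show indFun T (⟨ψ, hψ⟩ : IrrCharacter T).1 = χ.1 from hind] at h1
      rw [h1] at hχo
      exact (Nat.odd_mul.mp hχo).2
    refine ⟨⟨⟨ψ, hψ⟩, ⟨fun t => Complex.conj_eq_iff_im.mp (congrFun hψr t), hψo, hc'⟩⟩, ?_⟩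
    apply Subtype.ext; apply Subtype.ext
    exact hind

/-- Characters of `T` (between `W` and the inertia group of the real linear character `ν` of
`W`) lying over `ν`, counted on the quotient by the kernel of `ν`. -/
theorem card_real_odd_over_eq_quot (W : Subgroup G) [hW : W.Normal] [Fintype W]
    (ν : W → ℂ) (hν : IsIrrCharacter W ν) (hpm : ∀ w, ν w = 1 ∨ ν w = -1)
    (T : Subgroup G) [Fintype T] (hWT : W ≤ T) (hT : T ≤ Clifford.inertia W ν)
    {X : Type u} [Group X] [Finite X] (f : T →* X) (hf : Function.Surjective f)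
    (hker : ∀ t : T, f t = 1 ↔ ∃ h : (t : G) ∈ W, ν ⟨t, h⟩ = 1)
    (w₀ : W) (hw₀ : ∀ w : W, ν w = 1 ∨ (ν w = -1 ∧ ν w₀ = -1)) :
    Nat.card {ψ : IrrCharacter T // (∀ t, (ψ.1 t).im = 0) ∧ Odd (charDegree ψ.1) ∧
        classInner (fun n : W => ψ.1 ⟨n, hWT n.2⟩) ν ≠ 0} =
      Nat.card {χ : IrrCharacter X // RO (f ⟨w₀, hWT w₀.2⟩) (ν w₀) χ.1} := by
  classical
  have hν1 : ν 1 = 1 := by
    rcases hpm 1 with h | h
    · exact h
    · exfalso
      have h1 := irr_one_eq_charDegree ⟨ν, hν⟩
      rw [show (⟨ν, hν⟩ : IrrCharacter W).1 1 = ν 1 from rfl, h] at h1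
      have h2 := congrArg Complex.re h1
      simp at h2
      have h3 : (0 : ℝ) ≤ (charDegree ν : ℝ) := Nat.cast_nonneg _
      linarith
  have hmul : ∀ a b : W, ν (a * b) = ν a * ν b := irr_linear_mul ⟨ν, hν⟩ hν1
  have key : ∀ ψ : IrrCharacter T, classInner (fun n : W => ψ.1 ⟨n, hWT n.2⟩) ν ≠ 0 ↔
      ((∀ t, f t = 1 → ψ.1 t = ψ.1 1) ∧ ψ.1 ⟨w₀, hWT w₀.2⟩ = ν w₀ * ψ.1 1) := by
    intro ψ
    constructor
    · intro h
      have hres := res_eq_smul_of_le_inertia hν hWT hT ψ.2 h
      have hval : ∀ n : W, ψ.1 ⟨n, hWT n.2⟩ = ν n * ψ.1 1 := by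
        intro n
        have e1 := congrFun hres n
        have e2 := congrFun hres 1
        simp only [Pi.smul_apply, smul_eq_mul] at e1 e2
        rw [hν1, mul_one] at e2
        have e3 : (⟨((1 : W) : G), hWT (1 : W).2⟩ : T) = 1 := rfl
        rw [e3] at e2
        rw [e1, e2]; ring
      refine ⟨fun t ht => ?_, hval w₀⟩
      obtain ⟨h1, h2⟩ := (hker t).mp ht
      have := hval ⟨t, h1⟩
      rw [h2, one_mul] at this
      exact this
    · rintro ⟨hk, hv⟩
      have hval : ∀ n : W, ψ.1 ⟨n, hWT n.2⟩ = ν n * ψ.1 1 := by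
        intro n
        rcases hw₀ n with h | ⟨h, h0⟩
        · rw [h, one_mul]
          exact hk _ ((hker _).mpr ⟨n.2, h⟩)
        · have h1 : ν (n * w₀⁻¹) = 1 := by
            have h2 : ν w₀ * ν w₀⁻¹ = 1 := by rw [← hmul, mul_inv_cancel, hν1]
            rw [h0] at h2
            have h3 : ν w₀⁻¹ = -1 := by linear_combination -h2
            rw [hmul, h, h3]; ring
          have h4 : (⟨n * w₀⁻¹, hWT (n * w₀⁻¹).2⟩ : T) ∈ irrKer ψ :=
            hk _ ((hker _).mpr ⟨(n * w₀⁻¹).2, h1⟩)
          have h5 := (irr_mul_of_mem_irrKer ψ h4 ⟨w₀, hWT w₀.2⟩).1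
          have h6 : (⟨n * w₀⁻¹, hWT (n * w₀⁻¹).2⟩ : T) * ⟨w₀, hWT w₀.2⟩ = ⟨n, hWT n.2⟩ := by
            apply Subtype.ext
            show ((n * w₀⁻¹ : W) : G) * (w₀ : G) = n
            simp
          rw [h6] at h5
          rw [h5, hv, h, h0]
      have hsum : classInner (fun n : W => ψ.1 ⟨n, hWT n.2⟩) ν = ψ.1 1 := by
        unfold classInner
        have : ∀ n : W, ψ.1 ⟨n, hWT n.2⟩ * conj (ν n) = ψ.1 1 := by
          intro n
          rw [hval n]
          rcases hpm n with h | h <;> rw [h] <;> simp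
        rw [Finset.sum_congr rfl fun n _ => this n, Finset.sum_const, Finset.card_univ,
          nsmul_eq_mul, ← Nat.card_eq_fintype_card]
        have hc : (Nat.card W : ℂ) ≠ 0 := by exact_mod_cast Nat.card_pos.ne'
        field_simp
      rw [hsum]
      exact H82.irr_one_ne_zero ψ
  have h1 : Nat.card {ψ : IrrCharacter T // (∀ t, (ψ.1 t).im = 0) ∧ Odd (charDegree ψ.1) ∧
        classInner (fun n : W => ψ.1 ⟨n, hWT n.2⟩) ν ≠ 0} =
      Nat.card {ψ : IrrCharacter T // (∀ t, f t = 1 → ψ.1 t = ψ.1 1) ∧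
        RO ⟨w₀, hWT w₀.2⟩ (ν w₀) ψ.1} := by
    apply Nat.card_congr
    apply Equiv.subtypeEquivRight
    intro ψ
    unfold RO
    rw [key ψ]
    tauto
  rw [h1, card_irr_comp_surjective f hf (RO ⟨w₀, hWT w₀.2⟩ (ν w₀))]
  apply Nat.card_congr
  apply Equiv.subtypeEquivRight
  intro χ'
  exact ro_comp_iff f hf _ _ χ'.1

end Cliff

end Cfsg.Agent.H83
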