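import Mathlib
import Cfsg.Prelude.Def_Characters
import Cfsg.Agent.H83.DegGraphA
import Cfsg.Agent.H83.RealOddA
import Cfsg.Agent.H4.ItoP1
import Cfsg.Agent.H4.WinB
import Cfsg.Agent.H4.GalB0
import Cfsg.Agent.H16.GCChar
import Cfsg.Agent.H1.Basic
import Cfsg.Agent.Lib.Gallagher
import Cfsg.Agent.Lib.ItoConv

/-!
# Character theory behind the degree graph of a solvable group (helper83)

* `res_irr_of_coprime`: in a solvable group an irreducible character of degree prime to the index
  of a normal subgroup restricts irreducibly to it.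
* `eq_top_of_vanish`: an irreducible character vanishing off a subgroup and restricting
  irreducibly to it forces the subgroup to be everything.
* `exists_hom_sep`: linear characters separate the points of an abelian quotient.
* `dvd_of_vanish`: the Frobenius-type case.
* `mul_irr_of_res_irr`: Gallagher for a character restricting irreducibly.
* `index_dvd_degree`: in the Frobenius-type case the index `[G : N]` divides the degree.
-/

set_option autoImplicit false
set_option linter.unusedSectionVars false
set_option linter.style.haveILetI false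

namespace Cfsg.Agent.H83

open Cfsg Cfsg.Agent.H4 Cfsg.Agent.Clifford
open scoped ComplexConjugate commutatorElement

universe u

section ResCoprime

/-- In a solvable group, irreducible characters of degree prime to the index of a normal subgroup
restrict irreducibly along an injective homomorphism onto that subgroup. -/
theorem res_irr_of_coprime_aux : ∀ (n : ℕ) (H : Type u) [Group H] [Finite H]
    [Group.IsSolvable H] (K : Type u) [Group K] (f : K →* H), Function.Injective f →
    f.range.Normal → f.range.index = n → ∀ ψ : H → ℂ, IsIrrCharacter H ψ →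
    (charDegree ψ).Coprime n → IsIrrCharacter K (fun k => ψ (f k)) := by
  intro n
  induction n using Nat.strong_induction_on with
  | _ n ih =>
    intro H _ _ _ K _ f hf hn hidx ψ hψ hdeg
    haveI := hn
    by_cases htop : f.range = ⊤
    · exact isIrrCharacter_comp_surjective f (MonoidHom.range_eq_top.mp htop) hψ
    · haveI : Nontrivial (H ⧸ f.range) := not_subsingleton_iff_nontrivial.mp
        (fun h => htop (QuotientGroup.subgroup_eq_top_of_subsingleton _ h))
      obtain ⟨Mb, hMbn, hMbp⟩ := Cfsg.Agent.H1.exists_normal_prime_index (H ⧸ f.range)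
      obtain ⟨M, hM⟩ : ∃ M : Subgroup H, M = Mb.comap (QuotientGroup.mk' f.range) := ⟨_, rfl⟩
      haveI hMn : M.Normal := by rw [hM]; exact hMbn.comap _
      obtain ⟨p, hp⟩ : ∃ p : ℕ, p = Mb.index := ⟨_, rfl⟩
      have hpp : p.Prime := hp ▸ hMbp
      have hMidx : M.index = p := by
        rw [hM, Subgroup.index_comap_of_surjective Mb (QuotientGroup.mk'_surjective f.range), hp]
      have hle : f.range ≤ M := by
        intro y hy
        rw [hM, Subgroup.mem_comap]
        have : QuotientGroup.mk' f.range y = 1 := (QuotientGroup.eq_one_iff y).mpr hy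
        rw [this]; exact one_mem _
      have hrel := Subgroup.relIndex_mul_index hle
      rw [hMidx, hidx] at hrel
      have hpn : p ∣ n := Dvd.intro_left _ hrel
      have hdegp : ¬ p ∣ charDegree ψ := by
        intro h
        have h1 : p.Coprime p :=
          Nat.Coprime.coprime_dvd_left h (Nat.Coprime.coprime_dvd_right hpn hdeg)
        exact hpp.ne_one ((Nat.coprime_self p).mp h1)
      have hψM : IsIrrCharacter M (fun m : M => ψ m) :=
        H82.res_irr_of_prime_index M hpp hMidx hψ hdegp
      have hdegM : charDegree (fun m : M => ψ m) = charDegree ψ :=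
        H82.charDegree_eq_of_one_eq rfl
      obtain ⟨f', hf'⟩ : ∃ f' : K →* M, ∀ k, ((f' k : M) : H) = f k :=
        ⟨f.codRestrict M (fun k => hle ⟨k, rfl⟩), fun k => rfl⟩
      have hf'inj : Function.Injective f' := by
        intro x y hxy
        apply hf
        rw [← hf' x, ← hf' y, hxy]
      have hrange : f'.range = f.range.subgroupOf M := by
        ext y
        rw [Subgroup.mem_subgroupOf]
        constructor
        · rintro ⟨k, rfl⟩
          exact ⟨k, (hf' k).symm⟩
        · rintro ⟨k, hk⟩
          exact ⟨k, Subtype.ext ((hf' k).trans hk)⟩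
      have hf'n : f'.range.Normal := by rw [hrange]; infer_instance
      have hf'idx : f'.range.index = f.range.relIndex M := by rw [hrange]; rfl
      have hn0 : 0 < n := by
        rw [← hidx]
        exact Nat.pos_of_ne_zero Subgroup.index_ne_zero_of_finite
      have hlt : f.range.relIndex M < n := by
        have h2 : 2 ≤ p := hpp.two_le
        have hr0 : 0 < f.range.relIndex M := by
          rcases Nat.eq_zero_or_pos (f.range.relIndex M) with h0 | h0
          · rw [h0, zero_mul] at hrel; omega
          · exact h0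
        nlinarith
      have hcop' : (charDegree (fun m : M => ψ m)).Coprime (f.range.relIndex M) := by
        rw [hdegM]
        exact Nat.Coprime.coprime_dvd_right (Dvd.intro _ hrel) hdeg
      have := ih _ hlt M K f' hf'inj hf'n hf'idx (fun m : M => ψ m) hψM hcop'
      have e : (fun k => (fun m : M => ψ m) (f' k)) = fun k => ψ (f k) := by
        funext k
        show ψ ((f' k : M) : H) = ψ (f k)
        rw [hf' k]
      rwa [e] at this

/-- In a solvable group an irreducible character of degree prime to the index of a normal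
subgroup restricts irreducibly to it. -/
theorem res_irr_of_coprime {H : Type u} [Group H] [Finite H] [Group.IsSolvable H]
    (K : Subgroup H) [hK : K.Normal] {ψ : H → ℂ} (hψ : IsIrrCharacter H ψ)
    (hdeg : (charDegree ψ).Coprime K.index) : IsIrrCharacter K (fun n : K => ψ n) := by
  have hr : K.subtype.range = K := Subgroup.range_subtype K
  exact res_irr_of_coprime_aux K.index H K K.subtype K.subtype_injective (by rw [hr]; exact hK)
    (by rw [hr]) ψ hψ hdeg

end ResCoprime

section Vanish

/-- An irreducible character which vanishes off a subgroup and restricts irreducibly to it lives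
on the whole group. -/
theorem eq_top_of_vanish {A : Type u} [Group A] [Fintype A] (B : Subgroup A) [Fintype B]
    {ψ : A → ℂ} (hψ : IsIrrCharacter A ψ) (hvan : ∀ a : A, a ∉ B → ψ a = 0)
    (hres : IsIrrCharacter B (fun b : B => ψ b)) : B = ⊤ := by
  classical
  have h1 : classInner ψ ψ = 1 := by rw [classInner_irr_irr hψ hψ, if_pos rfl]
  have h2 : classInner (fun b : B => ψ b) (fun b : B => ψ b) = 1 := by
    rw [classInner_irr_irr hres hres, if_pos rfl]
  unfold classInner at h1 h2
  have hsum : ∑ a : A, ψ a * conj (ψ a) = ∑ b : B, ψ b * conj (ψ b) := by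
    rw [← Finset.sum_subtype (Finset.univ.filter (fun a : A => a ∈ B)) (by simp)
      (fun a : A => ψ a * conj (ψ a))]
    symm
    apply Finset.sum_filter_of_ne
    intro a _ ha
    by_contra haB
    exact ha (by rw [hvan a haB, zero_mul])
  rw [hsum] at h1
  have hA : (Nat.card A : ℂ) ≠ 0 := by
    have : 0 < Nat.card A := Nat.card_pos
    exact_mod_cast this.ne'
  have hB : (Nat.card B : ℂ) ≠ 0 := by
    have : 0 < Nat.card B := Nat.card_pos
    exact_mod_cast this.ne'
  have hS1 : ∑ b : B, ψ b * conj (ψ b) = (Nat.card A : ℂ) :=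
    ((inv_mul_eq_one₀ hA).mp h1).symm
  have hS2 : ∑ b : B, ψ b * conj (ψ b) = (Nat.card B : ℂ) :=
    ((inv_mul_eq_one₀ hB).mp h2).symm
  have hcard : Nat.card B = Nat.card A := by
    have : (Nat.card B : ℂ) = (Nat.card A : ℂ) := by rw [← hS1, ← hS2]
    exact_mod_cast this
  exact (Subgroup.card_eq_iff_eq_top B).mp hcard

/-- Linear characters separate the points of an abelian quotient. -/
theorem exists_hom_sep {A : Type u} [Group A] [Finite A] (B : Subgroup A) [hB : B.Normal]
    (hab : ∀ a b : A, a * b * a⁻¹ * b⁻¹ ∈ B) {x : A} (hx : x ∉ B) :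
    ∃ f : A →* ℂˣ, (∀ b ∈ B, f b = 1) ∧ f x ≠ 1 := by
  classical
  letI : CommGroup (A ⧸ B) :=
    { (inferInstance : Group (A ⧸ B)) with
      mul_comm := by
        intro a b
        induction a using QuotientGroup.induction_on with
        | _ a =>
          induction b using QuotientGroup.induction_on with
          | _ b =>
            rw [← QuotientGroup.mk_mul, ← QuotientGroup.mk_mul, QuotientGroup.eq]
            have := hab b⁻¹ a⁻¹
            simpa [mul_assoc] using this }
  have hne : (QuotientGroup.mk x : A ⧸ B) ≠ 1 := fun h => hx ((QuotientGroup.eq_one_iff x).mp h)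
  haveI : NeZero (Monoid.exponent (A ⧸ B)) := ⟨Monoid.exponent_ne_zero_of_finite⟩
  obtain ⟨φ, hφ⟩ := CommGroup.exists_apply_ne_one_of_hasEnoughRootsOfUnity (A ⧸ B) ℂ hne
  refine ⟨φ.comp (QuotientGroup.mk' B), ?_, hφ⟩
  intro b hb
  show φ (QuotientGroup.mk b) = 1
  rw [(QuotientGroup.eq_one_iff b).mpr hb, map_one]

end Vanish

section Main

variable {G : Type u} [Group G]

/-- The Frobenius-type case: if every irreducible character of degree divisible by `q` has degree
prime to `[G : N]`, then all of them have degree divisible by `t`. -/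
theorem dvd_of_vanish [Finite G] [Group.IsSolvable G]
    (K N : Subgroup G) [hK : K.Normal] [hN : N.Normal] (hKN : K ≤ N) (hne : K ≠ N)
    (hab : ∀ a ∈ N, ∀ b ∈ N, a * b * a⁻¹ * b⁻¹ ∈ K) {t m : ℕ} (ht : t.Prime)
    (hidx : K.relIndex N = t ^ m)
    (hZ : ∀ n ∈ N, (∀ g : G, g * n * g⁻¹ * n⁻¹ ∈ K) → n ∈ K)
    (q : ℕ)
    (hH : ∀ χ : IrrCharacter G, q ∣ charDegree χ.1 → (charDegree χ.1).Coprime N.index)
    (χ₀ : IrrCharacter G) (hχ₀ : q ∣ charDegree χ₀.1) : t ∣ charDegree χ₀.1 := by
  classical
  haveI : Fintype G := Fintype.ofFinite G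
  haveI : Fintype N := Fintype.ofFinite N
  haveI : Fintype (K.subgroupOf N) := Fintype.ofFinite _
  obtain ⟨ψ, hψdef⟩ : ∃ ψ : N → ℂ, ψ = fun n : N => χ₀.1 n := ⟨_, rfl⟩
  have hψ : IsIrrCharacter N ψ := by
    rw [hψdef]; exact res_irr_of_coprime N χ₀.2 (hH χ₀ hχ₀)
  have hdegψ : charDegree ψ = charDegree χ₀.1 := by
    rw [hψdef]; exact H82.charDegree_eq_of_one_eq rfl
  have hcf : IsClassFunction G χ₀.1 :=
    isClassFunction_of_isCharacter (isCharacter_of_isIrrCharacter χ₀.2)
  have hvan : ∀ n : N, (n : G) ∉ K → ψ n = 0 := by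
    intro n hnK
    by_contra hψn
    apply hnK
    apply hZ n n.2
    intro g
    by_contra hx
    have hgn : g * n * g⁻¹ ∈ N := hN.conj_mem n n.2 g
    obtain ⟨f, -, hfx⟩ := exists_hom_sep (K.subgroupOf N)
      (fun a b => by
        rw [Subgroup.mem_subgroupOf]
        simpa using hab a a.2 b b.2)
      (x := (⟨g * n * g⁻¹, hgn⟩ : N) * n⁻¹)
      (by rw [Subgroup.mem_subgroupOf]; simpa using hx)
    have hψ' : IsIrrCharacter N (fun n : N => ((f n : ℂˣ) : ℂ) * ψ n) :=
      isIrrCharacter_hom_mul f hψ
    obtain ⟨χ', hχ', hχ'ne⟩ := ItoConv.exists_irr_over N hψ'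
    obtain ⟨e, he⟩ := ItoConv.degree_over N ⟨_, hψ'⟩ ⟨χ', hχ'⟩ hχ'ne
    have hdeg' : charDegree (fun n : N => ((f n : ℂˣ) : ℂ) * ψ n) = charDegree χ₀.1 := by
      rw [← hdegψ]
      apply H82.charDegree_eq_of_one_eq
      simp
    have hq' : q ∣ charDegree χ' := by
      rw [he]
      simp only
      rw [hdeg']
      exact Dvd.dvd.mul_left hχ₀ _
    have hirr' : IsIrrCharacter N (fun n : N => χ' n) :=
      res_irr_of_coprime N hχ' (hH ⟨χ', hχ'⟩ hq')
    have heq : (fun n : N => χ' n) = fun n : N => ((f n : ℂˣ) : ℂ) * ψ n :=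
      eq_of_classInner_ne_zero hirr' hψ' hχ'ne
    have hcf' : IsClassFunction G χ' :=
      isClassFunction_of_isCharacter (isCharacter_of_isIrrCharacter hχ')
    have h1 := congrFun heq ⟨g * n * g⁻¹, hgn⟩
    have h2 := congrFun heq n
    simp only at h1 h2
    rw [hcf' (n : G) g] at h1
    rw [h2] at h1
    have hψgn : ψ ⟨g * n * g⁻¹, hgn⟩ = ψ n := by rw [hψdef]; exact hcf (n : G) g
    rw [hψgn] at h1
    have h3 : ((f n : ℂˣ) : ℂ) = ((f ⟨g * n * g⁻¹, hgn⟩ : ℂˣ) : ℂ) := mul_right_cancel₀ hψn h1
    apply hfx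
    rw [map_mul, map_inv, ← Units.ext h3, mul_inv_cancel]
  by_contra htd
  have hres := res_irr_of_index_pow (K.subgroupOf N) t m ht hidx hψ (by rw [hdegψ]; exact htd)
  have htop := eq_top_of_vanish (K.subgroupOf N) hψ
    (fun a ha => hvan a (by rwa [Subgroup.mem_subgroupOf] at ha)) hres
  exact hne (le_antisymm hKN (Subgroup.subgroupOf_eq_top.mp htop))

/-- Gallagher: a character restricting irreducibly to `K`, times an irreducible character with
`K` in its kernel, is irreducible. -/
theorem mul_irr_of_res_irr [Finite G] (K : Subgroup G) [hK : K.Normal]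
    (χ β : IrrCharacter G) (hres : IsIrrCharacter K (fun k : K => χ.1 k))
    (hβ : ∀ k ∈ K, β.1 k = β.1 1) : IsIrrCharacter G (β.1 * χ.1) := by
  classical
  haveI : Fintype G := Fintype.ofFinite G
  haveI : Fintype K := Fintype.ofFinite K
  have hχcf : IsClassFunction G χ.1 :=
    isClassFunction_of_isCharacter (isCharacter_of_isIrrCharacter χ.2)
  have hβcf : IsClassFunction G β.1 :=
    isClassFunction_of_isCharacter (isCharacter_of_isIrrCharacter β.2)
  have hone : IsIrrCharacter K (fun _ : K => (1 : ℂ)) := Cfsg.Agent.H83.isIrrCharacter_one K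
  have hprod : IsIrrCharacter K ((fun _ : K => (1 : ℂ)) * (fun k : K => χ.1 k)) := by
    have e : ((fun _ : K => (1 : ℂ)) * (fun k : K => χ.1 k)) = fun k : K => χ.1 k := by
      funext k
      simp
    rw [e]
    exact hres
  obtain ⟨h1, -, -⟩ := gallagher K hone hres (fun g => rfl) (fun g => conjChar_res K hχcf g) hprod
    (isCharacter_of_isIrrCharacter χ.2) (fun n => rfl)
  refine (h1 β.1 β.2 ?_).1
  rw [frobenius_reciprocity K _ β.1 hβcf]
  unfold classInner
  have hKne : (Nat.card K : ℂ) ≠ 0 := by
    have : 0 < Nat.card K := Nat.card_pos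
    exact_mod_cast this.ne'
  have hsum : ∑ k : K, (1 : ℂ) * conj (β.1 k) = (Nat.card K : ℂ) * conj (β.1 1) := by
    rw [Finset.sum_congr rfl (fun k _ => by rw [hβ k k.2, one_mul])]
    rw [Finset.sum_const, Finset.card_univ, nsmul_eq_mul, Nat.card_eq_fintype_card]
  rw [hsum, ← mul_assoc, inv_mul_cancel₀ hKne, one_mul]
  rw [Ne, map_eq_zero]
  exact H82.irr_one_ne_zero β

/-- In the Frobenius-type case, `[G : N]` divides the degree of every nonlinear irreducible
character with `K` in its kernel. -/
theorem index_dvd_degree [Finite G]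
    (K N : Subgroup G) [hK : K.Normal] [hN : N.Normal] (hKN : K ≤ N)
    (hGN : commutator G ≤ N)
    (hmax : ∀ L : Subgroup G, L.Normal → K ≤ L → L ≠ K → N ≤ L)
    (hab : ∀ a ∈ N, ∀ b ∈ N, a * b * a⁻¹ * b⁻¹ ∈ K)
    (hC : ∀ x : G, (∀ n ∈ N, x * n * x⁻¹ * n⁻¹ ∈ K) → x ∈ N)
    (β : IrrCharacter G) (hβ1 : charDegree β.1 ≠ 1) (hβK : K ≤ H82.irrKer β) :
    N.index ∣ charDegree β.1 := by
  classical
  haveI : Fintype G := Fintype.ofFinite G
  haveI : Fintype N := Fintype.ofFinite N
  obtain ⟨lam, hlam, hne⟩ := H82.exists_constituent_res' N β.2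
  have hker : ∀ k : N, (k : G) ∈ K → lam k = lam 1 := fun k hk =>
    constituent_mem_ker N β ⟨lam, hlam⟩ hne k ((H82.mem_irrKer β k).mp (hβK hk))
  have hlin : charDegree lam = 1 := by
    apply H16.linear_of_commutator_le_irrKer ⟨lam, hlam⟩
    rw [commutator_def, Subgroup.commutator_le]
    intro a _ b _
    rw [H82.mem_irrKer]
    apply hker
    rw [commutatorElement_def]
    simpa using hab a a.2 b b.2
  have hlam1 : lam 1 = 1 := by
    have := H82.irr_one_eq_charDegree ⟨lam, hlam⟩
    simp only at this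
    rw [this, hlin]
    simp
  obtain ⟨f, hf⟩ : ∃ f : N →* ℂˣ, ∀ n : N, ((f n : ℂˣ) : ℂ) = lam n :=
    ⟨H82.irrLinearHom ⟨lam, hlam⟩ hlam1, fun n => rfl⟩
  have hnt : ∃ x : N, lam x ≠ 1 := by
    by_contra hall
    push Not at hall
    have hl1 : lam = (1 : N → ℂ) := funext hall
    have hconst := H82.const_of_over_one N β.2 (by rw [← hl1]; exact hne)
    have : commutator G ≤ H82.irrKer β := fun x hx =>
      (H82.mem_irrKer β x).mpr (hconst ⟨x, hGN hx⟩)
    exact hβ1 (H16.linear_of_commutator_le_irrKer β this)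
  obtain ⟨x, hx⟩ := hnt
  obtain ⟨T, hT⟩ : ∃ T : Subgroup G, T = Clifford.inertia N lam := ⟨_, rfl⟩
  have hNT : N ≤ T := by
    rw [hT]
    exact le_inertia N (isClassFunction_of_isCharacter (isCharacter_of_isIrrCharacter hlam))
  haveI hTn : T.Normal := Subgroup.Normal.of_commutator_le G (hGN.trans hNT)
  obtain ⟨M, hM⟩ : ∃ M : Subgroup G, M = K ⊔ ⁅T, N⁆ := ⟨_, rfl⟩
  haveI hMn : M.Normal := by
    rw [hM]
    haveI := Subgroup.commutator_normal T N
    exact Subgroup.sup_normal K ⁅T, N⁆
  have hKM : K ≤ M := by rw [hM]; exact le_sup_left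
  have hMker : M ≤ f.ker.map N.subtype := by
    rw [hM]
    apply sup_le
    · intro k hk
      refine ⟨⟨k, hKN hk⟩, ?_, rfl⟩
      rw [SetLike.mem_coe, MonoidHom.mem_ker]
      apply Units.ext
      rw [hf, hker _ hk, hlam1]
      rfl
    · rw [Subgroup.commutator_le]
      intro g hg n hn
      have hgn : g * n * g⁻¹ ∈ N := hN.conj_mem n hn g
      refine ⟨⟨g * n * g⁻¹, hgn⟩ * (⟨n, hn⟩ : N)⁻¹, ?_, ?_⟩
      · rw [SetLike.mem_coe, MonoidHom.mem_ker, map_mul, map_inv]
        have h1 : lam ⟨g * n * g⁻¹, hgn⟩ = lam ⟨n, hn⟩ := by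
          rw [hT] at hg
          exact (mem_inertia_iff N).mp hg ⟨n, hn⟩
        have h2 : f ⟨g * n * g⁻¹, hgn⟩ = f ⟨n, hn⟩ := Units.ext (by rw [hf, hf, h1])
        rw [h2, mul_inv_cancel]
      · simp [commutatorElement_def]
  have hxM : (x : G) ∉ M := by
    intro hxM
    obtain ⟨y, hy, hyx⟩ := hMker hxM
    have hyx' : y = x := Subtype.ext hyx
    rw [hyx', SetLike.mem_coe, MonoidHom.mem_ker] at hy
    apply hx
    rw [← hf, hy]
    rfl
  have hMK : M = K := by
    by_contra hMK
    exact hxM (hmax M hMn hKM hMK x.2)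
  have hTN : T ≤ N := by
    intro g hg
    apply hC
    intro n hn
    rw [← hMK, hM]
    apply (le_sup_right : ⁅T, N⁆ ≤ K ⊔ ⁅T, N⁆)
    have := Subgroup.commutator_mem_commutator hg hn
    rwa [commutatorElement_def] at this
  have hTeq : T = N := le_antisymm hTN hNT
  obtain ⟨e, he⟩ := ItoConv.degree_over N ⟨lam, hlam⟩ β hne
  rw [he]
  simp only
  rw [← hT, hTeq, mul_assoc]
  exact dvd_mul_right _ _

end Main

end Cfsg.Agent.H83
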