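import Mathlib
import Cfsg.Prelude.Def_DegreeGraph
import Cfsg.Agent.H83.DegGraphB
import Cfsg.Agent.H82.Codeg

/-!
# The degree graph of a solvable group has at most two components (helper83)

* `degGraph_key`: for a finite solvable nonabelian group there are a nonlinear irreducible
  character `β` and a prime `t` such that, whenever every irreducible character of degree divisible
  by `q` has degree prime to `β(1)`, all those degrees are divisible by `t`.
* `degGraph_same_comp`: two primes dividing a common degree lie in the same component.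
* `degGraph_le_two`: the degree graph of a finite solvable group has at most two components.
-/

set_option autoImplicit false
set_option linter.unusedSectionVars false
set_option linter.style.haveILetI false

namespace Cfsg.Agent.H83

open Cfsg Cfsg.Agent.H4 Cfsg.Agent.Clifford
open scoped ComplexConjugate commutatorElement

universe u

section DegGraph

variable {G : Type u} [Group G]

theorem degGraph_key [Finite G] [Group.IsSolvable G] (hna : commutator G ≠ ⊥) :
    ∃ (β : IrrCharacter G) (t : ℕ), t.Prime ∧ 1 < charDegree β.1 ∧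
      ∀ q : ℕ, (∀ χ : IrrCharacter G, q ∣ charDegree χ.1 →
          (charDegree χ.1).Coprime (charDegree β.1)) →
        ∀ χ₀ : IrrCharacter G, q ∣ charDegree χ₀.1 → t ∣ charDegree χ₀.1 := by
  classical
  obtain ⟨K, N, t, hKn, hNn, ht, hKN, hne, hGN, hKc, hmax, hab, ⟨m, hm⟩, hcase⟩ :=
    degGraph_struct hna
  haveI := hKn
  haveI := hNn
  obtain ⟨β, hβ1, hβK⟩ := H16.exists_nonlinear_of_not_le K hKc
  have hβpos := H82.charDegree_pos β
  have hβgt : 1 < charDegree β.1 := by omega
  refine ⟨β, t, ht, hβgt, ?_⟩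
  intro q hH χ₀ hχ₀
  rcases hcase with ⟨k, hk⟩ | ⟨hZ, hC⟩
  · have hd1 : charDegree β.1 ∣ t ^ k := by
      rw [← hk]
      exact (H82.charDegree_dvd_index_irrKer β).trans (Subgroup.index_dvd_of_le hβK)
    by_contra htχ
    have hres : IsIrrCharacter K (fun k : K => χ₀.1 k) :=
      res_irr_of_index_pow K t k ht hk χ₀.2 htχ
    have hirr := mul_irr_of_res_irr K χ₀ β hres
      (fun k hk => (H82.mem_irrKer β k).mp (hβK hk))
    have hdeg : charDegree (β.1 * χ₀.1) = charDegree β.1 * charDegree χ₀.1 := by
      apply charDegree_of_natCast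
      rw [Pi.mul_apply, H82.irr_one_eq_charDegree β, H82.irr_one_eq_charDegree χ₀]
      push_cast
      rfl
    have hq : q ∣ charDegree (β.1 * χ₀.1) := by
      rw [hdeg]
      exact Dvd.dvd.mul_left hχ₀ _
    have hcop := hH ⟨_, hirr⟩ hq
    simp only at hcop
    rw [hdeg] at hcop
    have h2 : (charDegree β.1).Coprime (charDegree β.1) :=
      Nat.Coprime.coprime_dvd_left (Dvd.intro _ rfl) hcop
    rw [Nat.coprime_self] at h2
    omega
  · have hidx := index_dvd_degree K N hKN hGN hmax hab hC β hβ1 hβK
    exact dvd_of_vanish K N hKN hne hab ht hm hZ q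
      (fun χ hχ => Nat.Coprime.coprime_dvd_right hidx (hH χ hχ)) χ₀ hχ₀

/-- Two primes dividing a common irreducible character degree lie in the same connected
component of the degree graph. -/
theorem degGraph_same_comp (p q : degreePrimes G) (χ : IrrCharacter G)
    (hp : p.1 ∣ charDegree χ.1) (hq : q.1 ∣ charDegree χ.1) :
    ((degreeGraph G).induce (degreePrimes G)).connectedComponentMk p =
      ((degreeGraph G).induce (degreePrimes G)).connectedComponentMk q := by
  by_cases h : p = q
  · rw [h]
  · apply SimpleGraph.ConnectedComponent.sound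
    apply SimpleGraph.Adj.reachable
    show (degreeGraph G).Adj p.1 q.1
    have hne : p.1 ≠ q.1 := fun h' => h (Subtype.ext h')
    refine ⟨hne, p.2.1, q.2.1, charDegree χ.1, ⟨χ, rfl⟩, ?_⟩
    exact Nat.Coprime.mul_dvd_of_dvd_of_dvd ((Nat.coprime_primes p.2.1 q.2.1).mpr hne) hp hq

/-- The character degree graph of a finite solvable group has at most two connected
components. -/
theorem degGraph_le_two [Finite G] [Group.IsSolvable G] :
    Nat.card ((degreeGraph G).induce (degreePrimes G)).ConnectedComponent ≤ 2 := by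
  classical
  by_contra hcon
  push Not at hcon
  haveI : Finite ((degreeGraph G).induce (degreePrimes G)).ConnectedComponent :=
    Nat.finite_of_card_ne_zero (by omega)
  haveI : Fintype ((degreeGraph G).induce (degreePrimes G)).ConnectedComponent :=
    Fintype.ofFinite _
  rw [Nat.card_eq_fintype_card] at hcon
  obtain ⟨c₁, c₂, c₃, h12, h13, h23⟩ := Fintype.two_lt_card_iff.mp hcon
  -- the group is not abelian
  have hna : commutator G ≠ ⊥ := by
    intro hab
    induction c₁ using SimpleGraph.ConnectedComponent.ind with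
    | h v =>
      obtain ⟨hv, d, ⟨χ, rfl⟩, hvd⟩ := v.2
      have hlin := H16.linear_of_commutator_le_irrKer χ (by rw [hab]; exact bot_le)
      rw [hlin] at hvd
      exact hv.one_lt.ne' (Nat.dvd_one.mp hvd)
  obtain ⟨β, t, ht, hβ, hM⟩ := degGraph_key hna
  obtain ⟨s₀, hs₀, hs₀d⟩ := Nat.exists_prime_and_dvd (ne_of_gt hβ)
  obtain ⟨c₀, hc₀⟩ : ∃ c₀ : ((degreeGraph G).induce (degreePrimes G)).ConnectedComponent,
      c₀ = ((degreeGraph G).induce (degreePrimes G)).connectedComponentMk
        ⟨s₀, hs₀, charDegree β.1, ⟨β, rfl⟩, hs₀d⟩ := ⟨_, rfl⟩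
  have hfar : ∀ v : degreePrimes G,
      ((degreeGraph G).induce (degreePrimes G)).connectedComponentMk v ≠ c₀ →
      ∀ χ : IrrCharacter G, v.1 ∣ charDegree χ.1 →
        (charDegree χ.1).Coprime (charDegree β.1) := by
    intro v hv χ hvχ
    apply Nat.Coprime.symm
    apply Nat.coprime_of_dvd
    intro s hs hsβ hsχ
    apply hv
    rw [hc₀]
    exact (degGraph_same_comp v ⟨s, hs, charDegree χ.1, ⟨χ, rfl⟩, hsχ⟩ χ hvχ hsχ).trans
      (degGraph_same_comp ⟨s, hs, charDegree χ.1, ⟨χ, rfl⟩, hsχ⟩
        ⟨s₀, hs₀, charDegree β.1, ⟨β, rfl⟩, hs₀d⟩ β hsβ hs₀d)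
  have hlink1 : ∀ v : degreePrimes G,
      ((degreeGraph G).induce (degreePrimes G)).connectedComponentMk v ≠ c₀ →
      ∃ ht' : t ∈ degreePrimes G,
        ((degreeGraph G).induce (degreePrimes G)).connectedComponentMk v =
          ((degreeGraph G).induce (degreePrimes G)).connectedComponentMk ⟨t, ht'⟩ := by
    intro v hv
    obtain ⟨hvp, d, ⟨χ, rfl⟩, hvd⟩ := v.2
    have htχ := hM v.1 (hfar v hv) χ hvd
    exact ⟨⟨ht, charDegree χ.1, ⟨χ, rfl⟩, htχ⟩, degGraph_same_comp v ⟨t, _⟩ χ hvd htχ⟩
  have hlink : ∀ c c' : ((degreeGraph G).induce (degreePrimes G)).ConnectedComponent,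
      c ≠ c₀ → c' ≠ c₀ → c = c' := by
    intro c c' hc hc'
    induction c using SimpleGraph.ConnectedComponent.ind with
    | h v =>
      induction c' using SimpleGraph.ConnectedComponent.ind with
      | h v' =>
        obtain ⟨ht1, e1⟩ := hlink1 v hc
        obtain ⟨ht2, e2⟩ := hlink1 v' hc'
        exact e1.trans e2.symm
  by_cases h1 : c₁ = c₀
  · exact h23 (hlink c₂ c₃ (fun h => h12 (h1.trans h.symm)) (fun h => h13 (h1.trans h.symm)))
  · by_cases h2 : c₂ = c₀
    · exact h13 (hlink c₁ c₃ h1 (fun h => h23 (h2.trans h.symm)))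
    · exact h12 (hlink c₁ c₂ h1 h2)

end DegGraph

end Cfsg.Agent.H83
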