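import Mathlib
import Cfsg.Prelude.Def_Solvable
import Cfsg.Prelude.Def_CaseTheorems
import Cfsg.Prelude.Def_Transfer

/-!
# S4840 (Gagola, solvable case): piece statements (helper83)

Abstract setting: a finite solvable group `A` acting faithfully (`φ : A →* MulAut N`, injective) on
a nontrivial elementary abelian `p`-group `N`, transitively on `N ∖ {1}`, the stabilizer of every
nonidentity element being a Sylow `p`-subgroup of `A`.  Goal: `A` has a normal `p`-complement and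
commutative Sylow `p`-subgroups.  By Huppert's theorem (S3360) the action is semilinear of
dimension one or `|N| ∈ {9, 25, 49, 121, 529, 81}`.
-/

set_option autoImplicit false

namespace Cfsg.Agent.H83.GagSolv

open Cfsg

universe u

/-- The abstract setting. -/
structure Setting (p : ℕ) (N A : Type u) [Group N] [Group A] (φ : A →* MulAut N) : Prop where
  comm : ∀ x y : N, x * y = y * x
  exp : ∀ x : N, x ^ p = 1
  inj : Function.Injective φ
  trans : ∀ x y : N, x ≠ 1 → y ≠ 1 → ∃ a : A, φ a x = y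
  stab : ∀ x : N, x ≠ 1 → ∃ Q : Sylow p A, ∀ a : A, a ∈ Q ↔ φ a x = x

/-- The conclusion. -/
def Concl (p : ℕ) (A : Type u) [Group A] : Prop :=
  HasNormalPComplement p A ∧ ∀ Q : Sylow p A, IsMulCommutative (Q : Subgroup A)

/-- The semilinear alternative of Huppert's theorem, for a multiplicatively written `N`. -/
def IsSemilin (N A : Type u) [Group N] [Group A] (φ : A →* MulAut N) : Prop :=
  ∃ (F : Type) (_ : Field F) (_ : Fintype F) (e : N → F), Function.Bijective e ∧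
    (∀ x y : N, e (x * y) = e x + e y) ∧
    ∀ a : A, ∃ (c : F) (σ : F ≃+* F), ∀ x : N, e (φ a x) = c * σ (e x)

/-- LIN: Huppert's dichotomy (from `Cfsg.Agent.S3360.result`). -/
def StmtLin : Prop := ∀ (p : ℕ) [Fact p.Prime] (N A : Type u) [Group N] [Finite N] [Nontrivial N]
  [Group A] [Finite A] (φ : A →* MulAut N),
  Group.IsSolvable A → (∀ x y : N, x * y = y * x) → (∀ x : N, x ^ p = 1) →
  Function.Injective φ → (∀ x y : N, x ≠ 1 → y ≠ 1 → ∃ a : A, φ a x = y) →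
  IsSemilin N A φ ∨ Nat.card N ∈ ({9, 25, 49, 121, 529, 81} : Set ℕ)

/-- SEMIHAB: in the semilinear case the elements acting as multiplications form a normal
`p'`-subgroup with abelian quotient. -/
def StmtSemiHab : Prop := ∀ (p : ℕ) [Fact p.Prime] (N A : Type u) [Group N] [Finite N]
  [Group A] [Finite A] (φ : A →* MulAut N),
  (∀ x : N, x ^ p = 1) → Function.Injective φ → IsSemilin N A φ →
  ∃ H : Subgroup A, H.Normal ∧ (Nat.card H).Coprime p ∧ ∀ a b : A, a * b * a⁻¹ * b⁻¹ ∈ H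

/-- LAB: a normal `p'`-subgroup with abelian quotient gives the conclusion. -/
def StmtLab : Prop := ∀ (p : ℕ) [Fact p.Prime] (A : Type u) [Group A] [Finite A]
  (H : Subgroup A) [H.Normal],
  (Nat.card H).Coprime p → (∀ a b : A, a * b * a⁻¹ * b⁻¹ ∈ H) → Concl p A

/-- OPP: in a solvable group of order divisible by `p`: a normal `p'`-subgroup `K` and a nontrivial
`p`-subgroup `P₁` with `K P₁` normal. -/
def StmtOpp : Prop := ∀ (p : ℕ) [Fact p.Prime] (A : Type u) [Group A] [Finite A],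
  Group.IsSolvable A → p ∣ Nat.card A →
  ∃ K P₁ : Subgroup A, K.Normal ∧ (Nat.card K).Coprime p ∧ IsPGroup p P₁ ∧ P₁ ≠ ⊥ ∧
    (K ⊔ P₁).Normal

/-- SEMI: a normal `p'`-subgroup acts semiregularly: its order divides `|N| - 1` and it has at
most one involution. -/
def StmtSemi : Prop := ∀ (p : ℕ) [Fact p.Prime] (N A : Type u) [Group N] [Finite N] [Nontrivial N]
  [Group A] [Finite A] (φ : A →* MulAut N) (K : Subgroup A),
  Setting p N A φ → (Nat.card K).Coprime p →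
  Nat.card K ∣ Nat.card N - 1 ∧
    ∀ a ∈ K, ∀ b ∈ K, a ≠ 1 → b ≠ 1 → a ^ 2 = 1 → b ^ 2 = 1 → a = b

/-- CNT: the counting identity. -/
def StmtCnt : Prop := ∀ (p : ℕ) [Fact p.Prime] (N A : Type u) [Group N] [Finite N] [Nontrivial N]
  [Group A] [Finite A] (φ : A →* MulAut N) (K P₁ : Subgroup A),
  Setting p N A φ → K.Normal → (Nat.card K).Coprime p → IsPGroup p P₁ → P₁ ≠ ⊥ →
  (K ⊔ P₁).Normal →
  ∃ j : ℕ, 0 < j ∧ p ^ j < Nat.card N ∧
    (p ^ j - 1) * (K ⊓ Subgroup.centralizer (P₁ : Set A)).relIndex K = Nat.card N - 1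

/-- LEMR: a prime `r` with `p ∤ r - 1` and `r² ∤ |K|` does not divide `[K : C_K(P₁)]`. -/
def StmtLemR : Prop := ∀ (p r : ℕ) [Fact p.Prime] [Fact r.Prime] (A : Type u) [Group A] [Finite A]
  (K P₁ : Subgroup A) [K.Normal],
  (Nat.card K).Coprime p → IsPGroup p P₁ → ¬ p ∣ (r - 1) →
  r ∣ (K ⊓ Subgroup.centralizer (P₁ : Set A)).relIndex K → ¬ r ^ 2 ∣ Nat.card K → False

/-- NOP7: the case `|N| = 49`. -/
def StmtNop7 : Prop := ∀ (A : Type u) [Group A] [Finite A] (K P₁ : Subgroup A) [K.Normal],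
  IsPGroup 7 P₁ → Nat.card K ∣ 48 →
  (∀ a ∈ K, ∀ b ∈ K, a ≠ 1 → b ≠ 1 → a ^ 2 = 1 → b ^ 2 = 1 → a = b) →
  (K ⊓ Subgroup.centralizer (P₁ : Set A)).relIndex K = 8 → False

/-- NINE: the case `|N| = 9`. -/
def StmtNine : Prop := ∀ (A : Type u) [Group A] [Finite A] (K P₁ : Subgroup A) [K.Normal] (a : ℕ),
  Nat.card A = 8 * 3 ^ a → Nat.card K ∣ 8 →
  (∀ x ∈ K, ∀ y ∈ K, x ≠ 1 → y ≠ 1 → x ^ 2 = 1 → y ^ 2 = 1 → x = y) →
  (K ⊓ Subgroup.centralizer (P₁ : Set A)).relIndex K = 4 → HasNormalPComplement 3 A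

/-- SYL2: if `|N| = p²` the Sylow `p`-subgroups of `A` are commutative. -/
def StmtSyl2 : Prop := ∀ (p : ℕ) [Fact p.Prime] (N A : Type u) [Group N] [Finite N]
  [Group A] [Finite A] (φ : A →* MulAut N),
  Setting p N A φ → Nat.card N = p ^ 2 → ∀ Q : Sylow p A, IsMulCommutative (Q : Subgroup A)

/-- ORD: `|A| = (|N| - 1) p^a`. -/
def StmtOrd : Prop := ∀ (p : ℕ) [Fact p.Prime] (N A : Type u) [Group N] [Finite N] [Nontrivial N]
  [Group A] [Finite A] (φ : A →* MulAut N),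
  Setting p N A φ → ∃ a : ℕ, Nat.card A = (Nat.card N - 1) * p ^ a

/-- EXC: the exceptional sizes. -/
def StmtExc : Prop := ∀ (p : ℕ) [Fact p.Prime] (N A : Type u) [Group N] [Finite N] [Nontrivial N]
  [Group A] [Finite A] (φ : A →* MulAut N),
  Group.IsSolvable A → Setting p N A φ →
  Nat.card N ∈ ({9, 25, 49, 121, 529, 81} : Set ℕ) → Concl p A

/-- CORE: the `p`-core is the centralizer of `N`, and `p` is the only prime with nontrivial core. -/
def StmtCore : Prop := ∀ (p : ℕ) [Fact p.Prime] (G : Type u) [Group G] [Finite G]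
  (N : Subgroup G) [N.Normal],
  N ≠ ⊥ → IsPGroup p N → (∀ K : Subgroup G, K.Normal → K ≠ ⊥ → N ≤ K) →
  (∀ x ∈ N, x ≠ 1 → ∃ P : Sylow p G, Subgroup.centralizer ({x} : Set G) = P) →
  (∀ q : ℕ, q.Prime → (pCore q G ≠ ⊥ ↔ q = p)) ∧
    ∀ g : G, g ∈ pCore p G ↔ ∀ n ∈ N, g * n * g⁻¹ = n

/-- GLUE: the quotient by the `p`-core acts on `N` as in the abstract setting. -/
def StmtGlue : Prop := ∀ (p : ℕ) [Fact p.Prime] (G : Type u) [Group G] [Finite G]
  (N : Subgroup G) [N.Normal],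
  N ≠ ⊥ → IsElementaryAbelian p N →
  (∀ x ∈ N, ∀ y ∈ N, x ≠ 1 → y ≠ 1 → ∃ g : G, g * x * g⁻¹ = y) →
  (∀ x ∈ N, x ≠ 1 → ∃ P : Sylow p G, Subgroup.centralizer ({x} : Set G) = P) →
  (∀ g : G, g ∈ pCore p G ↔ ∀ n ∈ N, g * n * g⁻¹ = n) →
  ∃ φ : (G ⧸ pCore p G) →* MulAut N, Setting p N (G ⧸ pCore p G) φ

end Cfsg.Agent.H83.GagSolv
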