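import Mathlib
import Cfsg.Agent.H98.GuDefs
import Cfsg.Agent.H45.IsoSp
import Cfsg.Agent.H45.SpInvol
import Cfsg.Agent.H17.Symp
import Cfsg.Agent.H42.ElusSpA

/-!
# S5976 team project (helper98): common lemmas for helper83's pieces

* `charpoly_of_sq_nonsquare`: a square root of a non-square scalar has characteristic polynomial
  `(X ^ 2 - c) ^ d`.
* `isSkewRoot_J0`, `isSkewRoot_conj`: the standard skew root, conjugation by symplectic matrices.
* `exists_spGL`: symplectic matrices as elements of `Cfsg.spGL`.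
-/

set_option autoImplicit false

namespace Cfsg.Agent.H83.Gu

open Matrix Polynomial Cfsg.Agent.H98.Gu

universe u

section

variable {F : Type u} [Field F]

/-- `X ^ 2 - c` is irreducible for a non-square `c`. -/
theorem irreducible_sq_sub (c : F) (hc : ¬ IsSquare c) : Irreducible (X ^ 2 - C c : F[X]) := by
  have hm : (X ^ 2 - C c : F[X]).Monic := monic_X_pow_sub_C c (by norm_num)
  have hd : (X ^ 2 - C c : F[X]).natDegree = 2 := natDegree_X_pow_sub_C
  rw [hm.irreducible_iff_roots_eq_zero_of_degree_le_three (by omega) (by omega)]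
  apply Multiset.eq_zero_of_forall_notMem
  intro a ha
  rw [mem_roots hm.ne_zero] at ha
  simp only [IsRoot.def, eval_sub, eval_pow, eval_X, eval_C] at ha
  exact hc ⟨a, by linear_combination -ha⟩

/-- The characteristic polynomial of a square root of a non-square scalar. -/
theorem charpoly_of_sq_nonsquare {ι : Type*} [Fintype ι] [DecidableEq ι] (A : Matrix ι ι F)
    (c : F) (hc : ¬ IsSquare c) (h : A * A = c • (1 : Matrix ι ι F)) (d : ℕ)
    (hcard : Fintype.card ι = 2 * d) : A.charpoly = (X ^ 2 - C c) ^ d := by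
  have hprod := Cfsg.Agent.H45.charpoly_mul_charpoly_neg A c h
  have hirr := irreducible_sq_sub c hc
  have hm : (X ^ 2 - C c : F[X]).Monic := monic_X_pow_sub_C c (by norm_num)
  have hdvd : A.charpoly ∣ (X ^ 2 - C c) ^ Fintype.card ι := Dvd.intro _ hprod
  obtain ⟨i, hi, hassoc⟩ := (dvd_prime_pow hirr.prime _).1 hdvd
  have heq : A.charpoly = (X ^ 2 - C c) ^ i :=
    eq_of_monic_of_associated (charpoly_monic A) (hm.pow i) hassoc
  have hdeg := congrArg natDegree heq
  rw [charpoly_natDegree_eq_dim, natDegree_pow, natDegree_X_pow_sub_C, hcard] at hdeg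
  have hid : i = d := by omega
  rw [heq, hid]

/-- The standard skew root is a skew root. -/
theorem isSkewRoot_J0 (n : ℕ) (δ : F) : IsSkewRoot n δ (J0 n δ) := by
  constructor
  · unfold J0
    rw [Matrix.fromBlocks_multiply]
    simp only [Matrix.zero_mul, Matrix.mul_zero, Matrix.one_mul, Matrix.mul_one, zero_add,
      add_zero]
    rw [← Matrix.fromBlocks_one, Matrix.fromBlocks_smul, smul_zero]
  · intro u v
    rw [Cfsg.Agent.H17.sympForm_eq_sum, Cfsg.Agent.H17.sympForm_eq_sum, ← Finset.sum_neg_distrib]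
    apply Finset.sum_congr rfl
    intro i _
    simp only [J0, Matrix.mulVec, dotProduct, Fintype.sum_sum_type, Matrix.fromBlocks_apply₁₁,
      Matrix.fromBlocks_apply₁₂, Matrix.fromBlocks_apply₂₁, Matrix.fromBlocks_apply₂₂,
      Matrix.zero_apply, Matrix.smul_apply, Matrix.one_apply, zero_mul, Finset.sum_const_zero,
      zero_add, add_zero, ite_mul, one_mul, smul_eq_mul, mul_ite, mul_one, mul_zero,
      Finset.sum_ite_eq, Finset.mem_univ, if_true]
    ring

/-- Conjugating a skew root by a symplectic matrix gives a skew root. -/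
theorem isSkewRoot_conj {d : ℕ} {δ : F} {J P Q : Matrix (Fin d ⊕ Fin d) (Fin d ⊕ Fin d) F}
    (hJ : IsSkewRoot d δ J) (hP : P ∈ Matrix.symplecticGroup (Fin d) F) (hQP : Q * P = 1)
    (hPQ : P * Q = 1) : IsSkewRoot d δ (Q * J * P) := by
  have hPf := (Cfsg.Agent.H17.mem_symplecticGroup_iff_form d P).1 hP
  constructor
  · calc Q * J * P * (Q * J * P) = Q * J * (P * Q) * J * P := by simp only [Matrix.mul_assoc]
      _ = Q * (J * J) * P := by rw [hPQ, Matrix.mul_one]; simp only [Matrix.mul_assoc]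
      _ = δ • (1 : Matrix (Fin d ⊕ Fin d) (Fin d ⊕ Fin d) F) := by
          rw [hJ.1, Matrix.mul_smul, Matrix.smul_mul, Matrix.mul_one, hQP]
  · intro u v
    have h1 : ∀ w : Fin d ⊕ Fin d → F, P *ᵥ ((Q * J * P) *ᵥ w) = J *ᵥ (P *ᵥ w) := by
      intro w
      rw [Matrix.mulVec_mulVec, Matrix.mulVec_mulVec, ← Matrix.mul_assoc, ← Matrix.mul_assoc, hPQ,
        Matrix.one_mul]
    calc Cfsg.sympForm d F ((Q * J * P) *ᵥ u) v
        = Cfsg.sympForm d F (P *ᵥ ((Q * J * P) *ᵥ u)) (P *ᵥ v) := (hPf _ _).symm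
      _ = Cfsg.sympForm d F (J *ᵥ (P *ᵥ u)) (P *ᵥ v) := by rw [h1]
      _ = - Cfsg.sympForm d F (P *ᵥ u) (J *ᵥ (P *ᵥ v)) := hJ.2 _ _
      _ = - Cfsg.sympForm d F (P *ᵥ u) (P *ᵥ ((Q * J * P) *ᵥ v)) := by rw [h1]
      _ = - Cfsg.sympForm d F u ((Q * J * P) *ᵥ v) := by rw [hPf]

/-- A symplectic matrix as an element of `Cfsg.spGL`. -/
theorem exists_spGL {d : ℕ} (P : Matrix (Fin d ⊕ Fin d) (Fin d ⊕ Fin d) F)
    (hP : P ∈ Matrix.symplecticGroup (Fin d) F) :
    ∃ x : Matrix.GeneralLinearGroup (Fin d ⊕ Fin d) F, x ∈ Cfsg.spGL d F ∧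
      (x : Matrix (Fin d ⊕ Fin d) (Fin d ⊕ Fin d) F) = P := by
  let x := (Cfsg.Agent.H42.spGLEquiv (F := F) (d := d)).symm ⟨P, hP⟩
  have hx := Cfsg.Agent.H42.spGLEquiv_coe x
  rw [Equiv.apply_symm_apply] at hx
  exact ⟨x.1, x.2, hx.symm⟩

/-- An element of `Cfsg.spGL` is a symplectic matrix. -/
theorem mem_symplectic_of_spGL {d : ℕ} (x : Matrix.GeneralLinearGroup (Fin d ⊕ Fin d) F)
    (hx : x ∈ Cfsg.spGL d F) :
    (x : Matrix (Fin d ⊕ Fin d) (Fin d ⊕ Fin d) F) ∈ Matrix.symplecticGroup (Fin d) F :=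
  (Cfsg.Agent.H17.mem_symplecticGroup_iff_form d _).2 ((Cfsg.Agent.H42.mem_spGL_iff' x).1 hx)

end

end Cfsg.Agent.H83.Gu
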