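import Mathlib
import Cfsg.Agent.H98.GuDefs
import Cfsg.Agent.H83.GuBasic

/-!
# S5976-CONJ (helper98's team project): the symplectic group is transitive on skew roots
-/

set_option autoImplicit false

namespace Cfsg.Agent.H83.Gu

open Matrix Polynomial Cfsg.Agent.H98.Gu

universe u

section

variable {F : Type u} [Field F]

/-- `a + b J` is symplectic when `a² - δ b² = 1`. -/
theorem tau_mem {d : ℕ} {δ : F} {J : Matrix (Fin d ⊕ Fin d) (Fin d ⊕ Fin d) F}
    (hJ : IsSkewRoot d δ J) (a b : F) (hab : a * a - δ * b * b = 1) :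
    a • (1 : Matrix (Fin d ⊕ Fin d) (Fin d ⊕ Fin d) F) + b • J ∈
      Matrix.symplecticGroup (Fin d) F := by
  rw [Cfsg.Agent.H17.mem_symplecticGroup_iff_form]
  intro u v
  have h1 : ∀ w : Fin d ⊕ Fin d → F,
      (a • (1 : Matrix (Fin d ⊕ Fin d) (Fin d ⊕ Fin d) F) + b • J) *ᵥ w = a • w + b • (J *ᵥ w) := by
    intro w
    rw [Matrix.add_mulVec, Matrix.smul_mulVec, Matrix.smul_mulVec, Matrix.one_mulVec]
  have h2 : Cfsg.sympForm d F (J *ᵥ u) (J *ᵥ v) = - (δ * Cfsg.sympForm d F u v) := by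
    rw [hJ.2, Matrix.mulVec_mulVec, hJ.1, Matrix.smul_mulVec, Matrix.one_mulVec,
      Cfsg.Agent.H17.sympForm_smul_right]
  rw [h1, h1]
  simp only [Cfsg.Agent.H17.sympForm_add_left, Cfsg.Agent.H17.sympForm_add_right,
    Cfsg.Agent.H17.sympForm_smul_left, Cfsg.Agent.H17.sympForm_smul_right]
  rw [h2, hJ.2 u v]
  linear_combination (Cfsg.sympForm d F u v) * hab

/-- `(a + b J)^(q+1) = 1` when `a² - δ b² = 1`, `δ` a non-square. -/
theorem tau_pow [Fintype F] (hodd : Odd (Fintype.card F)) {ι : Type*} [Fintype ι] [DecidableEq ι]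
    {δ : F} (hδ : ¬ IsSquare δ) {J : Matrix ι ι F} (hJ : J * J = δ • (1 : Matrix ι ι F))
    (a b : F) (hab : a * a - δ * b * b = 1) :
    (a • (1 : Matrix ι ι F) + b • J) ^ (Fintype.card F + 1) = 1 := by
  classical
  obtain ⟨p, hp⟩ := CharP.exists F
  have : Fact p.Prime := ⟨CharP.char_is_prime F p⟩
  obtain ⟨k, hk⟩ := FiniteField.card F p
  have hchar : ringChar F ≠ 2 := by
    intro h
    rw [FiniteField.even_card_iff_char_two] at h
    rcases hodd with ⟨t, ht⟩
    omega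
  have hδ0 : δ ≠ 0 := by
    rintro rfl
    exact hδ ⟨0, by simp⟩
  have hδpow : δ ^ (Fintype.card F / 2) = -1 := by
    rcases FiniteField.pow_dichotomy hchar hδ0 with h | h
    · exact absurd ((FiniteField.isSquare_iff hchar hδ0).2 h) hδ
    · exact h
  have hJpow : ∀ t : ℕ, J ^ (2 * t + 1) = δ ^ t • J := by
    intro t
    induction t with
    | zero => simp
    | succ t ih =>
      have : 2 * (t + 1) + 1 = (2 * t + 1) + 2 := by ring
      rw [this, pow_add, ih, pow_two, hJ, Matrix.smul_mul, Matrix.mul_smul, Matrix.mul_one,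
        smul_smul, pow_succ]
  have hJq : J ^ Fintype.card F = - J := by
    have h1 : Fintype.card F = 2 * (Fintype.card F / 2) + 1 := by
      rcases hodd with ⟨t, ht⟩
      omega
    rw [h1, hJpow, hδpow, neg_smul, one_smul]
  rcases isEmpty_or_nonempty ι with hι | hι
  · exact Subsingleton.elim _ _
  have : CharP (Matrix ι ι F) p := Matrix.charP p
  have hq : (a • (1 : Matrix ι ι F) + b • J) ^ Fintype.card F = a • (1 : Matrix ι ι F) - b • J := by
    have hcomm : Commute (a • (1 : Matrix ι ι F)) (b • J) := by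
      unfold Commute SemiconjBy
      rw [Matrix.smul_mul, Matrix.mul_smul, Matrix.one_mul, Matrix.smul_mul, Matrix.mul_smul,
        Matrix.mul_one, smul_comm]
    have e1 := add_pow_char_pow_of_commute p (k : ℕ) hcomm
    rw [← hk.2] at e1
    rw [e1, _root_.smul_pow, _root_.smul_pow, one_pow,
      FiniteField.pow_card, FiniteField.pow_card, hJq, smul_neg, sub_eq_add_neg]
  rw [pow_succ, hq]
  have : (a • (1 : Matrix ι ι F) - b • J) * (a • (1 : Matrix ι ι F) + b • J) =
      (a * a - δ * b * b) • (1 : Matrix ι ι F) := by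
    simp only [Matrix.sub_mul, Matrix.mul_add, Matrix.smul_mul, Matrix.mul_smul, Matrix.one_mul,
      Matrix.mul_one, hJ, smul_smul]
    module
  rw [this, hab, one_smul]

/-- The characteristic polynomial of `a + b J`. -/
theorem tau_charpoly {d : ℕ} {δ : F} (hδ : ¬ IsSquare δ)
    {J : Matrix (Fin d ⊕ Fin d) (Fin d ⊕ Fin d) F}
    (hJ : J * J = δ • (1 : Matrix (Fin d ⊕ Fin d) (Fin d ⊕ Fin d) F)) (a b : F) (hb : b ≠ 0) :
    (a • (1 : Matrix (Fin d ⊕ Fin d) (Fin d ⊕ Fin d) F) + b • J).charpoly =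
      ((X ^ 2 - C (b * b * δ)) ^ d).comp (X + C (-a)) := by
  have hns : ¬ IsSquare (b * b * δ) := by
    rintro ⟨s, hs⟩
    apply hδ
    refine ⟨s / b, ?_⟩
    field_simp
    linear_combination hs
  have hN : (b • J) * (b • J) = (b * b * δ) • (1 : Matrix (Fin d ⊕ Fin d) (Fin d ⊕ Fin d) F) := by
    rw [Matrix.smul_mul, Matrix.mul_smul, hJ, smul_smul, smul_smul]
  have hcp := charpoly_of_sq_nonsquare (b • J) (b * b * δ) hns hN d
    (by rw [Fintype.card_sum, Fintype.card_fin, two_mul])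
  have e : a • (1 : Matrix (Fin d ⊕ Fin d) (Fin d ⊕ Fin d) F) + b • J =
      b • J - Matrix.scalar (Fin d ⊕ Fin d) (-a) := by
    rw [Matrix.scalar_apply, ← Matrix.smul_one_eq_diagonal, neg_smul, sub_neg_eq_add, add_comm]
  rw [e, Matrix.charpoly_sub_scalar, hcp]

end

/-- S5976-CONJ. -/
theorem conj : StConj.{u} := by
  intro F _ _ d δ J J' hodd hδ hJ hJ'
  classical
  obtain ⟨p, hp⟩ := CharP.exists F
  have : Fact p.Prime := ⟨CharP.char_is_prime F p⟩
  obtain ⟨k, hk⟩ := FiniteField.card F p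
  have hchar : ringChar F ≠ 2 := by
    intro h
    rw [FiniteField.even_card_iff_char_two] at h
    rcases hodd with ⟨t, ht⟩
    omega
  have h2 : (2 : F) ≠ 0 := Ring.two_ne_zero hchar
  have hδ1 : (1 : F) - δ ≠ 0 := by
    intro h
    apply hδ
    have : δ = 1 := by linear_combination -h
    rw [this]
    exact ⟨1, by simp⟩
  set a : F := (1 + δ) / (1 - δ) with ha
  set b : F := 2 / (1 - δ) with hb
  have hab : a * a - δ * b * b = 1 := by
    rw [ha, hb]
    field_simp
    ring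
  have hb0 : b ≠ 0 := div_ne_zero h2 hδ1
  have hpm : ¬ p ∣ Fintype.card F + 1 := by
    intro h
    have h1 : p ∣ Fintype.card F := by
      rw [hk.2]
      exact dvd_pow_self p (PNat.ne_zero k)
    have h3 : p ∣ 1 := (Nat.dvd_add_right h1).1 h
    exact (Fact.out : p.Prime).one_lt.ne' (Nat.dvd_one.1 h3)
  obtain ⟨P, hP, hPτ⟩ := Cfsg.Agent.H45.sp_conj p
    (a • (1 : Matrix (Fin d ⊕ Fin d) (Fin d ⊕ Fin d) F) + b • J)
    (a • (1 : Matrix (Fin d ⊕ Fin d) (Fin d ⊕ Fin d) F) + b • J')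
    (tau_mem hJ a b hab) (tau_mem hJ' a b hab) (Fintype.card F + 1) (Fintype.card F + 1)
    hpm (tau_pow hodd hδ hJ.1 a b hab) hpm (tau_pow hodd hδ hJ'.1 a b hab)
    (by rw [tau_charpoly hδ hJ.1 a b hb0, tau_charpoly hδ hJ'.1 a b hb0])
  obtain ⟨x, hx, hxP⟩ := exists_spGL P hP
  refine ⟨x, hx, ?_⟩
  rw [hxP]
  rw [Matrix.mul_add, Matrix.add_mul, Matrix.mul_smul, Matrix.mul_smul, Matrix.smul_mul,
    Matrix.smul_mul, Matrix.mul_one, Matrix.one_mul] at hPτ
  have h3 : b • (P * J) = b • (J' * P) := add_left_cancel hPτ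
  exact smul_right_injective _ hb0 h3

example : Cfsg.Agent.H98.Gu.StConj.{u} := conj

end Cfsg.Agent.H83.Gu
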