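import Mathlib
import Cfsg.Agent.H98.GuDefs
import Cfsg.Agent.H83.GuBasic

/-!
# S5976-INVNEG (helper98's team project): a symplectic matrix of square `-1` commutes or
anticommutes with a skew root
-/

set_option autoImplicit false

namespace Cfsg.Agent.H83.Gu

open Matrix Polynomial Cfsg.Agent.H98.Gu

universe u

/-- S5976-INVNEG. -/
theorem invNeg : StInvNeg.{u} := by
  intro F _ _ d δ hodd hδ x hx hxx
  classical
  obtain ⟨p, hp⟩ := CharP.exists F
  have : Fact p.Prime := ⟨CharP.char_is_prime F p⟩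
  have hchar : ringChar F ≠ 2 := by
    intro h
    rw [FiniteField.even_card_iff_char_two] at h
    rcases hodd with ⟨t, ht⟩
    omega
  have h2 : (2 : F) ≠ 0 := Ring.two_ne_zero hchar
  set A : Matrix (Fin d ⊕ Fin d) (Fin d ⊕ Fin d) F := (x : Matrix (Fin d ⊕ Fin d) (Fin d ⊕ Fin d) F)
    with hAdef
  have hA : A ∈ Matrix.symplecticGroup (Fin d) F := mem_symplectic_of_spGL x hx
  have hAf := (Cfsg.Agent.H17.mem_symplecticGroup_iff_form d A).1 hA
  have hskew : ∀ u v, Cfsg.sympForm d F (A *ᵥ u) v = - Cfsg.sympForm d F u (A *ᵥ v) := by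
    intro u v
    have h := hAf u (A *ᵥ v)
    rw [Matrix.mulVec_mulVec, hxx, Matrix.neg_mulVec, Matrix.one_mulVec,
      Cfsg.Agent.H17.sympForm_neg_right] at h
    linear_combination -h
  by_cases hs : IsSquare (-δ)
  · obtain ⟨s, hs⟩ := hs
    refine ⟨s • A, ⟨?_, ?_⟩, Or.inl ?_⟩
    · rw [Matrix.smul_mul, Matrix.mul_smul, hxx, smul_smul, ← hs, smul_neg, neg_smul, neg_neg]
    · intro u v
      rw [Matrix.smul_mulVec, Matrix.smul_mulVec, Cfsg.Agent.H17.sympForm_smul_left,
        Cfsg.Agent.H17.sympForm_smul_right, hskew]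
      ring
    · rw [Matrix.mul_smul, Matrix.smul_mul]
  · have hδ0 : δ ≠ 0 := by
      rintro rfl
      exact hδ ⟨0, by simp⟩
    have hnδ0 : -δ ≠ 0 := neg_ne_zero.2 hδ0
    have h1 : δ ^ (Fintype.card F / 2) = -1 := by
      rcases FiniteField.pow_dichotomy hchar hδ0 with h | h
      · exact absurd ((FiniteField.isSquare_iff hchar hδ0).2 h) hδ
      · exact h
    have h1' : (-δ) ^ (Fintype.card F / 2) = -1 := by
      rcases FiniteField.pow_dichotomy hchar hnδ0 with h | h
      · exact absurd ((FiniteField.isSquare_iff hchar hnδ0).2 h) hs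
      · exact h
    have h3 : (-1 : F) ^ (Fintype.card F / 2) = 1 := by
      have e : (-δ) ^ (Fintype.card F / 2) = (-1 : F) ^ (Fintype.card F / 2) *
          δ ^ (Fintype.card F / 2) := by
        rw [← mul_pow, neg_one_mul]
      rw [h1, h1'] at e
      linear_combination e
    obtain ⟨i, hi⟩ := (FiniteField.isSquare_iff hchar (neg_ne_zero.2 (one_ne_zero (α := F)))).2 h3
    set X0 : Matrix (Fin d ⊕ Fin d) (Fin d ⊕ Fin d) F :=
      Matrix.fromBlocks (i • (1 : Matrix (Fin d) (Fin d) F)) 0 0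
        ((-i) • (1 : Matrix (Fin d) (Fin d) F)) with hX0def
    have hX0 : X0 ∈ Matrix.symplecticGroup (Fin d) F := by
      rw [Cfsg.Agent.H17.mem_symplecticGroup_iff_form]
      intro u v
      rw [Cfsg.Agent.H17.sympForm_eq_sum, Cfsg.Agent.H17.sympForm_eq_sum]
      apply Finset.sum_congr rfl
      intro k _
      simp only [hX0def, Matrix.mulVec, dotProduct, Fintype.sum_sum_type,
        Matrix.fromBlocks_apply₁₁, Matrix.fromBlocks_apply₁₂, Matrix.fromBlocks_apply₂₁,
        Matrix.fromBlocks_apply₂₂, Matrix.zero_apply, Matrix.smul_apply, Matrix.one_apply,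
        zero_mul, Finset.sum_const_zero, zero_add, add_zero, ite_mul, smul_eq_mul,
        mul_ite, mul_one, mul_zero, Finset.sum_ite_eq, Finset.mem_univ, if_true]
      linear_combination (u (Sum.inr k) * v (Sum.inl k) - u (Sum.inl k) * v (Sum.inr k)) * hi
    have hX0sq : X0 * X0 = -1 := by
      rw [hX0def, Matrix.fromBlocks_multiply]
      simp only [Matrix.zero_mul, Matrix.mul_zero, zero_add, add_zero, Matrix.smul_mul,
        Matrix.mul_smul, Matrix.one_mul, smul_smul]
      rw [← Matrix.fromBlocks_one, Matrix.fromBlocks_neg]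
      congr 1
      · rw [← hi, neg_smul, one_smul]
      · simp
      · simp
      · rw [neg_mul_neg, ← hi, neg_smul, one_smul]
    have hX0J : X0 * J0 d δ = -(J0 d δ * X0) := by
      rw [hX0def, J0, Matrix.fromBlocks_multiply, Matrix.fromBlocks_multiply,
        Matrix.fromBlocks_neg]
      simp only [Matrix.mul_zero, zero_add, add_zero,
        Matrix.mul_smul, Matrix.mul_one, smul_smul]
      congr 1
      · simp
      · rw [neg_smul, neg_neg]
      · rw [← neg_smul]
        congr 1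
        ring
      · simp
    have hcp : A.charpoly = X0.charpoly := by
      rw [Cfsg.Agent.H45.sp_sq_neg_charpoly h2 d A hA hxx,
        Cfsg.Agent.H45.sp_sq_neg_charpoly h2 d X0 hX0 hX0sq]
    have hp2 : p ≠ 2 := by
      intro h
      apply hchar
      rw [← h]
      exact ringChar.eq F p
    have hp4 : ¬ p ∣ 4 := by
      intro h
      have h4 : (4 : ℕ) = 2 ^ 2 := by norm_num
      rw [h4] at h
      have := (Nat.prime_dvd_prime_iff_eq (Fact.out : p.Prime) Nat.prime_two).1
        ((Fact.out : p.Prime).dvd_of_dvd_pow h)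
      exact hp2 this
    have hpow4 : ∀ B : Matrix (Fin d ⊕ Fin d) (Fin d ⊕ Fin d) F, B * B = -1 → B ^ 4 = 1 := by
      intro B hB
      have e : B ^ 4 = (B * B) * (B * B) := by
        rw [← pow_two B, ← pow_add]
      rw [e, hB, neg_mul_neg, one_mul]
    obtain ⟨P, hP, hPA⟩ := Cfsg.Agent.H45.sp_conj p A X0 hA hX0 4 4 hp4 (hpow4 A hxx) hp4
      (hpow4 X0 hX0sq) hcp
    have hdet : IsUnit P.det := SymplecticGroup.symplectic_det hP
    have hQP : P⁻¹ * P = 1 := Matrix.nonsing_inv_mul P hdet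
    have hPQ : P * P⁻¹ = 1 := Matrix.mul_nonsing_inv P hdet
    refine ⟨P⁻¹ * J0 d δ * P, isSkewRoot_conj (isSkewRoot_J0 d δ) hP hQP hPQ, Or.inr ?_⟩
    have hAQ : A * P⁻¹ = P⁻¹ * X0 := by
      calc A * P⁻¹ = P⁻¹ * (P * A) * P⁻¹ := by rw [← Matrix.mul_assoc, hQP, Matrix.one_mul]
        _ = P⁻¹ * (X0 * P) * P⁻¹ := by rw [hPA]
        _ = P⁻¹ * X0 := by rw [Matrix.mul_assoc, Matrix.mul_assoc, hPQ, Matrix.mul_one]
    calc A * (P⁻¹ * J0 d δ * P) = (A * P⁻¹) * J0 d δ * P := by simp only [Matrix.mul_assoc]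
      _ = P⁻¹ * (X0 * J0 d δ) * P := by rw [hAQ]; simp only [Matrix.mul_assoc]
      _ = -(P⁻¹ * J0 d δ * (X0 * P)) := by
          rw [hX0J]; simp only [Matrix.mul_neg, Matrix.neg_mul, Matrix.mul_assoc]
      _ = -(P⁻¹ * J0 d δ * P * A) := by rw [← hPA]; simp only [Matrix.mul_assoc]

example : Cfsg.Agent.H98.Gu.StInvNeg.{u} := invNeg

end Cfsg.Agent.H83.Gu
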