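import Mathlib
import Cfsg.Agent.H10.HO.Defs

/-!
helper83: piece HO-FIXX of helper10's project S2075 (`Out(He) = 2`).
Every automorphism `α` fixing `x` is inner: `α z = z x^i`, `β := conj (x^(2i)) ∘ α` fixes `x` and
`z`, `β t ∈ C(z) = ⟨z⟩ ∪ ⟨z⟩t`, so `β t = t` and `β = 1`.
-/

set_option autoImplicit false

namespace Cfsg.Agent.H83.Ho

universe u

theorem fixx : Cfsg.Agent.H10.HO.StFIXX.{u} := by
  intro G _ _ x z t _hx17 _hx1 hzx hCx hCz htz htc hH1 hH2 α hαx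
  -- `α z` acts on `x` as `z` does
  have hαz : α z * x * (α z)⁻¹ = x ^ 2 := by
    have h := congrArg α hzx
    rw [map_mul, map_mul, map_inv, map_pow, hαx] at h
    exact h
  have h1 : α z * x = x ^ 2 * α z := by rw [← hαz]; group
  have h2 : z⁻¹ * x ^ 2 = x * z⁻¹ := by rw [← hzx]; group
  have hcomm : (z⁻¹ * α z) * x = x * (z⁻¹ * α z) := by
    calc (z⁻¹ * α z) * x = z⁻¹ * (α z * x) := by group
      _ = z⁻¹ * (x ^ 2 * α z) := by rw [h1]
      _ = (z⁻¹ * x ^ 2) * α z := by group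
      _ = (x * z⁻¹) * α z := by rw [h2]
      _ = x * (z⁻¹ * α z) := by group
  obtain ⟨i, hi⟩ := hCx _ hcomm
  have hαz' : α z = z * x ^ i := by rw [← hi]; group
  have h3 : x ^ (2 * i) * z = z * x ^ i := by
    have h : z * x ^ i * z⁻¹ = x ^ (2 * i) := by rw [← conj_pow, hzx, ← pow_mul]
    rw [← h]; group
  obtain ⟨β, hβdef⟩ : ∃ β : MulAut G, β = MulAut.conj (x ^ (2 * i)) * α := ⟨_, rfl⟩
  have hβx : β x = x := by
    rw [hβdef, MulAut.mul_apply, hαx, MulAut.conj_apply]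
    have h : x ^ (2 * i) * x = x * x ^ (2 * i) := by rw [← pow_succ, ← pow_succ']
    rw [h]; group
  have hβz : β z = z := by
    rw [hβdef, MulAut.mul_apply, hαz', MulAut.conj_apply]
    calc x ^ (2 * i) * (z * x ^ i) * (x ^ (2 * i))⁻¹
        = (x ^ (2 * i) * z) * x ^ i * (x ^ (2 * i))⁻¹ := by group
      _ = z * (x ^ i * x ^ i) * (x ^ (2 * i))⁻¹ := by rw [h3]; group
      _ = z * x ^ (2 * i) * (x ^ (2 * i))⁻¹ := by rw [← pow_add, two_mul]
      _ = z := by group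
  have hβt : β t * z = z * β t := by
    calc β t * z = β t * β z := by rw [hβz]
      _ = β (t * z) := by rw [map_mul]
      _ = β (z * t) := by rw [htc]
      _ = z * β t := by rw [map_mul, hβz]
  obtain ⟨a, ha, h | h⟩ := hCz _ hβt
  · exfalso
    apply htz a ha
    apply β.injective
    rw [h, map_pow, hβz]
  · have ha0 : a = 0 := by
      by_contra hne
      exact hH1 a (Nat.pos_of_ne_zero hne) ha β hβx hβz h
    rw [ha0, pow_zero, one_mul] at h
    have hβ1 := hH2 β hβx hβz h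
    refine ⟨(x ^ (2 * i))⁻¹, ?_⟩
    rw [map_inv]
    rw [hβdef] at hβ1
    exact eq_inv_of_mul_eq_one_right hβ1

example : ∀ (G : Type u) [Group G] [Finite G] (x z t : G),
    x ^ 17 = 1 → x ≠ 1 → z * x * z⁻¹ = x ^ 2 →
    (∀ g : G, g * x = x * g → ∃ i : ℕ, g = x ^ i) →
    (∀ g : G, g * z = z * g → ∃ a : ℕ, a < 8 ∧ (g = z ^ a ∨ g = z ^ a * t)) →
    (∀ a : ℕ, a < 8 → t ≠ z ^ a) → t * z = z * t →
    (∀ a : ℕ, 0 < a → a < 8 → ∀ β : MulAut G, β x = x → β z = z → β t ≠ z ^ a * t) →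
    (∀ β : MulAut G, β x = x → β z = z → β t = t → β = 1) →
    ∀ α : MulAut G, α x = x → ∃ g : G, α = MulAut.conj g := fixx.{u}

end Cfsg.Agent.H83.Ho

#print axioms Cfsg.Agent.H83.Ho.fixx
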