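import Mathlib
import Cfsg.Agent.H95.HupDefs

/-!
# S3360-SEMI (team piece for helper95, by helper83)

A group `R` normalizing `P` and acting semiregularly on the nontrivial cosets of `Z(P)` in `P`
gives `|P| = (k |R| + 1) |Z(P)|`.
-/

set_option autoImplicit false

universe w

namespace Cfsg.Agent.H83.Hup

open Cfsg.Agent.H95.Hup

/-- The conjugation action of `R` on an `R`-invariant subgroup `P`. -/
@[reducible] def conjAct {G : Type w} [Group G] (P R : Subgroup G)
    (h : ∀ y ∈ R, ∀ u ∈ P, y * u * y⁻¹ ∈ P) : MulAction ↥R ↥P where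
  smul y u := ⟨(y : G) * u * (y : G)⁻¹, h y y.2 u u.2⟩
  one_smul u := Subtype.ext (by
    show ((1 : ↥R) : G) * u * ((1 : ↥R) : G)⁻¹ = u
    simp)
  mul_smul y y' u := Subtype.ext (by
    show ((y * y' : ↥R) : G) * u * ((y * y' : ↥R) : G)⁻¹ =
      (y : G) * ((y' : G) * u * (y' : G)⁻¹) * (y : G)⁻¹
    simp [mul_assoc])

theorem semi_holds : SemiStmt.{w} := by
  intro G _ _ P R hnorm hsemi
  classical
  letI act : MulAction ↥R ↥P := conjAct P R hnorm
  have hsmul : ∀ (y : ↥R) (u : ↥P), ((y • u : ↥P) : G) = (y : G) * u * (y : G)⁻¹ :=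
    fun _ _ => rfl
  have hZ : ∀ u : ↥P, u ∈ Subgroup.center ↥P ↔ Cent P (u : G) := by
    intro u
    rw [Subgroup.mem_center_iff]
    constructor
    · intro hu c hc
      exact (congrArg Subtype.val (hu ⟨c, hc⟩)).symm
    · intro hu g
      exact Subtype.ext (hu g g.2).symm
  letI qa : MulAction.QuotientAction ↥R (Subgroup.center ↥P) := ⟨by
    intro y a a' haa
    rw [hZ] at haa ⊢
    intro c hc
    have e : (((y • a)⁻¹ * (y • a') : ↥P) : G) =
        (y : G) * ((a : G)⁻¹ * a') * (y : G)⁻¹ := by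
      show ((y : G) * a * (y : G)⁻¹)⁻¹ * ((y : G) * a' * (y : G)⁻¹) = _
      group
    rw [e]
    have hc' : (y : G)⁻¹ * c * (y : G) ∈ P := by
      have := hnorm ((y⁻¹ : ↥R) : G) (y⁻¹ : ↥R).2 c hc
      simpa using this
    have h1 : ((a : G)⁻¹ * a') * ((y : G)⁻¹ * c * y) = ((y : G)⁻¹ * c * y) * ((a : G)⁻¹ * a') :=
      haa _ hc'
    calc (y : G) * ((a : G)⁻¹ * a') * (y : G)⁻¹ * c
        = (y : G) * (((a : G)⁻¹ * a') * ((y : G)⁻¹ * c * y)) * (y : G)⁻¹ := by group
      _ = (y : G) * (((y : G)⁻¹ * c * y) * ((a : G)⁻¹ * a')) * (y : G)⁻¹ := by rw [h1]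
      _ = c * ((y : G) * ((a : G)⁻¹ * a') * (y : G)⁻¹) := by group⟩
  have hfix : ∀ y : ↥R, y • (((1 : ↥P) : ↥P ⧸ Subgroup.center ↥P)) =
      (((1 : ↥P) : ↥P ⧸ Subgroup.center ↥P)) := by
    intro y
    rw [MulAction.Quotient.smul_mk]
    congr 1
    apply Subtype.ext
    rw [hsmul]
    simp
  have hfree : ∀ (y : ↥R) (ω : ↥P ⧸ Subgroup.center ↥P),
      ω ≠ (((1 : ↥P) : ↥P ⧸ Subgroup.center ↥P)) → y • ω = ω → y = 1 := by
    intro y ω hω hy
    induction ω using QuotientGroup.induction_on with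
    | H u =>
      by_contra hy1
      apply hω
      rw [MulAction.Quotient.smul_mk, QuotientGroup.eq] at hy
      rw [QuotientGroup.eq]
      have h2 : (y • u) * u⁻¹ ∈ Subgroup.center ↥P := by
        have h := (Subgroup.center ↥P).inv_mem hy
        have h3 := Subgroup.Normal.conj_mem (inferInstance : (Subgroup.center ↥P).Normal) _ h u
        have e : (y • u) * u⁻¹ = u * ((y • u)⁻¹ * u)⁻¹ * u⁻¹ := by group
        rw [e]
        exact h3
      have h4 : Cent P ((y : G) * u * (y : G)⁻¹ * (u : G)⁻¹) := (hZ _).mp h2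
      have h5 : Cent P (u : G) :=
        hsemi y y.2 (fun h => hy1 (Subtype.ext h)) u u.2 h4
      have h6 : u ∈ Subgroup.center ↥P := (hZ u).mpr h5
      rw [mul_one]
      exact (Subgroup.center ↥P).inv_mem h6
  let S : SubMulAction ↥R (↥P ⧸ Subgroup.center ↥P) :=
    { carrier := {ω | ω ≠ (((1 : ↥P) : ↥P ⧸ Subgroup.center ↥P))}
      smul_mem' := by
        intro y ω hω h
        apply hω
        have : y • ω = y • (((1 : ↥P) : ↥P ⧸ Subgroup.center ↥P)) := by rw [h, hfix]
        exact MulAction.injective y this }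
  have hstab : ∀ b : ↥S, MulAction.stabilizer ↥R b = ⊥ := by
    intro b
    rw [eq_bot_iff]
    intro y hy
    rw [MulAction.mem_stabilizer_iff] at hy
    rw [Subgroup.mem_bot]
    have : y • (b : ↥P ⧸ Subgroup.center ↥P) = b := by
      have := congrArg Subtype.val hy
      simpa using this
    exact hfree y b b.2 this
  have e := MulAction.selfEquivOrbitsQuotientProd hstab
  have hS : Nat.card ↥S = Nat.card (Quotient (MulAction.orbitRel ↥R ↥S)) * Nat.card ↥R := by
    rw [Nat.card_congr e, Nat.card_prod]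
  have hΩ : Nat.card (↥P ⧸ Subgroup.center ↥P) = Nat.card ↥S + 1 := by
    have e2 : Option ↥S ≃ (↥P ⧸ Subgroup.center ↥P) :=
      Equiv.optionSubtypeNe (((1 : ↥P) : ↥P ⧸ Subgroup.center ↥P))
    rw [← Nat.card_congr e2, Finite.card_option]
  refine ⟨Nat.card (Quotient (MulAction.orbitRel ↥R ↥S)), ?_⟩
  rw [Subgroup.card_eq_card_quotient_mul_card_subgroup (Subgroup.center ↥P), hΩ, hS]

end Cfsg.Agent.H83.Hup
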