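import Mathlib
import Cfsg.Agent.H95.HupDefs

/-!
# S3360-SQ (team piece for helper95, by helper83)

A finite group of class at most two with cyclic centre and `P / Z(P)` of prime exponent `s` has
`|P| = M ^ 2 * |Z(P)|`.
-/

set_option autoImplicit false

universe w

namespace Cfsg.Agent.H83.Hup

open Cfsg.Agent.H95.Hup

/-- A homomorphism into a cyclic group with image of prime exponent `s`, not trivial, has kernel of
index `s`. -/
theorem ker_index_of_cyclic {Q C : Type*} [Group Q] [Group C] [IsCyclic C] (s : ℕ) (hs : s.Prime)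
    (f : Q →* C) (hf : ∀ x, f x ^ s = 1) (hne : ∃ x, f x ≠ 1) : f.ker.index = s := by
  rw [Subgroup.index_ker]
  obtain ⟨g, hg⟩ := IsCyclic.exists_generator (α := f.range)
  have hcard : Nat.card f.range = orderOf g := (orderOf_eq_card_of_forall_mem_zpowers hg).symm
  have hgs : g ^ s = 1 := by
    obtain ⟨x, hx⟩ := g.2
    apply Subtype.ext
    rw [Subgroup.coe_pow, ← hx]
    exact hf x
  have hdvd : orderOf g ∣ s := orderOf_dvd_of_pow_eq_one hgs
  rcases (Nat.dvd_prime hs).mp hdvd with h1 | h1
  · exfalso
    obtain ⟨x, hx⟩ := hne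
    have hg1 : g = 1 := orderOf_eq_one_iff.mp h1
    have hxr : (⟨f x, x, rfl⟩ : f.range) ∈ Subgroup.zpowers g := hg _
    rw [hg1, Subgroup.zpowers_one_eq_bot, Subgroup.mem_bot] at hxr
    exact hx (congrArg Subtype.val hxr)
  · rw [hcard, h1]

/-- In a group whose commutators are central, `g ↦ [g, a]` is a homomorphism into the centre. -/
def commHom {P : Type w} [Group P]
    (hcl : ∀ a b c : P, (a * b * a⁻¹ * b⁻¹) * c = c * (a * b * a⁻¹ * b⁻¹)) (a : P) :
    P →* Subgroup.center P where
  toFun g := ⟨g * a * g⁻¹ * a⁻¹, Subgroup.mem_center_iff.mpr fun c => (hcl g a c).symm⟩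
  map_one' := Subtype.ext (by
    show (1 : P) * a * (1 : P)⁻¹ * a⁻¹ = 1
    group)
  map_mul' g h := Subtype.ext (by
    show (g * h) * a * (g * h)⁻¹ * a⁻¹ = (g * a * g⁻¹ * a⁻¹) * (h * a * h⁻¹ * a⁻¹)
    calc (g * h) * a * (g * h)⁻¹ * a⁻¹
        = g * (h * a * h⁻¹ * a⁻¹) * (a * g⁻¹ * a⁻¹) := by group
      _ = (h * a * h⁻¹ * a⁻¹) * g * (a * g⁻¹ * a⁻¹) := by rw [← hcl h a g]
      _ = (h * a * h⁻¹ * a⁻¹) * (g * a * g⁻¹ * a⁻¹) := by group
      _ = (g * a * g⁻¹ * a⁻¹) * (h * a * h⁻¹ * a⁻¹) := hcl h a _)

theorem commHom_apply {P : Type w} [Group P]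
    (hcl : ∀ a b c : P, (a * b * a⁻¹ * b⁻¹) * c = c * (a * b * a⁻¹ * b⁻¹)) (a g : P) :
    ((commHom hcl a g : Subgroup.center P) : P) = g * a * g⁻¹ * a⁻¹ := rfl

theorem commHom_eq_one_iff {P : Type w} [Group P]
    (hcl : ∀ a b c : P, (a * b * a⁻¹ * b⁻¹) * c = c * (a * b * a⁻¹ * b⁻¹)) (a g : P) :
    commHom hcl a g = 1 ↔ g * a = a * g := by
  rw [Subtype.ext_iff, commHom_apply, Subgroup.coe_one, mul_inv_eq_one, mul_inv_eq_iff_eq_mul]

theorem commHom_pow {P : Type w} [Group P]
    (hcl : ∀ a b c : P, (a * b * a⁻¹ * b⁻¹) * c = c * (a * b * a⁻¹ * b⁻¹)) (s : ℕ)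
    (hexp : ∀ u : P, u ^ s ∈ Subgroup.center P) (a g : P) : commHom hcl a g ^ s = 1 := by
  rw [← map_pow, commHom_eq_one_iff]
  exact (Subgroup.mem_center_iff.mp (hexp g) a).symm

theorem sq_aux (s : ℕ) (hs : s.Prime) : ∀ (n : ℕ) (P : Type w) [Group P] [Finite P],
    Nat.card P = n →
    (∀ a b c : P, (a * b * a⁻¹ * b⁻¹) * c = c * (a * b * a⁻¹ * b⁻¹)) →
    IsCyclic (Subgroup.center P) → (∀ u : P, u ^ s ∈ Subgroup.center P) →
    ∃ M : ℕ, Nat.card P = M ^ 2 * Nat.card (Subgroup.center P) := by
  intro n
  induction n using Nat.strong_induction_on with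
  | _ n ih =>
    intro P _ _ hn hcl hcyc hexp
    by_cases hab : ∀ a b : P, a * b = b * a
    · refine ⟨1, ?_⟩
      have htop : Subgroup.center P = ⊤ := by
        rw [eq_top_iff]
        intro z _
        rw [Subgroup.mem_center_iff]
        intro g
        exact hab g z
      rw [htop, Subgroup.card_top, one_pow, one_mul]
    · simp only [not_forall] at hab
      obtain ⟨a, b, hab⟩ := hab
      -- the two commutator homomorphisms
      set fa := commHom hcl a with hfa
      set fb := commHom hcl b with hfb
      have hfa_b : fa b ≠ 1 := by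
        rw [hfa, Ne, commHom_eq_one_iff]
        exact fun h => hab h.symm
      have hfb_a : fb a ≠ 1 := by
        rw [hfb, Ne, commHom_eq_one_iff]
        exact hab
      have hKb : fb.ker.index = s :=
        ker_index_of_cyclic s hs fb (commHom_pow hcl s hexp b) ⟨a, hfb_a⟩
      -- the restriction of `fa` to `ker fb`
      have hb_mem : b ∈ fb.ker := by
        rw [MonoidHom.mem_ker, hfb, commHom_eq_one_iff]
      have hrel : fa.ker.relIndex fb.ker = s := by
        have h1 : (fa.comp fb.ker.subtype).ker.index = s :=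
          ker_index_of_cyclic s hs (fa.comp fb.ker.subtype)
            (fun x => commHom_pow hcl s hexp a x) ⟨⟨b, hb_mem⟩, hfa_b⟩
        have h2 : (fa.comp fb.ker.subtype).ker = fa.ker.subgroupOf fb.ker := rfl
        rw [h2] at h1
        exact h1
      set P₁ : Subgroup P := fa.ker ⊓ fb.ker with hP₁
      have hP₁rel : P₁.relIndex fb.ker = s := by
        rw [hP₁, Subgroup.inf_relIndex_right]
        exact hrel
      have hP₁idx : P₁.index = s * s := by
        rw [← Subgroup.relIndex_mul_index (inf_le_right : P₁ ≤ fb.ker), hP₁rel, hKb]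
      have hmemP₁ : ∀ g : P, g ∈ P₁ ↔ g * a = a * g ∧ g * b = b * g := by
        intro g
        rw [hP₁, Subgroup.mem_inf, MonoidHom.mem_ker, MonoidHom.mem_ker, hfa, hfb,
          commHom_eq_one_iff, commHom_eq_one_iff]
      have ha_notin : a ∉ fb.ker := by
        rw [MonoidHom.mem_ker]
        exact hfb_a
      have hb_notin : b ∉ P₁ := by
        intro h
        exact hab ((hmemP₁ b).mp h).1.symm
      -- the centre of `P₁` is the centre of `P`
      have hcen : ∀ z : ↥P₁, z ∈ Subgroup.center ↥P₁ ↔ (z : P) ∈ Subgroup.center P := by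
        intro z
        constructor
        · intro hz
          rw [Subgroup.mem_center_iff] at hz
          -- the centralizer of `z`
          set L : Subgroup P := Subgroup.centralizer ({(z : P)} : Set P) with hL
          have hLmem : ∀ g : P, g ∈ L ↔ (z : P) * g = g * z := by
            intro g
            rw [hL, Subgroup.mem_centralizer_iff]
            simp
          have hP₁L : P₁ ≤ L := by
            intro g hg
            rw [hLmem]
            exact (congrArg Subtype.val (hz ⟨g, hg⟩)).symm
          have haL : a ∈ L := by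
            rw [hLmem]
            exact ((hmemP₁ z).mp z.2).1
          have hbL : b ∈ L := by
            rw [hLmem]
            exact ((hmemP₁ z).mp z.2).2
          -- step 1: `ker fb ≤ L`
          have h1 : fb.ker ≤ L := by
            have hle1 : P₁ ≤ L ⊓ fb.ker := le_inf hP₁L inf_le_right
            have hmul := Subgroup.relIndex_mul_relIndex P₁ (L ⊓ fb.ker) fb.ker hle1 inf_le_right
            rw [hP₁rel] at hmul
            have hd : (L ⊓ fb.ker).relIndex fb.ker ∣ s := Dvd.intro_left _ hmul
            rcases (Nat.dvd_prime hs).mp hd with h | h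
            · have := Subgroup.relIndex_eq_one.mp h
              exact fun g hg => (this hg).1
            · exfalso
              rw [h] at hmul
              have h' : P₁.relIndex (L ⊓ fb.ker) = 1 := by
                have hspos : 0 < s := hs.pos
                exact Nat.eq_of_mul_eq_mul_right hspos (by rw [hmul, one_mul])
              have := Subgroup.relIndex_eq_one.mp h'
              exact hb_notin (this ⟨hbL, hb_mem⟩)
          -- step 2: `L = ⊤`
          have h2 : L = ⊤ := by
            have hmul := Subgroup.relIndex_mul_index h1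
            rw [hKb] at hmul
            have hd : L.index ∣ s := Dvd.intro_left _ hmul
            rcases (Nat.dvd_prime hs).mp hd with h | h
            · exact Subgroup.index_eq_one.mp h
            · exfalso
              rw [h] at hmul
              have h' : fb.ker.relIndex L = 1 := by
                have hspos : 0 < s := hs.pos
                exact Nat.eq_of_mul_eq_mul_right hspos (by rw [hmul, one_mul])
              have := Subgroup.relIndex_eq_one.mp h'
              exact ha_notin (this haL)
          rw [Subgroup.mem_center_iff]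
          intro g
          have hg : g ∈ L := by rw [h2]; exact Subgroup.mem_top g
          exact ((hLmem g).mp hg).symm
        · intro hz
          rw [Subgroup.mem_center_iff] at hz ⊢
          intro g
          exact Subtype.ext (hz g)
      have hcenP₁ : ∀ c : P, c ∈ Subgroup.center P → c ∈ P₁ := by
        intro c hc
        rw [Subgroup.mem_center_iff] at hc
        rw [hmemP₁]
        exact ⟨(hc a).symm, (hc b).symm⟩
      let e : Subgroup.center ↥P₁ ≃* Subgroup.center P :=
        { toFun := fun z => ⟨((z : ↥P₁) : P), (hcen z.1).mp z.2⟩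
          invFun := fun c => ⟨⟨(c : P), hcenP₁ c c.2⟩, (hcen _).mpr c.2⟩
          left_inv := fun z => rfl
          right_inv := fun c => rfl
          map_mul' := fun z z' => rfl }
      have hcyc₁ : IsCyclic (Subgroup.center ↥P₁) :=
        isCyclic_of_surjective e.symm e.symm.surjective
      have hcard₁ : Nat.card (Subgroup.center ↥P₁) = Nat.card (Subgroup.center P) :=
        Nat.card_congr e.toEquiv
      have hcl₁ : ∀ x y z : ↥P₁, (x * y * x⁻¹ * y⁻¹) * z = z * (x * y * x⁻¹ * y⁻¹) := by
        intro x y z
        apply Subtype.ext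
        exact hcl x y z
      have hexp₁ : ∀ u : ↥P₁, u ^ s ∈ Subgroup.center ↥P₁ := by
        intro u
        rw [hcen]
        exact hexp u
      have hcardP : Nat.card P = Nat.card ↥P₁ * (s * s) := by
        rw [← hP₁idx]
        exact (Subgroup.card_mul_index P₁).symm
      have hlt : Nat.card ↥P₁ < n := by
        rw [← hn, hcardP]
        have hpos : 0 < Nat.card ↥P₁ := Nat.card_pos
        have h2 : 2 ≤ s := hs.two_le
        have h4 : 1 < s * s := by nlinarith
        exact lt_mul_of_one_lt_right hpos h4
      obtain ⟨M₁, hM₁⟩ := ih (Nat.card ↥P₁) hlt ↥P₁ rfl hcl₁ hcyc₁ hexp₁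
      refine ⟨s * M₁, ?_⟩
      rw [hcardP, hM₁, hcard₁]
      ring

theorem sq_holds : SqStmt.{w} := by
  intro P _ _ s hs hcl hcyc hexp
  exact sq_aux s hs (Nat.card P) P rfl hcl hcyc hexp

end Cfsg.Agent.H83.Hup
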