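import Mathlib
import Cfsg.Prelude.Def_Blocks
import Cfsg.Prelude.Def_Transfer
import Cfsg.Agent.Lib.ThompsonDeg
import Cfsg.Agent.H81.WBO
import Cfsg.Agent.H81.Counting
import Cfsg.Agent.H82.Codeg
import Cfsg.Agent.H82.Perfect
import Cfsg.Agent.H83.Basic
import Cfsg.Agent.H81.BlockDeg
import Cfsg.Agent.S4611

/-!
# Isaacs–Smith: linear height-zero characters of the principal block (helper83)

If every irreducible character of degree prime to `p` in the principal `p`-block of `G` is
linear, then `G` has a normal `p`-complement (`normal_complement_of_principal_linear`).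

The proof is the block version of Thompson's theorem (`Lib/ThompsonDeg`): for a `p`-subgroup
`H`, weak block orthogonality gives `∑_{χ ∈ B₀} [χ|H, 1] χ(1) = (∑_{χ ∈ B₀} χ(1)²) / |H|`; modulo
`p` the left side counts the linear characters in `B₀` trivial on `H`, which form a group
(`linB0`) of order prime to `p` when `H` is a Sylow `p`-subgroup.  So for each maximal subgroup
`P₀` of a Sylow `p`-subgroup `P` some linear character is trivial on `P₀` but not on `P`, and
Tate's theorem applies.
-/

set_option autoImplicit false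
set_option linter.unusedSectionVars false
set_option linter.style.haveILetI false

namespace Cfsg.Agent.H83

open Cfsg Cfsg.Agent.H4 Cfsg.Agent.H20 Cfsg.Agent.H82
open scoped ComplexConjugate

universe u

section IS

variable {G : Type u} [Group G]

/-- Membership of a linear character in the principal block. -/
theorem linChar_mem_principalBlock_iff {M : Ideal AlgInt} (f : G →* ℂˣ) :
    linChar f ∈ principalBlock M G ↔ ∀ g : G, MemLocalIdeal M
      (((Subgroup.centralizer ({g} : Set G)).index : ℂ) * (1 - ((f g : ℂˣ) : ℂ))) := by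
  have key : ∀ g : G, centralChar (fun _ : G => (1 : ℂ)) g - centralChar (linChar f).1 g =
      ((Subgroup.centralizer ({g} : Set G)).index : ℂ) * (1 - ((f g : ℂˣ) : ℂ)) := by
    intro g
    unfold centralChar
    rw [linChar_apply, linChar_apply, map_one, Units.val_one]
    ring
  constructor
  · intro h g
    rw [← key g]
    exact h g
  · intro h g
    show MemLocalIdeal M (centralChar (fun _ : G => (1 : ℂ)) g - centralChar (linChar f).1 g)
    rw [key g]
    exact h g

theorem memLocalRing_unit_val [Finite G] {M : Ideal AlgInt} (hM : M.IsPrime) (f : G →* ℂˣ)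
    (g : G) : MemLocalRing M ((f g : ℂˣ) : ℂ) := by
  have h := Cfsg.Agent.H81.irr_isIntegral (linChar f) g
  exact memLocalRing_algInt hM ⟨_, h⟩

/-- The linear characters in the principal block that are trivial on `H`, as a subgroup of
`G →* ℂˣ`. -/
def linB0 [Finite G] (M : Ideal AlgInt) (hM : M.IsPrime) (H : Subgroup G) :
    Subgroup (G →* ℂˣ) where
  carrier := {f | linChar f ∈ principalBlock M G ∧ ∀ h ∈ H, f h = 1}
  one_mem' := by
    refine ⟨?_, fun h _ => rfl⟩
    rw [linChar_mem_principalBlock_iff]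
    intro g
    simp only [MonoidHom.one_apply, Units.val_one, sub_self, mul_zero]
    exact memLocalIdeal_zero hM
  mul_mem' := by
    rintro a b ⟨ha, ha'⟩ ⟨hb, hb'⟩
    refine ⟨?_, fun h hh => by rw [MonoidHom.mul_apply, ha' h hh, hb' h hh, one_mul]⟩
    rw [linChar_mem_principalBlock_iff] at ha hb ⊢
    intro g
    have e : ((Subgroup.centralizer ({g} : Set G)).index : ℂ) * (1 - (((a * b) g : ℂˣ) : ℂ)) =
        ((Subgroup.centralizer ({g} : Set G)).index : ℂ) * (1 - ((a g : ℂˣ) : ℂ)) +
        ((a g : ℂˣ) : ℂ) *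
          (((Subgroup.centralizer ({g} : Set G)).index : ℂ) * (1 - ((b g : ℂˣ) : ℂ))) := by
      rw [MonoidHom.mul_apply, Units.val_mul]; ring
    rw [e]
    exact memLocalIdeal_add hM (ha g)
      (memLocalIdeal_mul_left hM (memLocalRing_unit_val hM a g) (hb g))
  inv_mem' := by
    rintro a ⟨ha, ha'⟩
    refine ⟨?_, fun h hh => by rw [MonoidHom.inv_apply, ha' h hh, inv_one]⟩
    rw [linChar_mem_principalBlock_iff] at ha ⊢
    intro g
    have e : ((Subgroup.centralizer ({g} : Set G)).index : ℂ) * (1 - (((a⁻¹) g : ℂˣ) : ℂ)) =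
        (-((a g⁻¹ : ℂˣ) : ℂ)) *
          (((Subgroup.centralizer ({g} : Set G)).index : ℂ) * (1 - ((a g : ℂˣ) : ℂ))) := by
      have h1 : ((a g⁻¹ : ℂˣ) : ℂ) * ((a g : ℂˣ) : ℂ) = 1 := by
        rw [← Units.val_mul, ← map_mul, inv_mul_cancel, map_one, Units.val_one]
      have h2 : (((a⁻¹) g : ℂˣ) : ℂ) = ((a g⁻¹ : ℂˣ) : ℂ) := by
        rw [MonoidHom.inv_apply, map_inv]
      rw [h2]
      linear_combination (-((Subgroup.centralizer ({g} : Set G)).index : ℂ)) * h1
    rw [e]
    exact memLocalIdeal_mul_left hM (memLocalRing_neg (memLocalRing_unit_val hM a g⁻¹)) (ha g)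

theorem mem_linB0 [Finite G] {M : Ideal AlgInt} (hM : M.IsPrime) (H : Subgroup G)
    (f : G →* ℂˣ) :
    f ∈ linB0 M hM H ↔ linChar f ∈ principalBlock M G ∧ ∀ h ∈ H, f h = 1 := Iff.rfl

theorem linChar_injective : Function.Injective (linChar : (G →* ℂˣ) → IrrCharacter G) := by
  intro a b h
  ext g
  have := congrFun (congrArg Subtype.val h) g
  exact this

instance finite_linB0 [Finite G] (M : Ideal AlgInt) (hM : M.IsPrime) (H : Subgroup G) :
    Finite (linB0 M hM H) := by
  haveI := finite_irr G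
  exact Finite.of_injective (fun f : linB0 M hM H => linChar f.1)
    (fun a b h => Subtype.ext (linChar_injective h))

/-- The group `linB0` is in bijection with the linear characters of the principal block that
are trivial on `H`. -/
theorem card_linB0 [Finite G] (M : Ideal AlgInt) (hM : M.IsPrime) (H : Subgroup G) :
    Nat.card (linB0 M hM H) = Nat.card {χ : IrrCharacter G //
      χ ∈ principalBlock M G ∧ charDegree χ.1 = 1 ∧ ∀ h ∈ H, χ.1 h = 1} := by
  refine Nat.card_congr (Equiv.ofBijective (fun f => ⟨linChar f.1, f.2.1, charDegree_linChar f.1,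
    fun h hh => by rw [linChar_apply, f.2.2 h hh, Units.val_one]⟩) ⟨?_, ?_⟩)
  · intro a b hab
    apply Subtype.ext
    exact linChar_injective (congrArg Subtype.val hab)
  · rintro ⟨χ, hχB, h1, hH⟩
    have hχ1 := Cfsg.Agent.ThompsonDeg.one_of_charDegree h1
    refine ⟨⟨irrLinearHom χ hχ1, ?_, ?_⟩, ?_⟩
    · show linChar (irrLinearHom χ hχ1) ∈ principalBlock M G
      rw [linChar_irrLinearHom]; exact hχB
    · intro h hh
      apply Units.ext
      rw [irrLinearHom_apply, hH h hh]
      rfl
    · apply Subtype.ext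
      exact linChar_irrLinearHom χ hχ1

/-- If `p` does not divide the index of `H`, the group `linB0 M hM H` has order prime to `p`. -/
theorem not_dvd_card_linB0 [Finite G] (p : ℕ) [Fact p.Prime] (M : Ideal AlgInt) (hM : M.IsPrime)
    (H : Subgroup G) (hH : ¬ p ∣ H.index) : ¬ p ∣ Nat.card (linB0 M hM H) := by
  intro hdvd
  obtain ⟨f, hf⟩ := exists_prime_orderOf_dvd_card' (G := linB0 M hM H) p hdvd
  have hker : H ≤ (f : G →* ℂˣ).ker := fun h hh => f.2.2 h hh
  have hk : (f : G →* ℂˣ) ^ ((f : G →* ℂˣ).ker.index) = 1 := by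
    ext g
    rw [MonoidHom.pow_apply, ← map_pow]
    have : g ^ ((f : G →* ℂˣ).ker.index) ∈ (f : G →* ℂˣ).ker := Subgroup.pow_index_mem _ g
    rw [MonoidHom.mem_ker] at this
    rw [this]
    rfl
  have hdiv : p ∣ (f : G →* ℂˣ).ker.index := by
    have h1 : orderOf (f : G →* ℂˣ) ∣ (f : G →* ℂˣ).ker.index := orderOf_dvd_of_pow_eq_one hk
    rwa [Subgroup.orderOf_coe, hf] at h1
  exact hH (dvd_trans hdiv (Subgroup.index_dvd_of_le hker))

end IS

section Count

variable {G : Type u} [Group G] [Fintype G]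

theorem finsum_mem_eq_sum_filter_univ {α β : Type*} [Fintype α] [AddCommMonoid β] (s : Set α)
    [DecidablePred (· ∈ s)] (f : α → β) :
    ∑ᶠ i ∈ s, f i = ∑ i ∈ Finset.univ.filter (· ∈ s), f i := by
  rw [finsum_mem_eq_finite_toFinset_sum f (Set.toFinite s)]
  congr 1
  ext i
  simp

/-- Weak block orthogonality at the identity for the principal block. -/
theorem sum_principal_one_mul_conj {p : ℕ} {M : Ideal AlgInt} (hM : IsPModular p M) (y : G)
    (hy : p ∣ orderOf y) :
    ∑ᶠ χ ∈ principalBlock M G, (χ : G → ℂ) 1 * conj ((χ : G → ℂ) y) = 0 :=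
  Cfsg.Agent.H81.wbo_one hM (trivChar G) 1 y
    (by rw [orderOf_one]; exact fun h => hM.1.one_lt.ne' (Nat.dvd_one.mp h)) hy

/-- The counting congruence: for a `p`-subgroup `H`, the number `D = (∑_{χ ∈ B₀} χ(1)²) / |H|`
is congruent modulo `p` to the number of linear characters in `B₀` trivial on `H`, provided all
characters of degree prime to `p` in `B₀` are linear. -/
theorem exists_count_modEq {p : ℕ} [Fact p.Prime] {M : Ideal AlgInt} (hM : IsPModular p M)
    (hlin : ∀ χ : IrrCharacter G, χ ∈ principalBlock M G → ¬ p ∣ charDegree χ.1 →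
      charDegree χ.1 = 1)
    (H : Subgroup G) (hH : IsPGroup p H) :
    ∃ D : ℕ, D * Nat.card H = ∑ᶠ χ ∈ principalBlock M G, charDegree χ.1 ^ 2 ∧
      D ≡ Nat.card (linB0 M (isPrime_of_isPModular hM) H) [MOD p] := by
  classical
  letI := fintypeIrr G
  haveI : Fintype H := Fintype.ofFinite H
  have hp := (Fact.out : p.Prime)
  have htrivH : IsCharacter H (fun _ : H => (1 : ℂ)) :=
    isCharacter_of_isIrrCharacter (isIrrCharacter_one H)
  have hnat : ∀ χ : IrrCharacter G, ∃ n : ℕ,
      classInner (fun _ : H => (1 : ℂ)) (fun h : H => χ.1 h) = n :=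
    fun χ => classInner_isCharacter_nat htrivH
      (isCharacter_restrict H (isCharacter_of_isIrrCharacter χ.2))
  choose m hm using hnat
  have htriv : (Cfsg.Agent.H82.trivChar H).1 = fun _ : H => (1 : ℂ) :=
    funext (fun h => Cfsg.Agent.H82.trivChar_apply h)
  have hlin' : ∀ χ : IrrCharacter G, charDegree χ.1 = 1 →
      m χ = if (∀ h ∈ H, χ.1 h = 1) then 1 else 0 := by
    intro χ h1
    have hχ1 := Cfsg.Agent.ThompsonDeg.one_of_charDegree h1
    set f : H →* ℂˣ := (irrLinearHom χ hχ1).comp H.subtype with hf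
    have hres : (fun h : H => χ.1 h) = (linChar f).1 := by
      funext h
      rfl
    have hval : classInner (fun _ : H => (1 : ℂ)) (fun h : H => χ.1 h) =
        if (Cfsg.Agent.H82.trivChar H).1 = (linChar f).1 then 1 else 0 := by
      rw [hres, ← htriv]
      exact Cfsg.Agent.Clifford.classInner_irr_irr (Cfsg.Agent.H82.trivChar H).2 (linChar f).2
    have hiff : ((Cfsg.Agent.H82.trivChar H).1 = (linChar f).1) ↔ ∀ h ∈ H, χ.1 h = 1 := by
      constructor
      · intro heq h hh
        have h5 := congrFun heq ⟨h, hh⟩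
        rw [Cfsg.Agent.H82.trivChar_apply] at h5
        exact h5.symm
      · intro hall
        funext h
        rw [Cfsg.Agent.H82.trivChar_apply]
        exact (hall h h.2).symm
    have h4 : (m χ : ℂ) = if (∀ h ∈ H, χ.1 h = 1) then 1 else 0 := by
      rw [← hm χ, hval]
      by_cases hc : ∀ h ∈ H, χ.1 h = 1
      · rw [if_pos hc, if_pos (hiff.mpr hc)]
      · rw [if_neg hc, if_neg (fun h => hc (hiff.mp h))]
    by_cases hc : ∀ h ∈ H, χ.1 h = 1
    · rw [if_pos hc] at h4 ⊢
      exact_mod_cast h4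
    · rw [if_neg hc] at h4 ⊢
      exact_mod_cast h4
  obtain ⟨B, hB⟩ : ∃ B : Finset (IrrCharacter G),
      B = Finset.univ.filter (· ∈ principalBlock M G) := ⟨_, rfl⟩
  refine ⟨∑ χ ∈ B, m χ * charDegree χ.1, ?_, ?_⟩
  · rw [finsum_mem_eq_sum_filter_univ, ← hB]
    have hcardH : (Nat.card H : ℂ) ≠ 0 := by exact_mod_cast (Nat.card_pos (α := H)).ne'
    have key : ∑ χ ∈ B, (m χ : ℂ) * χ.1 1 =
        (Nat.card H : ℂ)⁻¹ * ∑ χ ∈ B, χ.1 1 * conj (χ.1 1) := by
      calc ∑ χ ∈ B, (m χ : ℂ) * χ.1 1
          = ∑ χ ∈ B, (Nat.card H : ℂ)⁻¹ * ∑ h : H, χ.1 1 * conj (χ.1 h) := by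
            refine Finset.sum_congr rfl fun χ _ => ?_
            rw [← hm χ]
            unfold classInner
            rw [mul_assoc, Finset.sum_mul]
            congr 1
            refine Finset.sum_congr rfl fun h _ => ?_
            ring
        _ = (Nat.card H : ℂ)⁻¹ * ∑ h : H, ∑ χ ∈ B, χ.1 1 * conj (χ.1 h) := by
            rw [← Finset.mul_sum, Finset.sum_comm]
        _ = (Nat.card H : ℂ)⁻¹ * ∑ χ ∈ B, χ.1 1 * conj (χ.1 1) := by
            congr 1
            rw [Finset.sum_eq_single (1 : H)]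
            · rfl
            · intro h _ hh1
              have h2 : p ∣ orderOf (h : G) := by
                obtain ⟨j, hj⟩ := hH h
                have hd : orderOf h ∣ p ^ j := orderOf_dvd_of_pow_eq_one hj
                obtain ⟨i, -, hi⟩ := (Nat.dvd_prime_pow hp).mp hd
                rw [Subgroup.orderOf_coe, hi]
                rcases Nat.eq_zero_or_pos i with h0 | hpos
                · exfalso
                  rw [h0, pow_zero, orderOf_eq_one_iff] at hi
                  exact hh1 hi
                · exact dvd_pow_self p hpos.ne'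
              have h3 := sum_principal_one_mul_conj hM (h : G) h2
              rw [finsum_mem_eq_sum_filter_univ, ← hB] at h3
              exact h3
            · intro hh
              exact absurd (Finset.mem_univ _) hh
    have h3 : (((∑ χ ∈ B, m χ * charDegree χ.1) * Nat.card H : ℕ) : ℂ) =
        ((∑ χ ∈ B, charDegree χ.1 ^ 2 : ℕ) : ℂ) := by
      push_cast
      have e1 : ∑ χ ∈ B, (m χ : ℂ) * (charDegree χ.1 : ℂ) = ∑ χ ∈ B, (m χ : ℂ) * χ.1 1 :=
        Finset.sum_congr rfl fun χ _ => by rw [irr_one_eq_charDegree]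
      have e2 : ∑ χ ∈ B, χ.1 1 * conj (χ.1 1) = ∑ χ ∈ B, (charDegree χ.1 : ℂ) ^ 2 :=
        Finset.sum_congr rfl fun χ _ => by rw [irr_one_eq_charDegree, Complex.conj_natCast, sq]
      rw [e1, key, e2]
      field_simp
    exact_mod_cast h3
  · rw [card_linB0, Nat.card_eq_fintype_card, Fintype.card_subtype, Finset.card_eq_sum_ones,
      Finset.sum_filter, ← ZMod.natCast_eq_natCast_iff]
    push_cast
    rw [hB, Finset.sum_filter]
    refine Finset.sum_congr rfl fun χ _ => ?_
    by_cases hχB : χ ∈ principalBlock M G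
    · rw [if_pos hχB]
      by_cases h1 : charDegree χ.1 = 1
      · rw [h1, hlin' χ h1]
        by_cases hc : ∀ h ∈ H, χ.1 h = 1 <;> simp [hχB, hc]
      · have h2 : ((charDegree χ.1 : ℕ) : ZMod p) = 0 := by
          rw [ZMod.natCast_eq_zero_iff]
          by_contra hnd
          exact h1 (hlin χ hχB hnd)
        rw [h2, mul_zero, if_neg (fun h => h1 h.2.1)]
    · rw [if_neg hχB, if_neg (fun h => hχB h.1)]

end Count

section Main

variable {G : Type u} [Group G] [Fintype G]

/-- **Isaacs–Smith**: if every irreducible character of degree prime to `p` in the principal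
`p`-block is linear, then `O^p(G)` meets a Sylow `p`-subgroup trivially. -/
theorem pResidual_inf_sylow_eq_bot_of_principal_linear {p : ℕ} [Fact p.Prime]
    {M : Ideal AlgInt} (hM : IsPModular p M)
    (hlin : ∀ χ : IrrCharacter G, χ ∈ principalBlock M G → ¬ p ∣ charDegree χ.1 →
      charDegree χ.1 = 1) (P : Sylow p G) :
    pResidual p G ⊓ (P : Subgroup G) = ⊥ := by
  classical
  have hp := (Fact.out : p.Prime)
  have hMp := isPrime_of_isPModular hM
  apply Cfsg.Agent.H2.tate_sylow P
  rintro x ⟨hxR, hxP⟩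
  refine ⟨⟨x, hxP⟩, ?_, rfl⟩
  show (⟨x, hxP⟩ : (P : Subgroup G)) ∈ frattini (P : Subgroup G)
  unfold frattini Order.radical
  rw [Subgroup.mem_iInf]
  intro M₀
  rw [Subgroup.mem_iInf]
  intro hM₀
  have hco : IsCoatom M₀ := hM₀
  set P₀ : Subgroup G := M₀.map (P : Subgroup G).subtype with hP₀
  have hP₀P : P₀ ≤ (P : Subgroup G) := by
    rw [hP₀]
    rintro _ ⟨y, -, rfl⟩
    exact y.2
  have hpM₀ : p ∣ M₀.index := by
    have h1 : M₀.index ≠ 1 := fun h => hco.1 (Subgroup.index_eq_one.mp h)
    have h2 : M₀.index ∣ Nat.card (P : Subgroup G) := Subgroup.index_dvd_card M₀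
    obtain ⟨k, hk⟩ := IsPGroup.iff_card.mp P.isPGroup'
    rw [hk] at h2
    obtain ⟨j, -, hj⟩ := (Nat.dvd_prime_pow hp).mp h2
    rw [hj] at h1 ⊢
    rcases Nat.eq_zero_or_pos j with h0 | h0
    · rw [h0, pow_zero] at h1
      exact absurd rfl h1
    · exact dvd_pow_self p h0.ne'
  obtain ⟨D₁, hD₁, -⟩ := exists_count_modEq hM hlin (P : Subgroup G) P.isPGroup'
  obtain ⟨D₀, hD₀, hD₀mod⟩ := exists_count_modEq hM hlin P₀ (P.isPGroup'.to_le hP₀P)
  have hcard : Nat.card (P : Subgroup G) = Nat.card P₀ * M₀.index := by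
    rw [hP₀, Subgroup.card_subtype, Subgroup.card_mul_index]
  have hD : D₀ = D₁ * M₀.index := by
    have h1 : D₀ * Nat.card P₀ = D₁ * M₀.index * Nat.card P₀ := by
      rw [hD₀, ← hD₁, hcard]; ring
    exact Nat.eq_of_mul_eq_mul_right Nat.card_pos h1
  have hpD₀ : p ∣ D₀ := by rw [hD]; exact Dvd.dvd.mul_left hpM₀ _
  have hpcard : p ∣ Nat.card (linB0 M hMp P₀) :=
    (Nat.ModEq.dvd_iff hD₀mod (dvd_refl p)).mp hpD₀
  have hnot := not_dvd_card_linB0 p M hMp (P : Subgroup G) P.not_dvd_index
  obtain ⟨f, hfP₀, hfP⟩ : ∃ f : G →* ℂˣ, f ∈ linB0 M hMp P₀ ∧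
      f ∉ linB0 M hMp (P : Subgroup G) := by
    by_contra hcon
    push Not at hcon
    have heq : linB0 M hMp P₀ = linB0 M hMp (P : Subgroup G) := by
      apply le_antisymm
      · exact fun f hf => hcon f hf
      · intro f hf
        exact ⟨hf.1, fun h hh => hf.2 h (hP₀P hh)⟩
    rw [heq] at hpcard
    exact hnot hpcard
  set A : Subgroup G := f.ker with hAdef
  have hAcomm : commutator G ≤ A := Abelianization.commutator_subset_ker f
  have hP₀A : P₀ ≤ A := fun h hh => MonoidHom.mem_ker.mpr (hfP₀.2 h hh)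
  have hPA : ¬ (P : Subgroup G) ≤ A := by
    intro hle
    exact hfP ⟨hfP₀.1, fun h hh => MonoidHom.mem_ker.mp (hle hh)⟩
  set B : Subgroup (P : Subgroup G) := (A ⊓ (P : Subgroup G)).subgroupOf (P : Subgroup G) with hB
  have hM₀B : M₀ ≤ B := by
    intro y hy
    rw [hB, Subgroup.mem_subgroupOf]
    exact ⟨hP₀A (Subgroup.mem_map_of_mem _ hy), y.2⟩
  have hBtop : B ≠ ⊤ := by
    intro hBt
    apply hPA
    intro z hz
    have h1 : (⟨z, hz⟩ : (P : Subgroup G)) ∈ B := by rw [hBt]; trivial
    rw [hB, Subgroup.mem_subgroupOf] at h1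
    exact h1.1
  have hBM : B = M₀ := (hco.le_iff.mp hM₀B).resolve_left hBtop
  rw [← hBM, hB, Subgroup.mem_subgroupOf]
  refine ⟨?_, hxP⟩
  obtain ⟨m, hm, hxm⟩ := Cfsg.Agent.ThompsonDeg.exists_coprime_pow_mem A hAcomm hxR
  refine Cfsg.Agent.H53.mem_of_pow_mem_of_coprime ?_ hxm
  obtain ⟨j, hj⟩ := (IsPGroup.iff_orderOf.mp P.isPGroup') ⟨x, hxP⟩
  have hord : orderOf x = p ^ j := by
    rw [← hj]
    exact (Subgroup.orderOf_mk x hxP).symm
  rw [hord]
  exact Nat.Coprime.pow_right j hm

/-- **Isaacs–Smith**: if every irreducible character of degree prime to `p` in the principal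
`p`-block is linear, then `G` has a normal `p`-complement. -/
theorem normal_complement_of_principal_linear {p : ℕ} [Fact p.Prime]
    {M : Ideal AlgInt} (hM : IsPModular p M)
    (hlin : ∀ χ : IrrCharacter G, χ ∈ principalBlock M G → ¬ p ∣ charDegree χ.1 →
      charDegree χ.1 = 1) : HasNormalPComplement p G := by
  classical
  have hp := (Fact.out : p.Prime)
  obtain ⟨P⟩ := (inferInstance : Nonempty (Sylow p G))
  have hbot := pResidual_inf_sylow_eq_bot_of_principal_linear hM hlin P
  haveI hn : (pResidual p G).Normal := Cfsg.Agent.H2.pResidual_normal p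
  refine ⟨P, pResidual p G, hn, ?_⟩
  obtain ⟨k, hk⟩ := IsPGroup.iff_card.mp (Cfsg.Agent.H2.isPGroup_quotient_pResidual (G := G) p)
  rw [← Subgroup.index_eq_card] at hk
  have hdisj : Disjoint (pResidual p G) (P : Subgroup G) := disjoint_iff.mpr hbot
  -- the order of `O^p(G)` is prime to `p`
  have hcop : (Nat.card (pResidual p G)).Coprime p := by
    rw [Nat.coprime_comm, Nat.Prime.coprime_iff_not_dvd hp]
    intro hdvd
    obtain ⟨y, hy⟩ := exists_prime_orderOf_dvd_card' (G := pResidual p G) p hdvd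
    -- a `p`-element of `O^p(G)` lies in a conjugate of `P`
    have hyG : orderOf (y : G) = p := by rw [Subgroup.orderOf_coe]; exact hy
    have hz : IsPGroup p (Subgroup.zpowers (y : G)) := by
      rw [IsPGroup.iff_card, Nat.card_zpowers, hyG]
      exact ⟨1, (pow_one p).symm⟩
    obtain ⟨g, hg⟩ := hz.exists_le_sylow
    obtain ⟨c, hc⟩ := MulAction.exists_smul_eq G P g
    have hyg : (y : G) ∈ (g : Subgroup G) := hg (Subgroup.mem_zpowers _)
    rw [← hc, Sylow.coe_subgroup_smul, Subgroup.mem_pointwise_smul_iff_inv_smul_mem] at hyg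
    have hyg' : c⁻¹ * (y : G) * c ∈ (P : Subgroup G) := by
      simpa [MulAut.smul_def] using hyg
    have hmem : c⁻¹ * (y : G) * c ∈ pResidual p G ⊓ (P : Subgroup G) := by
      refine ⟨?_, hyg'⟩
      have := hn.conj_mem (y : G) y.2 c⁻¹
      simpa using this
    rw [hbot, Subgroup.mem_bot] at hmem
    have hy1 : (y : G) = 1 := by
      have h1 : (y : G) = c * (c⁻¹ * (y : G) * c) * c⁻¹ := by group
      rw [h1, hmem]
      group
    rw [hy1, orderOf_one] at hyG
    exact hp.one_lt.ne' hyG.symm
  have hcardP : Nat.card (P : Subgroup G) = p ^ k := by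
    rw [Sylow.card_eq_multiplicity]
    congr 1
    rw [← Subgroup.card_mul_index (pResidual p G), hk,
      Nat.factorization_mul Nat.card_pos.ne' (pow_ne_zero k hp.ne_zero),
      Nat.Prime.factorization_pow hp, Finsupp.add_apply,
      Nat.factorization_eq_zero_of_not_dvd ((Nat.Prime.coprime_iff_not_dvd hp).mp hcop.symm)]
    simp
  apply Subgroup.isComplement'_of_coprime
  · rw [hcardP, ← hk, Subgroup.card_mul_index]
  · rw [hcardP]
    exact Nat.Coprime.pow_right k hcop

end Main

section Height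

variable {G : Type u} [Group G] [Fintype G]

theorem trivChar_mem_principalBlock {p : ℕ} {M : Ideal AlgInt} (hM : IsPModular p M) :
    trivChar G ∈ principalBlock M G :=
  Cfsg.Agent.H81.mem_blockOf_self hM (trivChar G)

theorem charDegree_trivChar' : charDegree (trivChar G : G → ℂ) = 1 := by
  have h := irr_one_eq_charDegree (trivChar G)
  rw [trivChar_apply] at h
  exact_mod_cast h.symm

/-- In the principal block, the minimal `p`-part of a degree is `1`. -/
theorem sInf_principal_eq_zero {p : ℕ} {M : Ideal AlgInt} (hM : IsPModular p M) :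
    sInf ((fun ψ : IrrCharacter G => (charDegree (ψ : G → ℂ)).factorization p) ''
      principalBlock M G) = 0 := by
  apply Nat.sInf_eq_zero.mpr
  left
  refine ⟨trivChar G, trivChar_mem_principalBlock hM, ?_⟩
  show (charDegree (trivChar G : G → ℂ)).factorization p = 0
  rw [charDegree_trivChar']
  simp

/-- **Isaacs–Smith**: all height-zero characters of the principal block have the same degree
iff `G` has a normal `p`-complement. -/
theorem height_zero_same_degree_iff {p : ℕ} [Fact p.Prime] {M : Ideal AlgInt}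
    (hM : IsPModular p M) :
    (∃ d : ℕ, ∀ χ : IrrCharacter G, χ ∈ principalBlock M G →
      blockHeight p (principalBlock M G) (χ : G → ℂ) = 0 → charDegree (χ : G → ℂ) = d) ↔
    HasNormalPComplement p G := by
  have hp := (Fact.out : p.Prime)
  have hsInf := sInf_principal_eq_zero (G := G) hM
  have hheight : ∀ χ : IrrCharacter G, blockHeight p (principalBlock M G) (χ : G → ℂ) =
      (charDegree (χ : G → ℂ)).factorization p := by
    intro χ
    unfold blockHeight
    rw [hsInf, Nat.sub_zero]
  constructor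
  · rintro ⟨d, hd⟩
    have hd1 : d = 1 := by
      rw [← hd (trivChar G) (trivChar_mem_principalBlock hM)
        (by rw [hheight, charDegree_trivChar']; simp), charDegree_trivChar']
    apply normal_complement_of_principal_linear hM
    intro χ hχ hndvd
    rw [← hd1]
    exact hd χ hχ (by rw [hheight]; exact Nat.factorization_eq_zero_of_not_dvd hndvd)
  · rintro ⟨P, N, hN, hNP⟩
    haveI := hN
    refine ⟨1, fun χ hχ hh => ?_⟩
    rw [hheight] at hh
    have hcop : (Nat.card N).Coprime p := by
      rw [← hNP.index_eq_card]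
      exact (Nat.Coprime.symm ((Nat.Prime.coprime_iff_not_dvd hp).2 P.not_dvd_index))
    have hker := Cfsg.Agent.S4611.ker_of_mem_principalBlock p hM N hcop χ hχ
    have hle : N ≤ irrKer χ := fun k hk => (mem_irrKer χ k).mpr (hker k hk)
    have hidx : N.index = Nat.card (P : Subgroup G) := hNP.symm.index_eq_card
    obtain ⟨k, hk⟩ := (IsPGroup.iff_card).1 P.isPGroup'
    have hdvd : charDegree (χ : G → ℂ) ∣ p ^ k := by
      rw [← hk, ← hidx]
      exact dvd_trans (charDegree_dvd_index_irrKer χ) (Subgroup.index_dvd_of_le hle)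
    obtain ⟨j, -, hj⟩ := (Nat.dvd_prime_pow hp).mp hdvd
    rw [hj, Nat.Prime.factorization_pow hp] at hh
    have hj0 : j = 0 := by simpa using hh
    rw [hj, hj0, pow_zero]

end Height

end Cfsg.Agent.H83
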