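import Cfsg.Agent.H59.JzKillDefs
import Cfsg.Agent.H52.SrMain
import Cfsg.Agent.H32.SrVNG
import Cfsg.Agent.H59.SpLE
import Cfsg.Agent.S2948
import Cfsg.Agent.S2950
import Cfsg.Agent.Helper55.J48
import Cfsg.Agent.H83.JzConj

/-!
# JZ-KILL (S2951 / S2952), piece K-CENT: `C_G(u) ≤ N_G(V)` for `1 ≠ u ∈ V = Ω₁Z(O₂(L))`

Route: the `S₃^r` picture of `V` (helper52's `Sr.struct`, with `T := S`): `V = ⨆ W_i`; each
`K_i` is transitive on `W_i ∖ 1` and `Z₀ ⊓ W_i ≠ 1` (S2946), so `u` is conjugate under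
`⨆ K_i ≤ L` to some `u' ∈ Z₀ = Ω₁Z(J(S))`; `C_G(u')` lies in a 2-local over `J(S)`, hence in
`L` (second clause of `RCtx`); and `L ≤ N_G(V)`.
-/

set_option autoImplicit false
set_option linter.style.haveILetI false
open Cfsg

universe u

namespace Cfsg.Agent.H83.Jk

open Cfsg.Agent.H64.Jz Cfsg.Agent.H59.JzK

/-- in a subgroup of order 2 two non-identity elements are equal -/
theorem eq_of_card_two83 {G : Type u} [Group G] (H : Subgroup G) (h : Nat.card ↥H = 2) {a b : G}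
    (ha : a ∈ H) (hb : b ∈ H) (ha1 : a ≠ 1) (hb1 : b ≠ 1) : a = b := by
  obtain ⟨y, -, hy⟩ := (Nat.card_eq_two_iff' (1 : ↥H)).mp h
  have h1 : (⟨a, ha⟩ : ↥H) = y := hy _ (fun h0 => ha1 (congrArg Subtype.val h0))
  have h2 : (⟨b, hb⟩ : ↥H) = y := hy _ (fun h0 => hb1 (congrArg Subtype.val h0))
  exact congrArg Subtype.val (h1.trans h2.symm)

/-- `N_G(⟨u⟩)` is a 2-local for an involution `u`. -/
theorem twoLocal_zpowers {G : Type u} [Group G] {x : G} (hx1 : x ≠ 1) (hx2 : x ^ 2 = 1) :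
    IsTwoLocal (Subgroup.normalizer ((Subgroup.zpowers x : Subgroup G) : Set G)) := by
  refine ⟨Subgroup.zpowers x, ?_, ?_, rfl⟩
  · rintro ⟨y, hy⟩
    refine ⟨1, ?_⟩
    apply Subtype.ext
    obtain ⟨k, rfl⟩ := Subgroup.mem_zpowers_iff.mp hy
    show (x ^ k) ^ (2 ^ 1) = 1
    rw [pow_one, ← zpow_natCast, ← zpow_mul, mul_comm, zpow_mul, zpow_natCast, hx2, one_zpow]
  · intro h
    exact hx1 (Subgroup.zpowers_eq_bot.mp h)

/-- `C_G(u) ≤ N_G(⟨u⟩)`. -/
theorem centralizer_le_normalizer_zpowers {G : Type u} [Group G] (x : G) :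
    Subgroup.centralizer ({x} : Set G) ≤
      Subgroup.normalizer ((Subgroup.zpowers x : Subgroup G) : Set G) := by
  intro g hg
  have hgx : g * x = x * g :=
    (Subgroup.mem_centralizer_iff.mp hg x (Set.mem_singleton x)).symm
  rw [Subgroup.mem_normalizer_iff]
  intro y
  have key : ∀ k : ℤ, g * x ^ k * g⁻¹ = x ^ k := by
    intro k
    have hc : Commute g (x ^ k) := (show Commute g x from hgx).zpow_right k
    rw [hc.eq, mul_inv_cancel_right]
  constructor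
  · intro hy
    obtain ⟨k, rfl⟩ := Subgroup.mem_zpowers_iff.mp hy
    rw [key]; exact Subgroup.zpow_mem_zpowers x k
  · intro hy
    obtain ⟨k, hk⟩ := Subgroup.mem_zpowers_iff.mp hy
    have : y = x ^ k := by
      have h1 : y = g⁻¹ * (g * y * g⁻¹) * g := by group
      rw [h1, ← hk]
      have hc : Commute g (x ^ k) := (show Commute g x from hgx).zpow_right k
      rw [mul_assoc, ← hc.eq, inv_mul_cancel_left]
    rw [this]; exact Subgroup.zpow_mem_zpowers x k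

/-- The statement S2946, verbatim, as a closed Prop (to avoid importing `Cfsg.Agent.S2946`,
whose closure clashes with the S2950 chain). -/
def St46 : Prop := ∀ {G : Type u} [Group G] [Finite G] (_hL : Cfsg.IsCharacteristicTwoType G)
    (_hN : ∀ N : Subgroup G, Cfsg.IsTwoLocal N → Group.IsSolvable ↥N)
    (_hZ : ∀ S : Sylow 2 G, Subgroup.centralizer (Cfsg.omegaCenterOf (S : Subgroup G) : Set G) ≤
      Subgroup.normalizer ((S : Subgroup G) : Set G)) (T : Subgroup G) (_hT : IsPGroup 2 ↥T)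
    (_hT1 : T ≠ ⊥) (K : Subgroup G) (_hK : Cfsg.IsJComponent T K)
    (Z₀ : Subgroup G) (_hZ₀ : Z₀ = Cfsg.omegaCenterOf (Cfsg.thompsonSubgroupOf 2 T)),
    Nat.card ↥(Z₀ ⊓ Cfsg.wOf K) = 2 ∧
      (Z₀ ⊓ ((K ⊔ Cfsg.thompsonSubgroupOf 2 T) ⊓
        Subgroup.centralizer ((K ⊔ Cfsg.thompsonSubgroupOf 2 T) : Set G))) ⊔
          (Z₀ ⊓ Cfsg.wOf K) = Z₀

/-- K-CENT (with S2946 and `hZ2` as hypotheses). -/
theorem kCent_of (h46 : St46.{u}) (hZ2 : StZ2.{u}) : StKCent.{u} := by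
  intro G _ _ S M K L T' K' L' hR _ha u hu hu1
  obtain ⟨hB, hX, hB', hT'ne⟩ := hR
  have hcardZ : Nat.card ↥(omegaCenterOf (S : Subgroup G)) = 2 := hZ2 S L T' K' L' hB' hT'ne
  obtain ⟨hZN, hO, hM, hMJ, hT, -, hK, hLmax, hKL⟩ := hB
  obtain ⟨hc2, hsolv, hZ⟩ := hZN
  have : Fact (Nat.Prime 2) := ⟨Nat.prime_two⟩
  have hS2 : IsPGroup 2 ↥(S : Subgroup G) := S.isPGroup'
  have hSne : (S : Subgroup G) ≠ ⊥ := hT.1.2.1
  have hJle : thompsonSubgroupOf 2 (S : Subgroup G) ≤ (S : Subgroup G) :=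
    Subgroup.map_subtype_le _
  obtain ⟨L₀, hL₀max, hKL₀, huniq, -, hSyl₀⟩ :=
    Cfsg.Agent.S2950.result hc2 hsolv hZ hO S M hM hMJ (S : Subgroup G) hT K hK
  have hLL₀ : L = L₀ := huniq L hLmax hKL
  have hSyl : IsSylowTwoIn (S : Subgroup G) L := by rw [hLL₀]; exact hSyl₀
  have hL2 : IsTwoLocal L := hLmax.1
  have hLM : ¬ L ≤ M := fun h => hK.2.1 ((le_sup_left.trans hKL).trans h)
  have h48 := Cfsg.Agent.S2948.result hc2 hsolv hZ hO S M hM hMJ (S : Subgroup G) hT L hL2 hLM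
    (S : Subgroup G) hSyl hJle
  have hLS : L ∈ jOvergroups (S : Subgroup G) := h48.2.2.1
  have hKc : IsJComponent (S : Subgroup G) K := hK.1.1
  have hKleL : K ≤ L := le_sup_left.trans hKL
  obtain ⟨hLN, hVexp, hVQ, hQL, hQ2⟩ := Cfsg.Agent.H32.Sr.vng (G := G) L
  have hQS : pCoreOf 2 L ≤ (S : Subgroup G) :=
    Cfsg.Agent.Helper55.J48.pCoreOf_le_of_sylowIn hSyl
  -- `C_V(S) ∩ C_V(K) = 1`
  have hfix : ∀ v ∈ omegaCenterOf (pCoreOf 2 L),
      v ∈ Subgroup.centralizer ((S : Subgroup G) : Set G) →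
      v ∈ Subgroup.centralizer (K : Set G) → v = 1 := by
    intro v hv hvS hvK
    by_contra hv1
    obtain ⟨hvQ, -, hv2⟩ := Cfsg.Agent.H63.Sn.mem_omegaCenterOf _ hv
    have hvZ : v ∈ omegaCenterOf (S : Subgroup G) :=
      Cfsg.Agent.H63.Sn.omegaCenterOf_mem _ (hQS hvQ) hvS hv2
    have hKZ : K ≤ Subgroup.centralizer (omegaCenterOf (S : Subgroup G) : Set G) := by
      intro k hk
      rw [Subgroup.mem_centralizer_iff]
      intro z hz
      by_cases hz1 : z = 1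
      · rw [hz1, one_mul, mul_one]
      · have hzv : z = v := eq_of_card_two83 _ hcardZ hz hvZ hz1 hv1
        rw [hzv]
        exact ((Subgroup.mem_centralizer_iff.mp hvK) k hk).symm
    have hKN : K ≤ Subgroup.normalizer ((S : Subgroup G) : Set G) := hKZ.trans (hZ S)
    have hKS : K ≤ (S : Subgroup G) := by
      rw [← hKc.2.1, Subgroup.commutator_le]
      intro k hk' j hj
      have hjS : j ∈ (S : Subgroup G) := hJle hj
      have h1 := (Subgroup.mem_normalizer_iff.mp (hKN hk') j).mp hjS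
      rw [commutatorElement_def]
      exact Subgroup.mul_mem _ h1 (Subgroup.inv_mem _ hjS)
    have hKbot : K = ⊥ := by
      rw [← hKc.1, Subgroup.closure_eq_bot_iff]
      intro g hg
      rw [Set.mem_singleton_iff]
      obtain ⟨n, hn⟩ := (IsPGroup.iff_orderOf.mp hS2) ⟨g, hKS hg.1⟩
      have h1 : orderOf g = 2 ^ n := by rw [← hn, Subgroup.orderOf_mk]
      rcases Nat.eq_zero_or_pos n with h0 | hpos
      · rw [h0, pow_zero] at h1
        exact orderOf_eq_one_iff.mp h1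
      · exfalso
        have hev : Even (orderOf g) := by
          rw [h1]; exact (Nat.even_pow.mpr ⟨even_two, hpos.ne'⟩)
        exact (Nat.not_even_iff_odd.mpr hg.2) hev
    have h3 := hKc.2.2.1
    rw [hKbot, Subgroup.relIndex_bot_right] at h3
    exact absurd h3 (by norm_num)
  -- the `S₃^r` picture
  obtain ⟨hsup, -, hcomp, -, hcentW, hfixW⟩ :=
    Cfsg.Agent.H52.Sr.struct hc2 hsolv hZ (S : Subgroup G) hS2 hSne L hLS K hKc hKleL hfix
  have htrans : ∀ i : Cfsg.Agent.H52.Sr.Orb (S : Subgroup G) K, ∀ w ∈ wOf i.1,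
      ∃ k ∈ i.1, k * w * k⁻¹ ∈
        omegaCenterOf (thompsonSubgroupOf 2 (S : Subgroup G)) ⊓ wOf i.1 := by
    intro i
    obtain ⟨hci, hiL, hcard4⟩ := hcomp i
    have h46 := (h46 hc2 hsolv hZ (S : Subgroup G) hS2 hSne i.1 hci
      (omegaCenterOf (thompsonSubgroupOf 2 (S : Subgroup G))) rfl).1
    have hZne : omegaCenterOf (thompsonSubgroupOf 2 (S : Subgroup G)) ⊓ wOf i.1 ≠ ⊥ := by
      intro h
      rw [h, Subgroup.card_bot] at h46
      exact absurd h46 (by norm_num)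
    exact Cfsg.Agent.H83.JzConj.trans_of_odd hci.2.2.2.2.2 hcard4
      (Subgroup.le_normalizer.trans (Cfsg.Agent.H59.Sp.le i.1)) hci.1 (hfixW i) hZne
  have hcomm : ∀ i j : Cfsg.Agent.H52.Sr.Orb (S : Subgroup G) K,
      ∀ a ∈ wOf i.1, ∀ b ∈ wOf j.1, a * b = b * a := by
    intro i j a ha b hb
    have haV : a ∈ omegaCenterOf (pCoreOf 2 L) := by
      rw [← hsup]
      exact Subgroup.mem_iSup_of_mem i ha
    have hbV : b ∈ omegaCenterOf (pCoreOf 2 L) := by
      rw [← hsup]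
      exact Subgroup.mem_iSup_of_mem j hb
    obtain ⟨-, h2, -⟩ := Cfsg.Agent.H63.Sn.mem_omegaCenterOf _ haV
    obtain ⟨h1', -, -⟩ := Cfsg.Agent.H63.Sn.mem_omegaCenterOf _ hbV
    exact ((Subgroup.mem_centralizer_iff.mp h2) b h1').symm
  have hcent : ∀ i j : Cfsg.Agent.H52.Sr.Orb (S : Subgroup G) K, i ≠ j →
      ∀ w ∈ wOf i.1, ∀ k ∈ j.1, k * w = w * k := by
    intro i j hij w hw k hk
    exact (Subgroup.mem_centralizer_iff.mp (hcentW i j hij hw)) k hk
  have huV : u ∈ ⨆ i : Cfsg.Agent.H52.Sr.Orb (S : Subgroup G) K, wOf i.1 := by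
    rw [hsup]; exact hu
  obtain ⟨k, hk, hku⟩ := Cfsg.Agent.H83.JzConj.conj_into
    (fun i : Cfsg.Agent.H52.Sr.Orb (S : Subgroup G) K => wOf i.1) (fun i => i.1)
    (omegaCenterOf (thompsonSubgroupOf 2 (S : Subgroup G))) hcomm hcent htrans huV
  have hkL : k ∈ L := by
    have hle : (⨆ i : Cfsg.Agent.H52.Sr.Orb (S : Subgroup G) K, i.1) ≤ L :=
      iSup_le fun i => (hcomp i).2.1
    exact hle hk
  have hu'1 : k * u * k⁻¹ ≠ 1 := by
    intro h
    apply hu1
    have : u = k⁻¹ * (k * u * k⁻¹) * k := by group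
    rw [this, h]; group
  obtain ⟨-, hu'C, hu'2⟩ := Cfsg.Agent.H63.Sn.mem_omegaCenterOf _ hku.1
  -- `C_G(u') ≤ L`
  have hXu : IsTwoLocal (Subgroup.normalizer
      ((Subgroup.zpowers (k * u * k⁻¹) : Subgroup G) : Set G)) := twoLocal_zpowers hu'1 hu'2
  have hJX : thompsonSubgroupOf 2 (S : Subgroup G) ≤ Subgroup.normalizer
      ((Subgroup.zpowers (k * u * k⁻¹) : Subgroup G) : Set G) := by
    intro j hj
    apply centralizer_le_normalizer_zpowers
    rw [Subgroup.mem_centralizer_iff]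
    intro y hy
    rw [Set.mem_singleton_iff] at hy
    rw [hy]
    exact ((Subgroup.mem_centralizer_iff.mp hu'C) j hj).symm
  have hCu' : Subgroup.centralizer ({k * u * k⁻¹} : Set G) ≤ L :=
    (centralizer_le_normalizer_zpowers _).trans (hX _ hXu hJX)
  -- `C_G(u) ≤ L ≤ N_G(V)`
  intro g hg
  have hgu : g * u = u * g :=
    (Subgroup.mem_centralizer_iff.mp hg u (Set.mem_singleton u)).symm
  have h1 : k * g * k⁻¹ ∈ Subgroup.centralizer ({k * u * k⁻¹} : Set G) := by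
    rw [Subgroup.mem_centralizer_iff]
    intro y hy
    rw [Set.mem_singleton_iff] at hy
    rw [hy]
    calc k * u * k⁻¹ * (k * g * k⁻¹) = k * (u * g) * k⁻¹ := by group
      _ = k * (g * u) * k⁻¹ := by rw [hgu]
      _ = k * g * k⁻¹ * (k * u * k⁻¹) := by group
  have h2 : k * g * k⁻¹ ∈ L := hCu' h1
  have h3 : g ∈ L := by
    have : g = k⁻¹ * (k * g * k⁻¹) * k := by group
    rw [this]
    exact L.mul_mem (L.mul_mem (L.inv_mem hkL) h2) hkL
  exact hLN h3

example (h46 : St46.{u}) (hZ2 : StZ2.{u}) : Cfsg.Agent.H59.JzK.StKCent.{u} := kCent_of h46 hZ2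

end Cfsg.Agent.H83.Jk

#print axioms Cfsg.Agent.H83.Jk.kCent_of
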