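import Mathlib
import Cfsg.Agent.H29.R1Out
import Cfsg.Agent.H83.JzConj

/-!
# S2953 / JX (X5, KB-NORM): abstract glue between the interface facts and `r1_out_core`

Mathlib-only statements.  `three_cosets`: coset decomposition for a normal subgroup of index 3.
`exists_order3`: an element of order dividing 3 outside `L`.  `inv_k`: a 2-element outside
`Q = O₂(KT)` inverts `k` modulo `O`.  `kb_abs`: the abstract form of KB-NORM.
-/

set_option autoImplicit false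

namespace Cfsg.Agent.H83.Jx

universe u
variable {G : Type u} [Group G]

/-- coset decomposition for a normal subgroup of index 3 -/
theorem three_cosets [Finite G] (K O : Subgroup G)
    (hn : K ≤ Subgroup.normalizer (O : Set G)) (h3 : O.relIndex K = 3)
    (g : G) (hg : g ∈ K) (hgO : g ∉ O) :
    ∀ h ∈ K, h ∈ O ∨ h * g⁻¹ ∈ O ∨ h * g ∈ O := by
  classical
  intro h hh
  have hN : (O.subgroupOf K).Normal := Subgroup.normal_subgroupOf_of_le_normalizer hn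
  have hcard : Nat.card (↥K ⧸ O.subgroupOf K) = 3 := h3
  obtain ⟨a, ha⟩ : ∃ a : ↥K ⧸ O.subgroupOf K, a = QuotientGroup.mk ⟨g, hg⟩ := ⟨_, rfl⟩
  obtain ⟨b, hb⟩ : ∃ b : ↥K ⧸ O.subgroupOf K, b = QuotientGroup.mk ⟨h, hh⟩ := ⟨_, rfl⟩
  have ha1 : a ≠ 1 := by
    intro h1
    rw [ha, QuotientGroup.eq_one_iff] at h1
    exact hgO h1
  have ha3 : a ^ 3 = 1 := by
    have := pow_card_eq_one' (G := ↥K ⧸ O.subgroupOf K) (x := a)
    rwa [hcard] at this
  have hainv : a⁻¹ ≠ 1 := fun h1 => ha1 (inv_eq_one.mp h1)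
  have haa : a ≠ a⁻¹ := by
    intro h1
    have h2 : a * a = 1 := by
      nth_rewrite 2 [h1]; exact mul_inv_cancel a
    apply ha1
    have h4 : a ^ 3 = a * a * a := by rw [pow_succ, pow_two]
    rw [h4, h2, one_mul] at ha3
    exact ha3
  have hb3 : b = 1 ∨ b = a ∨ b = a⁻¹ := by
    by_contra hcon
    rw [not_or, not_or] at hcon
    obtain ⟨hb1, hb2, hb3⟩ := hcon
    haveI : Fintype (↥K ⧸ O.subgroupOf K) := Fintype.ofFinite _
    have hc : ({1, a, a⁻¹, b} : Finset (↥K ⧸ O.subgroupOf K)).card = 4 := by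
      rw [Finset.card_insert_of_notMem, Finset.card_insert_of_notMem,
        Finset.card_insert_of_notMem, Finset.card_singleton]
      · simp only [Finset.mem_singleton]
        exact fun h => hb3 h.symm
      · simp only [Finset.mem_insert, Finset.mem_singleton, not_or]
        exact ⟨haa, fun h => hb2 h.symm⟩
      · simp only [Finset.mem_insert, Finset.mem_singleton, not_or]
        exact ⟨fun h => ha1 h.symm, fun h => hainv h.symm, fun h => hb1 h.symm⟩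
    have hle := Finset.card_le_univ ({1, a, a⁻¹, b} : Finset (↥K ⧸ O.subgroupOf K))
    rw [hc, ← Nat.card_eq_fintype_card, hcard] at hle
    omega
  rcases hb3 with h1 | h1 | h1
  · left
    rw [hb, QuotientGroup.eq_one_iff] at h1
    exact h1
  · right; left
    rw [hb, ha, QuotientGroup.eq_iff_div_mem] at h1
    have h2 : ((⟨h, hh⟩ / ⟨g, hg⟩ : ↥K) : G) ∈ O := h1
    simpa [div_eq_mul_inv] using h2
  · right; right
    have h2 : b * a = 1 := by rw [h1]; exact inv_mul_cancel a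
    rw [hb, ha, ← QuotientGroup.mk_mul, QuotientGroup.eq_one_iff] at h2
    exact h2

/-- an element of `K` outside `L` with `k ^ 3 = 1` -/
theorem exists_order3 [Finite G] (K O L : Subgroup G)
    (hn : K ≤ Subgroup.normalizer (O : Set G)) (h3 : O.relIndex K = 3) (hO2 : IsPGroup 2 ↥O)
    (hgen : Subgroup.closure {g : G | g ∈ K ∧ Odd (orderOf g)} = K) (hKL : ¬ K ≤ L) :
    ∃ k ∈ K, k ∉ L ∧ k ^ 3 = 1 := by
  by_contra hcon
  apply hKL
  rw [← hgen, Subgroup.closure_le]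
  rintro g ⟨hgK, hodd⟩
  by_contra hgL
  have hgL' : g ∉ L := hgL
  apply hcon
  refine ⟨g, hgK, hgL', ?_⟩
  have hN : (O.subgroupOf K).Normal := Subgroup.normal_subgroupOf_of_le_normalizer hn
  have hcard : Nat.card (↥K ⧸ O.subgroupOf K) = 3 := h3
  have h1 : (QuotientGroup.mk (⟨g, hgK⟩ : ↥K) : ↥K ⧸ O.subgroupOf K) ^ 3 = 1 := by
    have := pow_card_eq_one' (G := ↥K ⧸ O.subgroupOf K)
      (x := (QuotientGroup.mk (⟨g, hgK⟩ : ↥K) : ↥K ⧸ O.subgroupOf K))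
    rwa [hcard] at this
  rw [← QuotientGroup.mk_pow, QuotientGroup.eq_one_iff] at h1
  have h2 : g ^ 3 ∈ O := by
    have h2' : (((⟨g, hgK⟩ : ↥K) ^ 3 : ↥K) : G) ∈ O := h1
    simpa using h2'
  obtain ⟨n, hn2⟩ := hO2 ⟨g ^ 3, h2⟩
  have h4 : (g ^ 3) ^ (2 ^ n) = 1 := by
    have := congrArg Subtype.val hn2
    simpa using this
  have h5 : (g ^ 3) ^ orderOf g = 1 := by
    rw [← pow_mul, mul_comm, pow_mul, pow_orderOf_eq_one, one_pow]
  have hcop : Nat.gcd (2 ^ n) (orderOf g) = 1 :=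
    Nat.Coprime.pow_left n (Nat.coprime_two_left.mpr hodd)
  have h6 : (g ^ 3) ^ Nat.gcd (2 ^ n) (orderOf g) = 1 := pow_gcd_eq_one.mpr ⟨h4, h5⟩
  rw [hcop, pow_one] at h6
  exact h6

/-- a 2-element of `T` outside `Q` inverts `k` modulo `O` -/
theorem inv_k [Finite G] (K T O Q : Subgroup G)
    (hn : K ≤ Subgroup.normalizer (O : Set G)) (h3 : O.relIndex K = 3)
    (hTO : ∀ t ∈ T, ∀ o ∈ O, t * o * t⁻¹ ∈ O) (hTK : ∀ t ∈ T, ∀ g ∈ K, t * g * t⁻¹ ∈ K)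
    (hOT : O ≤ T) (hQT : Q ≤ T) (hKQ : ∀ g ∈ K, ∀ q ∈ Q, g * q * g⁻¹ ∈ Q)
    (hidx : ∀ a ∈ T, ∀ b ∈ T, a ∉ Q → b ∉ Q → a * b ∈ Q)
    (hcore : K ≤ Subgroup.normalizer (T : Set G) → T ≤ Q)
    (k : G) (hk : k ∈ K) (hkO : k ∉ O) (x : G) (hx : x ∈ T) (hxQ : x ∉ Q) :
    x * k * x⁻¹ * k ∈ O := by
  have hOn : ∀ g ∈ K, ∀ o ∈ O, g * o * g⁻¹ ∈ O := fun g hg o ho =>
    (Subgroup.mem_normalizer_iff.mp (hn hg) o).mp ho
  have hxk : x * k * x⁻¹ ∈ K := hTK x hx k hk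
  rcases three_cosets K O hn h3 k hk hkO (x * k * x⁻¹) hxk with h1 | h1 | h1
  · exfalso
    apply hkO
    have h2 := hTO x⁻¹ (T.inv_mem hx) _ h1
    have e : x⁻¹ * (x * k * x⁻¹) * x⁻¹⁻¹ = k := by group
    rwa [e] at h2
  · exfalso
    apply hxQ
    refine hcore ?_ hx
    have key : ∀ κ ∈ K, x * κ * x⁻¹ * κ⁻¹ ∈ O → ∀ t ∈ T, κ * t * κ⁻¹ ∈ T := by
      intro κ hκ ho t ht
      by_cases htQ : t ∈ Q
      · exact hQT (hKQ κ hκ t htQ)
      · have htx : t * x ∈ Q := hidx t ht x hx htQ hxQ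
        have e : κ * t * κ⁻¹ = (κ * (t * x) * κ⁻¹) * ((x * κ * x⁻¹ * κ⁻¹)⁻¹ * x)⁻¹ := by group
        rw [e]
        exact T.mul_mem (hQT (hKQ κ hκ _ htx))
          (T.inv_mem (T.mul_mem (T.inv_mem (hOT ho)) hx))
    have hk1 := key k hk h1
    have hk2 : x * k⁻¹ * x⁻¹ * k⁻¹⁻¹ ∈ O := by
      have e : x * k⁻¹ * x⁻¹ * k⁻¹⁻¹ = k⁻¹ * (x * k * x⁻¹ * k⁻¹)⁻¹ * k⁻¹⁻¹ := by group
      rw [e]
      exact hOn k⁻¹ (K.inv_mem hk) _ (O.inv_mem h1)
    have hk3 := key k⁻¹ (K.inv_mem hk) hk2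
    have hkN : k ∈ Subgroup.normalizer (T : Set G) := by
      rw [Subgroup.mem_normalizer_iff]
      intro t
      constructor
      · exact hk1 t
      · intro ht
        have h5 := hk3 _ ht
        have e : k⁻¹ * (k * t * k⁻¹) * k⁻¹⁻¹ = t := by group
        rwa [e] at h5
    intro h hh
    rcases three_cosets K O hn h3 k hk hkO h hh with c | c | c
    · exact Subgroup.le_normalizer (hOT c)
    · have e : h = (h * k⁻¹) * k := by group
      rw [e]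
      exact Subgroup.mul_mem _ (Subgroup.le_normalizer (hOT c)) hkN
    · have e : h = (h * k) * k⁻¹ := by group
      rw [e]
      exact Subgroup.mul_mem _ (Subgroup.le_normalizer (hOT c)) (Subgroup.inv_mem _ hkN)
  · exact h1

/-- **Abstract KB-NORM.**  `V` a four-group normalized by `S₀`, `z ∈ V ∩ Z(S₀) ∩ Q`,
`V ≤ T ≤ S₀`, `Q ≤ T` normal of index 2, `V ⊄ Q`, `k` with `k ^ 3 = 1` normalizing `Q`, not
centralizing `z`, inverted modulo `Q` by `T ∖ Q`.  Then every `s ∈ S₀` with `T^s ≤ T`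
has `Q^s ≤ Q`. -/
theorem kb_abs (V S₀ T Q : Subgroup G) (z k : G)
    (hV4 : Nat.card ↥V = 4) (hV2 : ∀ v ∈ V, v * v = 1)
    (hSV : ∀ s ∈ S₀, ∀ v ∈ V, s * v * s⁻¹ ∈ V)
    (hzV : z ∈ V) (hz1 : z ≠ 1) (hzS : ∀ s ∈ S₀, s * z = z * s)
    (hTS : T ≤ S₀) (hVT : V ≤ T) (hQT : Q ≤ T)
    (hTQ : ∀ t ∈ T, ∀ q ∈ Q, t * q * t⁻¹ ∈ Q)
    (hidx : ∀ a ∈ T, ∀ b ∈ T, a ∉ Q → b ∉ Q → a * b ∈ Q)
    (hzQ : z ∈ Q) (hVQ : ¬ V ≤ Q)
    (hk3 : k ^ 3 = 1) (hkz : k * z * k⁻¹ ≠ z) (hkQ : ∀ q ∈ Q, k * q * k⁻¹ ∈ Q)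
    (hinv : ∀ x ∈ T, x ∉ Q → x * k * x⁻¹ * k ∈ Q) :
    ∀ s ∈ S₀, (∀ t ∈ T, s * t * s⁻¹ ∈ T) → ∀ q ∈ Q, s * q * s⁻¹ ∈ Q := by
  intro s hs hsT
  obtain ⟨v, hvV, hvQ⟩ := SetLike.not_le_iff_exists.mp hVQ
  have hv1 : v ≠ 1 := fun h => hvQ (h ▸ Q.one_mem)
  have hzv : z ≠ v := fun h => hvQ (h ▸ hzQ)
  have henum := Cfsg.Agent.H83.JzConj.four_enum hV4 hV2 hzV hvV hz1 hv1 hzv
  have hvT : v ∈ T := hVT hvV
  have hvz : v * z = z * v := hzS v (hTS hvT)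
  have hTQv : ∀ t ∈ T, t ∈ Q ∨ t * v ∈ Q := by
    intro t ht
    by_cases htQ : t ∈ Q
    · exact Or.inl htQ
    · exact Or.inr (hidx t ht v hvT htQ hvQ)
  have hv2 : v * v = 1 := hV2 v hvV
  have hz2 : z * z = 1 := hV2 z hzV
  have hzT : ∀ t ∈ T, t * z = z * t := fun t ht => hzS t (hTS ht)
  have hQv : ∀ q ∈ Q, v * q * v⁻¹ = q ∨ v * q * v⁻¹ = q * z := by
    intro q hq
    have hc1 : v * q * v⁻¹ * q⁻¹ ∈ Q := Q.mul_mem (hTQ v hvT q hq) (Q.inv_mem hq)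
    have hc2 : v * q * v⁻¹ * q⁻¹ ∈ V := by
      have e : v * q * v⁻¹ * q⁻¹ = v * (q * v⁻¹ * q⁻¹) := by group
      rw [e]
      exact V.mul_mem hvV (hSV q (hTS (hQT hq)) _ (V.inv_mem hvV))
    rcases henum _ hc2 with h | h | h | h
    · left
      have e : v * q * v⁻¹ = (v * q * v⁻¹ * q⁻¹) * q := by group
      rw [e, h, one_mul]
    · right
      have e : v * q * v⁻¹ = (v * q * v⁻¹ * q⁻¹) * q := by group
      rw [e, h]
      exact (hzT q (hQT hq)).symm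
    · exfalso
      exact hvQ (h ▸ hc1)
    · exfalso
      apply hvQ
      have e : v = z⁻¹ * (v * q * v⁻¹ * q⁻¹) := by rw [h]; group
      rw [e]
      exact Q.mul_mem (Q.inv_mem hzQ) hc1
  have hsv : s * v * s⁻¹ = v ∨ s * v * s⁻¹ = v * z := by
    rcases henum _ (hSV s hs v hvV) with h | h | h | h
    · exfalso
      apply hv1
      have e : v = s⁻¹ * (s * v * s⁻¹) * s := by group
      rw [e, h]; group
    · exfalso
      apply hzv
      have e : v = s⁻¹ * (s * v * s⁻¹) * s := by group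
      rw [e, h]
      have h2 : s * z = z * s := hzS s hs
      calc z = s⁻¹ * (s * z) := by group
        _ = s⁻¹ * (z * s) := by rw [h2]
        _ = s⁻¹ * z * s := by group
    · exact Or.inl h
    · right
      rw [h, hvz]
  exact Cfsg.Agent.H29.R1.r1_out_core T Q z v k s hQT hvT hTQv hv2 hz2 hzQ hzT hQv hk3 hkz hkQ
    (hinv v hvT hvQ) hsT hsv

end Cfsg.Agent.H83.Jx

#print axioms Cfsg.Agent.H83.Jx.three_cosets
#print axioms Cfsg.Agent.H83.Jx.exists_order3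
#print axioms Cfsg.Agent.H83.Jx.inv_k
#print axioms Cfsg.Agent.H83.Jx.kb_abs
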