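import Mathlib
import Cfsg.Prelude.Def_GeometricClasses

/-!
# S5981 team project (helper83): piece statements

`PSL_n(q)`, `q` odd, `n ≥ 3`, and the subgroups of orthogonal type (`quadSimilarityGroup Q ⊓ SL`).
Everything is phrased with the Gram matrix `A` of the polar form of `Q` (symmetric, invertible):
`g` is a similarity iff `gᵀ * A * g = c • A` for some `c ≠ 0`.
-/

set_option autoImplicit false
open scoped MatrixGroups

namespace Cfsg.Agent.H83.Ort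

open Matrix

universe u

/-- S5981-GLUE: the Gram matrix of a non-degenerate quadratic form. -/
def StGlue : Prop :=
  ∀ (F : Type u) [Field F] (n : ℕ) (Q : (Fin n → F) → F), (2 : F) ≠ 0 →
    Cfsg.Geo.IsNondegenerateQuadraticForm Q →
    ∃ A : Matrix (Fin n) (Fin n) F, Aᵀ = A ∧ A.det ≠ 0 ∧
      ∀ g : GL (Fin n) F, g ∈ Cfsg.Geo.quadSimilarityGroup Q ↔
        ∃ c : F, c ≠ 0 ∧
          (g : Matrix (Fin n) (Fin n) F)ᵀ * A * (g : Matrix (Fin n) (Fin n) F) = c • A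

/-- S5981-RANK: eigenvalue symmetry `ν ↔ c / ν` of a similarity with multiplier `c`. -/
def StRank : Prop :=
  ∀ (F : Type u) [Field F] (n : ℕ) (A x P s : Matrix (Fin n) (Fin n) F) (c : F),
    A.det ≠ 0 → IsUnit P.det → c ≠ 0 → x * P = P * s → sᵀ * A * s = c • A →
    ∀ ν : F, (x - ν • (1 : Matrix (Fin n) (Fin n) F)).rank
      = (x - (c * (ν⁻¹) ^ 1) • (1 : Matrix (Fin n) (Fin n) F)).rank

/-- S5981-MULT: a similarity of order `r` with `r ∤ q - 1` is an isometry. -/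
def StMult : Prop :=
  ∀ (F : Type u) [Field F] [Fintype F] (n : ℕ) (A s : Matrix (Fin n) (Fin n) F) (c : F) (r : ℕ),
    0 < n → A.det ≠ 0 → r.Prime → ¬ r ∣ Fintype.card F - 1 → sᵀ * A * s = c • A → s ^ r = 1 →
    c = 1

/-- S5981-EVEN: an isometry of odd order moves an even-dimensional space. -/
def StEven : Prop :=
  ∀ (F : Type u) [Field F] (n : ℕ) (A s : Matrix (Fin n) (Fin n) F) (r : ℕ),
    (2 : F) ≠ 0 → Aᵀ = A → A.det ≠ 0 → Odd r → sᵀ * A * s = A → s ^ r = 1 →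
    Even (s - 1).rank

/-- S5981-CAYLEY: two non-degenerate symmetric forms with a common fixed-point-free isometry of
odd order have the same discriminant. -/
def StCayley : Prop :=
  ∀ (F : Type u) [Field F] (n : ℕ) (A B g : Matrix (Fin n) (Fin n) F) (r : ℕ),
    (2 : F) ≠ 0 → Aᵀ = A → Bᵀ = B → A.det ≠ 0 → B.det ≠ 0 → Odd r → g ^ r = 1 →
    (g - 1).det ≠ 0 → gᵀ * A * g = A → gᵀ * B * g = B → IsSquare (A.det * B.det)

/-- S5981-KCONE: one irreducible block of order `r` (`e = ord_r(q)` even) preserves a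
non-degenerate symmetric form. -/
def StKcOne : Prop :=
  ∀ (F : Type u) [Field F] [Fintype F] (r e : ℕ), Odd (Fintype.card F) → r.Prime → r ≠ 2 →
    (r : F) ≠ 0 → orderOf (Fintype.card F : ZMod r) = e → Even e → 2 ≤ e →
    ∃ C A₁ : Matrix (Fin e) (Fin e) F, C.det = 1 ∧ C ^ r = 1 ∧ (C - 1).det ≠ 0 ∧
      A₁ᵀ = A₁ ∧ A₁.det ≠ 0 ∧ Cᵀ * A₁ * C = A₁

/-- S5981-NONSQ: a form of dimension `e = ord_r(q)` (even) with an isometry of order `r` is of
minus type. -/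
def StNonsq : Prop :=
  ∀ (F : Type u) [Field F] [Fintype F] (r e : ℕ) (A s : Matrix (Fin e) (Fin e) F),
    Odd (Fintype.card F) → r.Prime → r ≠ 2 → (r : F) ≠ 0 →
    orderOf (Fintype.card F : ZMod r) = e → Even e → 2 ≤ e → Aᵀ = A → A.det ≠ 0 →
    sᵀ * A * s = A → s ^ r = 1 → s ≠ 1 → ¬ IsSquare ((-1 : F) ^ (e / 2) * A.det)

/-- S5981-KCOP: `n / e` copies of the irreducible block. -/
def StKcop : Prop :=
  ∀ (F : Type u) [Field F] [Fintype F] (n r : ℕ), Odd (Fintype.card F) → r.Prime → r ≠ 2 →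
    (r : F) ≠ 0 → Even (orderOf (Fintype.card F : ZMod r)) →
    2 ≤ orderOf (Fintype.card F : ZMod r) → 0 < n → orderOf (Fintype.card F : ZMod r) ∣ n →
    ∃ M A₀ : Matrix (Fin n) (Fin n) F, M.det = 1 ∧ M ^ r = 1 ∧
      (∀ z : F, M ≠ z • (1 : Matrix (Fin n) (Fin n) F)) ∧ (M - 1).det ≠ 0 ∧
      A₀ᵀ = A₀ ∧ A₀.det ≠ 0 ∧ Mᵀ * A₀ * M = A₀ ∧
      (IsSquare ((-1 : F) ^ (n / 2) * A₀.det) ↔
        Even (n / orderOf (Fintype.card F : ZMod r)))

/-- The isometries of the symmetric matrix `A`, as a subtype of `GL`. -/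
abbrev IsoSet {F : Type u} [Field F] {n : ℕ} (A : Matrix (Fin n) (Fin n) F) : Type u :=
  {g : GL (Fin n) F //
    (g : Matrix (Fin n) (Fin n) F)ᵀ * A * (g : Matrix (Fin n) (Fin n) F) = A}

/-- S5981-ORD: the order of the orthogonal group of an arbitrary non-degenerate symmetric
matrix over a finite field of odd order. -/
def StOrd : Prop :=
  ∀ (F : Type u) [Field F] [Fintype F] (n : ℕ) (A : Matrix (Fin n) (Fin n) F),
    Odd (Fintype.card F) → Aᵀ = A → A.det ≠ 0 →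
    (∀ m : ℕ, n = 2 * m + 1 →
      Nat.card (IsoSet A) = 2 * Fintype.card F ^ (m ^ 2) *
        ∏ i ∈ Finset.range m, (Fintype.card F ^ (2 * (i + 1)) - 1)) ∧
    (∀ m : ℕ, n = 2 * m → 1 ≤ m → IsSquare ((-1 : F) ^ m * A.det) →
      Nat.card (IsoSet A) = 2 * Fintype.card F ^ (m * (m - 1)) * (Fintype.card F ^ m - 1) *
        ∏ i ∈ Finset.range (m - 1), (Fintype.card F ^ (2 * (i + 1)) - 1)) ∧
    (∀ m : ℕ, n = 2 * m → 1 ≤ m → ¬ IsSquare ((-1 : F) ^ m * A.det) →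
      Nat.card (IsoSet A) = 2 * Fintype.card F ^ (m * (m - 1)) * (Fintype.card F ^ m + 1) *
        ∏ i ∈ Finset.range (m - 1), (Fintype.card F ^ (2 * (i + 1)) - 1))

/-- S5981-ARITH: the `r`-parts of the orders (`e = ord_r(q)` even). -/
def StArith : Prop :=
  ∀ (q r n N : ℕ), r.Prime → r ≠ 2 → ¬ r ∣ q → 2 ≤ q → 1 ≤ n →
    Even (orderOf (q : ZMod r)) → 2 ≤ orderOf (q : ZMod r) →
    padicValNat r N < padicValNat r (∏ i ∈ Finset.range n, (q ^ n - q ^ i)) →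
    (∀ m : ℕ, n = 2 * m + 1 →
      N ≠ 2 * q ^ (m ^ 2) * ∏ i ∈ Finset.range m, (q ^ (2 * (i + 1)) - 1)) ∧
    (∀ m : ℕ, n = 2 * m → 1 ≤ m →
      N = 2 * q ^ (m * (m - 1)) * (q ^ m - 1) *
        ∏ i ∈ Finset.range (m - 1), (q ^ (2 * (i + 1)) - 1) →
      orderOf (q : ZMod r) ∣ n ∧ ¬ Even (n / orderOf (q : ZMod r))) ∧
    (∀ m : ℕ, n = 2 * m → 1 ≤ m →
      N = 2 * q ^ (m * (m - 1)) * (q ^ m + 1) *
        ∏ i ∈ Finset.range (m - 1), (q ^ (2 * (i + 1)) - 1) →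
      orderOf (q : ZMod r) ∣ n ∧ Even (n / orderOf (q : ZMod r)))

/-- S5981-IDXGLUE: if `r` divides the index in `SL` of a subgroup containing the isometries of
`A`, the orthogonal group has a smaller `r`-part than `GL`. -/
def StIdxGlue : Prop :=
  ∀ (F : Type u) [Field F] [Fintype F] (n r : ℕ) (A : Matrix (Fin n) (Fin n) F)
    (H : Subgroup (GL (Fin n) F)),
    r.Prime → r ≠ 2 → ¬ r ∣ Fintype.card F - 1 → 1 ≤ n → A.det ≠ 0 →
    (∀ g : GL (Fin n) F,
      (g : Matrix (Fin n) (Fin n) F)ᵀ * A * (g : Matrix (Fin n) (Fin n) F) = A → g ∈ H) →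
    r ∣ H.relIndex (Cfsg.Geo.specialLinear (Fin n) F) →
    padicValNat r (Nat.card (IsoSet A)) <
      padicValNat r (∏ i ∈ Finset.range n, (Fintype.card F ^ n - Fintype.card F ^ i))

/-- S5981-DIAG2: a diagonal involution is conjugate to an isometry of `A`. -/
def StDiag2 : Prop :=
  ∀ (F : Type u) [Field F] [Fintype F] (n : ℕ) (A : Matrix (Fin n) (Fin n) F) (d : Fin n → F),
    Odd (Fintype.card F) → 0 < n → Aᵀ = A → A.det ≠ 0 → (∀ i, d i ^ 2 = 1) →
    ∃ Q₂ s : Matrix (Fin n) (Fin n) F, IsUnit Q₂.det ∧ Matrix.diagonal d * Q₂ = Q₂ * s ∧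
      sᵀ * A * s = A

/-- S5981-DIAGSYM: in odd dimension, a diagonal matrix with inversion-symmetric eigenvalue
multiplicities is conjugate to an isometry of `A`. -/
def StDiagSym : Prop :=
  ∀ (F : Type u) [Field F] [Fintype F] (n : ℕ) (A : Matrix (Fin n) (Fin n) F) (d : Fin n → F),
    Odd (Fintype.card F) → Odd n → Aᵀ = A → A.det ≠ 0 → (∀ i, d i ≠ 0) →
    (∀ ν : F, Nat.card {i // d i = ν} = Nat.card {i // d i = ν⁻¹}) →
    ∃ Q₂ s : Matrix (Fin n) (Fin n) F, IsUnit Q₂.det ∧ Matrix.diagonal d * Q₂ = Q₂ * s ∧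
      sᵀ * A * s = A

/-- S5981-NSQSTD: the standard form of a square root of a non-square scalar. -/
def StNsqStd : Prop :=
  ∀ (F : Type u) [Field F] (n : ℕ) (x : Matrix (Fin n) (Fin n) F) (z : F),
    (∀ y : F, y ^ 2 ≠ z) → x ^ 2 = z • (1 : Matrix (Fin n) (Fin n) F) →
    ∃ (m : ℕ) (e : Fin 2 × Fin m ≃ Fin n) (P : Matrix (Fin n) (Fin n) F), IsUnit P.det ∧
      x * P = P * Matrix.reindex e e (Matrix.blockDiagonal fun _ : Fin m => !![0, z; 1, 0])

/-- S5981-NSQFORM: a square root of a non-square scalar `z` is conjugate to a similarity of `A`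
with multiplier `z`. -/
def StNsqForm : Prop :=
  ∀ (F : Type u) [Field F] [Fintype F] (n : ℕ) (A x : Matrix (Fin n) (Fin n) F) (z : F),
    Odd (Fintype.card F) → 0 < n → Aᵀ = A → A.det ≠ 0 → (∀ y : F, y ^ 2 ≠ z) →
    x ^ 2 = z • (1 : Matrix (Fin n) (Fin n) F) →
    ∃ Qm s : Matrix (Fin n) (Fin n) F, IsUnit Qm.det ∧ x * Qm = Qm * s ∧ sᵀ * A * s = z • A

/-- S5981-NSQCENT: the centraliser of a square root of a non-square scalar has all
determinants. -/
def StNsqCent : Prop :=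
  ∀ (F : Type u) [Field F] [Fintype F] (n : ℕ) (x : Matrix (Fin n) (Fin n) F) (z : F),
    Odd (Fintype.card F) → 0 < n → (∀ y : F, y ^ 2 ≠ z) →
    x ^ 2 = z • (1 : Matrix (Fin n) (Fin n) F) →
    ∀ d : F, d ≠ 0 → ∃ h : Matrix (Fin n) (Fin n) F, h.det = d ∧ h * x = x * h

end Cfsg.Agent.H83.Ort
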