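import Mathlib
import Cfsg.Agent.H83.OrtDefs
import Cfsg.Agent.H99.TenGlue
import Cfsg.Agent.H69.TenWIT
import Cfsg.Agent.H69.TenNT1
import Cfsg.Agent.H24.UniSYM
import Cfsg.Agent.H34.UniWA
import Cfsg.Agent.H34.UniWB
import Cfsg.Agent.H34.UniWC
import Cfsg.Agent.H67.TenNT2
import Cfsg.Agent.H77.SubNT
import Cfsg.Agent.H61.SubDIAGZ
import Cfsg.Agent.H16.SubCENT
import Cfsg.Agent.H16.SubKUMNONE
import Cfsg.Agent.H36.SubCOMB

/-!
# S5981 team project (helper83): the assembly from the pieces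
-/

set_option autoImplicit false
open scoped MatrixGroups

namespace Cfsg.Agent.H83.Ort

open Matrix

universe u

theorem eq_zero_of_rank_eq_zero {F : Type u} [Field F] {n : ℕ} (N : Matrix (Fin n) (Fin n) F)
    (h : N.rank = 0) : N = 0 := by
  unfold Matrix.rank at h
  have h1 : LinearMap.range N.mulVecLin = ⊥ := Submodule.finrank_eq_zero.mp h
  have h2 : N.mulVecLin = 0 := LinearMap.range_eq_bot.mp h1
  ext i j
  have h3 := congrArg (fun f => f (Pi.single j 1) i) h2
  simpa using h3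

theorem pow_of_conj {F : Type u} [Field F] {n : ℕ} (M P s : Matrix (Fin n) (Fin n) F)
    (hP : IsUnit P.det) (h : M * P = P * s) (k : ℕ) (hM : M ^ k = 1) : s ^ k = 1 := by
  have h1 : ∀ j : ℕ, M ^ j * P = P * s ^ j := by
    intro j
    induction j with
    | zero => simp
    | succ j ih => rw [pow_succ, Matrix.mul_assoc, h, ← Matrix.mul_assoc, ih, Matrix.mul_assoc,
        ← pow_succ]
  have h2 := h1 k
  rw [hM, Matrix.one_mul] at h2
  have h3 : P⁻¹ * P = 1 := Matrix.nonsing_inv_mul P hP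
  calc s ^ k = P⁻¹ * (P * s ^ k) := by rw [← Matrix.mul_assoc, h3, Matrix.one_mul]
    _ = 1 := by rw [← h2, h3]

theorem isSquare_iff_of_mul {F : Type u} [Field F] (a b c : F) (ha : a ≠ 0) (hb : b ≠ 0)
    (h : IsSquare (a * b)) : IsSquare (c * a) ↔ IsSquare (c * b) := by
  obtain ⟨t, ht⟩ := h
  constructor
  · rintro ⟨u, hu⟩
    refine ⟨u * t / a, ?_⟩
    field_simp
    have : c * b * a ^ 2 = (c * a) * (a * b) := by ring
    rw [this, hu, ht]
    ring
  · rintro ⟨u, hu⟩
    refine ⟨u * t / b, ?_⟩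
    field_simp
    have : c * a * b ^ 2 = (c * b) * (a * b) := by ring
    rw [this, hu, ht]
    ring

/-- The index piece: from the order formulas and the arithmetic. -/
theorem idx (hIdx : StIdxGlue.{u}) (hOrd : StOrd.{u}) (hArith : StArith)
    {F : Type u} [Field F] [Fintype F] (n r : ℕ) (A : Matrix (Fin n) (Fin n) F)
    (H : Subgroup (GL (Fin n) F)) (hodd : Odd (Fintype.card F)) (hrP : r.Prime) (hr2 : r ≠ 2)
    (hrq : ¬ r ∣ Fintype.card F) (hnd : ¬ r ∣ Fintype.card F - 1) (hn : 1 ≤ n) (hAs : Aᵀ = A)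
    (hAd : A.det ≠ 0) (heven : Even (orderOf (Fintype.card F : ZMod r)))
    (hc2 : 2 ≤ orderOf (Fintype.card F : ZMod r))
    (hH : ∀ g : GL (Fin n) F,
      (g : Matrix (Fin n) (Fin n) F)ᵀ * A * (g : Matrix (Fin n) (Fin n) F) = A → g ∈ H)
    (hΩ : r ∣ H.relIndex (Cfsg.Geo.specialLinear (Fin n) F)) :
    orderOf (Fintype.card F : ZMod r) ∣ n ∧
      (IsSquare ((-1 : F) ^ (n / 2) * A.det) ↔
        ¬ Even (n / orderOf (Fintype.card F : ZMod r))) := by
  have hlt := hIdx F n r A H hrP hr2 hnd hn hAd hH hΩ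
  obtain ⟨ho, hp, hm⟩ := hOrd F n A hodd hAs hAd
  obtain ⟨ao, ap, am⟩ := hArith (Fintype.card F) r n (Nat.card (IsoSet A)) hrP hr2 hrq
    Fintype.one_lt_card hn heven hc2 hlt
  rcases Nat.even_or_odd' n with ⟨m, hm' | hm'⟩
  · have hm1 : 1 ≤ m := by omega
    have hn2 : n / 2 = m := by omega
    rw [hn2]
    by_cases hsq : IsSquare ((-1 : F) ^ m * A.det)
    · obtain ⟨h1, h2⟩ := ap m hm' hm1 (hp m hm' hm1 hsq)
      exact ⟨h1, ⟨fun _ => h2, fun _ => hsq⟩⟩
    · obtain ⟨h1, h2⟩ := am m hm' hm1 (hm m hm' hm1 hsq)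
      exact ⟨h1, ⟨fun h => absurd h hsq, fun h => absurd h2 h⟩⟩
  · exact absurd (ho m hm') (ao m hm')

theorem seven_le_of_prime' (r : ℕ) (hr : r.Prime) (h2 : r ≠ 2) (h3 : r ≠ 3) (h5 : r ≠ 5) :
    7 ≤ r := by
  by_contra hlt
  have hlt' : r < 7 := by omega
  have h2' := hr.two_le
  interval_cases r <;> first | omega | (exact absurd hr (by norm_num))

/-- S5981 from the pieces. -/
theorem main_of_pieces (hGlue : StGlue.{u}) (hRank : StRank.{u}) (hMult : StMult.{u})
    (hEven : StEven.{u}) (hCay : StCayley.{u}) (hKcop : StKcop.{u}) (hOrd : StOrd.{u})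
    (hArith : StArith) (hIdx : StIdxGlue.{u}) (hD2 : StDiag2.{u}) (hDS : StDiagSym.{u})
    (hNF : StNsqForm.{u}) (hNC : StNsqCent.{u})
    {F : Type u} [Field F] [Fintype F] {p : ℕ} [Fact p.Prime] [CharP F p] {q : ℕ}
    (hq : Fintype.card F = q)
    (hodd : Odd q) (n : ℕ) (hn : 3 ≤ n) (Q : (Fin n → F) → F)
    (hQ : Cfsg.Geo.IsNondegenerateQuadraticForm Q)
    (r : ℕ) [Fact r.Prime] (hgap : ¬ (n = 6 ∧ r = 3))
    (hΩ : r ∣ (Cfsg.Geo.quadSimilarityGroup Q).relIndex (Cfsg.Geo.specialLinear (Fin n) F)) :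
    (∀ x ∈ Cfsg.Geo.specialLinear (Fin n) F, (∃ z : F, ((x ^ r : GL (Fin n) F) : Matrix (Fin n) (Fin n) F) = z • (1 : Matrix (Fin n) (Fin n) F)) →
      (∀ z : F, (x : Matrix (Fin n) (Fin n) F) ≠ z • (1 : Matrix (Fin n) (Fin n) F)) →
      ∃ g ∈ Cfsg.Geo.specialLinear (Fin n) F, g⁻¹ * x * g ∈ Cfsg.Geo.quadSimilarityGroup Q) ↔
    (r = 2 ∨ ((r = 3 ∨ r = 5) ∧ n = r ∧ padicValNat r (q - 1) = 1)) := by
  classical
  subst hq
  have hrP : r.Prime := Fact.out
  have hp : p.Prime := Fact.out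
  have hn0 : 0 < n := by omega
  have hq1 : 1 < Fintype.card F := Fintype.one_lt_card
  have hpdvd : p ∣ Fintype.card F := by
    obtain ⟨k, -, hk⟩ := FiniteField.card F p
    rw [hk]
    exact dvd_pow_self p (PNat.ne_zero k)
  have hp2 : p ≠ 2 := by
    rintro rfl
    rcases hodd with ⟨t, ht⟩
    omega
  have h2F' : ((2 : ℕ) : F) ≠ 0 := by
    intro h0
    have h3 := (CharP.cast_eq_zero_iff F p 2).mp h0
    exact hp2 ((Nat.prime_dvd_prime_iff_eq hp Nat.prime_two).mp h3)
  have h2F : (2 : F) ≠ 0 := by exact_mod_cast h2F'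
  obtain ⟨A, hAs, hAd, hmem⟩ := hGlue F n Q h2F hQ
  have key : (∀ x ∈ Cfsg.Geo.specialLinear (Fin n) F,
      (∃ z : F, ((x ^ r : GL (Fin n) F) : Matrix (Fin n) (Fin n) F)
        = z • (1 : Matrix (Fin n) (Fin n) F)) →
      (∀ z : F, (x : Matrix (Fin n) (Fin n) F) ≠ z • (1 : Matrix (Fin n) (Fin n) F)) →
      ∃ g ∈ Cfsg.Geo.specialLinear (Fin n) F, g⁻¹ * x * g ∈ Cfsg.Geo.quadSimilarityGroup Q) →
      ∀ M : Matrix (Fin n) (Fin n) F, M.det = 1 →
        (∃ z : F, M ^ r = z • (1 : Matrix (Fin n) (Fin n) F)) →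
        (∀ z : F, M ≠ z • (1 : Matrix (Fin n) (Fin n) F)) →
        ∃ (P s : Matrix (Fin n) (Fin n) F) (c : F), IsUnit P.det ∧ c ≠ 0 ∧ M * P = P * s ∧
          sᵀ * A * s = c • A := by
    intro hL M hdet ⟨z, hz⟩ hns
    obtain ⟨x, hxS, hxM⟩ := Cfsg.Agent.H99.Ten.exists_GL_of_det_one M hdet
    obtain ⟨g, hgS, hg⟩ := hL x hxS
      ⟨z, by rw [Units.val_pow_eq_pow_val, hxM]; exact hz⟩ (by rw [hxM]; exact hns)
    obtain ⟨c, hc, hcA⟩ := (hmem _).1 hg
    refine ⟨(g : Matrix (Fin n) (Fin n) F),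
      ((g⁻¹ * x * g : GL (Fin n) F) : Matrix (Fin n) (Fin n) F), c,
      Matrix.isUnits_det_units g, hc, ?_, hcA⟩
    rw [Units.val_mul, Units.val_mul, hxM, ← Matrix.mul_assoc, ← Matrix.mul_assoc,
      ← Units.val_mul, mul_inv_cancel, Units.val_one, Matrix.one_mul]
  have fin : ∀ (x : GL (Fin n) F), x ∈ Cfsg.Geo.specialLinear (Fin n) F →
      ∀ (y Qm s : Matrix (Fin n) (Fin n) F) (l c' : F), l ≠ 0 → c' ≠ 0 →
      (x : Matrix (Fin n) (Fin n) F) = l • y → IsUnit Qm.det → y * Qm = Qm * s →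
      sᵀ * A * s = c' • A →
      (∀ d : F, d ≠ 0 → ∃ h : Matrix (Fin n) (Fin n) F, h.det = d ∧ h * y = y * h) →
      ∃ g ∈ Cfsg.Geo.specialLinear (Fin n) F,
        g⁻¹ * x * g ∈ Cfsg.Geo.quadSimilarityGroup Q := by
    intro x hxS y Qm s l c' hl hc' hxy hQm hyQ hs hcen
    have hQ0 := hQm.ne_zero
    obtain ⟨h, hh, hcomm⟩ := hcen (Qm.det)⁻¹ (inv_ne_zero hQ0)
    have hgdet : (h * Qm).det = 1 := by rw [Matrix.det_mul, hh, inv_mul_cancel₀ hQ0]
    obtain ⟨g, hgS, hgM⟩ := Cfsg.Agent.H99.Ten.exists_GL_of_det_one (h * Qm) hgdet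
    refine ⟨g, hgS, (hmem _).2 ⟨l * l * c', mul_ne_zero (mul_ne_zero hl hl) hc', ?_⟩⟩
    have h1 : (x : Matrix (Fin n) (Fin n) F) * (g : Matrix (Fin n) (Fin n) F)
        = (g : Matrix (Fin n) (Fin n) F) * (l • s) := by
      rw [hgM, hxy, Matrix.smul_mul, ← Matrix.mul_assoc y h Qm, ← hcomm, Matrix.mul_assoc h y Qm,
        hyQ, Matrix.mul_smul, Matrix.mul_assoc h Qm s]
    have hval : ((g⁻¹ * x * g : GL (Fin n) F) : Matrix (Fin n) (Fin n) F) = l • s := by
      rw [Units.val_mul, Units.val_mul, Matrix.mul_assoc, h1, ← Matrix.mul_assoc,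
        ← Units.val_mul, inv_mul_cancel, Units.val_one, Matrix.one_mul]
    rw [hval, Matrix.transpose_smul, Matrix.smul_mul, Matrix.smul_mul, Matrix.mul_smul, hs,
      smul_smul, smul_smul]
  constructor
  · intro hL
    have key' := key hL
    by_cases hr2 : r = 2
    · exact Or.inl hr2
    right
    have hrodd : Odd r := hrP.odd_of_ne_two hr2
    have hconj_rank : ∀ (M P s : Matrix (Fin n) (Fin n) F), IsUnit P.det → M * P = P * s →
        (M - 1).rank = (s - 1).rank := by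
      intro M P s hP h1
      have h := Cfsg.Agent.H24.Uni.rank_sub_smul_of_conj M P s hP h1 1
      rwa [one_smul] at h
    by_cases hrp : r = p
    · exfalso
      have hnd : ¬ r ∣ Fintype.card F - 1 := by
        intro h
        rw [hrp] at h
        have h3 : p ∣ 1 := by
          have h4 : Fintype.card F - 1 + 1 = Fintype.card F := by omega
          have h5 : p ∣ Fintype.card F - 1 + 1 := by rw [h4]; exact hpdvd
          exact (Nat.dvd_add_right h).1 h5
        exact hp.one_lt.ne' (Nat.dvd_one.1 h3)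
      obtain ⟨M, hdet, hMp, hns, hrk⟩ :=
        Cfsg.Agent.H69.Ten.exists_transvection_matrix (F := F) (p := p) n (by omega)
      rw [← hrp] at hMp
      obtain ⟨P, s, c, hP, hc, h1, h2⟩ := key' M hdet ⟨1, by rw [hMp, one_smul]⟩ hns
      have hsr : s ^ r = 1 := pow_of_conj M P s hP h1 r hMp
      have hc1 : c = 1 := hMult F n A s c r hn0 hAd hrP hnd h2 hsr
      rw [hc1, one_smul] at h2
      have hev := hEven F n A s r h2F hAs hAd hrodd h2 hsr
      rw [← hconj_rank M P s hP h1] at hev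
      have hM1 : M ≠ 1 := fun h => hns 1 (by rw [h, one_smul])
      have hpos : (M - 1).rank ≠ 0 := by
        intro h0
        exact hM1 (sub_eq_zero.mp (eq_zero_of_rank_eq_zero _ h0))
      rcases hev with ⟨t, ht⟩
      omega
    have hrF : (r : F) ≠ 0 := by
      intro h0
      have h1 := (CharP.cast_eq_zero_iff F p r).mp h0
      exact hrp ((Nat.prime_dvd_prime_iff_eq hp hrP).mp h1).symm
    have hrq : ¬ r ∣ Fintype.card F := by
      intro h
      obtain ⟨k, -, hk⟩ := FiniteField.card F p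
      rw [hk] at h
      exact hrp ((Nat.prime_dvd_prime_iff_eq hrP hp).mp (hrP.dvd_of_dvd_pow h))
    have hcast : (Fintype.card F : ZMod r) ≠ 0 := by
      intro h
      exact hrq ((ZMod.natCast_eq_zero_iff _ _).mp h)
    have hr1 : 0 < r - 1 := by
      have := hrP.two_le
      omega
    have hcpos : 0 < orderOf (Fintype.card F : ZMod r) :=
      Nat.pos_of_dvd_of_pos (orderOf_dvd_of_pow_eq_one (ZMod.pow_card_sub_one_eq_one hcast)) hr1
    have hcn := Cfsg.Agent.H69.Ten.order_le_of_dvd_relIndex n r hrP hrF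
      (Cfsg.Geo.quadSimilarityGroup Q) hΩ
    by_cases hc2 : 2 ≤ orderOf (Fintype.card F : ZMod r)
    · exfalso
      have hnd : ¬ r ∣ Fintype.card F - 1 := by
        intro h
        have h3 := (Cfsg.Agent.H77.Sub.dvd_sub_one_iff_order_one (Fintype.card F) r hrP
          (by omega)).mp h
        omega
      rcases Nat.even_or_odd (orderOf (Fintype.card F : ZMod r)) with heven | hoddE
      · have hH : ∀ g : GL (Fin n) F,
            (g : Matrix (Fin n) (Fin n) F)ᵀ * A * (g : Matrix (Fin n) (Fin n) F) = A →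
            g ∈ Cfsg.Geo.quadSimilarityGroup Q := by
          intro g hg
          exact (hmem g).2 ⟨1, one_ne_zero, by rw [hg, one_smul]⟩
        obtain ⟨hdvd, hiff⟩ := idx hIdx hOrd hArith n r A (Cfsg.Geo.quadSimilarityGroup Q) hodd
          hrP hr2 hrq hnd (by omega) hAs hAd heven hc2 hH hΩ
        obtain ⟨M, A₀, hdet, hMr, hns, hM1, hA₀s, hA₀d, hMA₀, hiff₀⟩ :=
          hKcop F n r hodd hrP hr2 hrF heven hc2 hn0 hdvd
        obtain ⟨P, s, c, hP, hc, h1, h2⟩ := key' M hdet ⟨1, by rw [hMr, one_smul]⟩ hns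
        have hsr : s ^ r = 1 := pow_of_conj M P s hP h1 r hMr
        have hc1 : c = 1 := hMult F n A s c r hn0 hAd hrP hnd h2 hsr
        rw [hc1, one_smul] at h2
        have hPi : P⁻¹ * P = 1 := Matrix.nonsing_inv_mul P hP
        have hPi' : P * P⁻¹ = 1 := Matrix.mul_nonsing_inv P hP
        have hs' : s = P⁻¹ * M * P := by
          rw [Matrix.mul_assoc, h1, ← Matrix.mul_assoc, hPi, Matrix.one_mul]
        have hMP : M = P * s * P⁻¹ := by
          rw [← h1, Matrix.mul_assoc, hPi', Matrix.mul_one]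
        have hA's : ((P⁻¹)ᵀ * A * P⁻¹)ᵀ = (P⁻¹)ᵀ * A * P⁻¹ := by
          rw [Matrix.transpose_mul, Matrix.transpose_mul, Matrix.transpose_transpose, hAs,
            Matrix.mul_assoc]
        have hPid : (P⁻¹).det ≠ 0 := by
          intro h0
          have h3 := congrArg Matrix.det hPi
          rw [Matrix.det_mul, h0, zero_mul, Matrix.det_one] at h3
          exact zero_ne_one h3
        have hA'det : ((P⁻¹)ᵀ * A * P⁻¹).det = A.det * (P⁻¹).det ^ 2 := by
          rw [Matrix.det_mul, Matrix.det_mul, Matrix.det_transpose]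
          ring
        have hA'd : ((P⁻¹)ᵀ * A * P⁻¹).det ≠ 0 := by
          rw [hA'det]
          exact mul_ne_zero hAd (pow_ne_zero _ hPid)
        have hMA' : Mᵀ * ((P⁻¹)ᵀ * A * P⁻¹) * M = (P⁻¹)ᵀ * A * P⁻¹ := by
          have e1 : P⁻¹ * M = s * P⁻¹ := by
            rw [hMP, ← Matrix.mul_assoc, ← Matrix.mul_assoc, hPi, Matrix.one_mul]
          have e2 : Mᵀ * (P⁻¹)ᵀ = (P⁻¹)ᵀ * sᵀ := by
            rw [← Matrix.transpose_mul, e1, Matrix.transpose_mul]
          calc Mᵀ * ((P⁻¹)ᵀ * A * P⁻¹) * M = (Mᵀ * (P⁻¹)ᵀ) * A * (P⁻¹ * M) := by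
                simp only [Matrix.mul_assoc]
            _ = (P⁻¹)ᵀ * (sᵀ * A * s) * P⁻¹ := by
                rw [e1, e2]; simp only [Matrix.mul_assoc]
            _ = (P⁻¹)ᵀ * A * P⁻¹ := by rw [h2]
        have hsq := hCay F n ((P⁻¹)ᵀ * A * P⁻¹) A₀ M r h2F hA's hA₀s hA'd hA₀d hrodd hMr hM1
          hMA' hMA₀
        have hsq2 : IsSquare (A.det * A₀.det) := by
          rw [hA'det] at hsq
          obtain ⟨t, ht⟩ := hsq
          refine ⟨t / (P⁻¹).det, ?_⟩
          field_simp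
          rw [pow_two t, ← ht]
          ring
        have hiff2 := isSquare_iff_of_mul A.det A₀.det ((-1 : F) ^ (n / 2)) hAd hA₀d hsq2
        by_cases hk : Even (n / orderOf (Fintype.card F : ZMod r))
        · exact hiff.1 (hiff2.2 (hiff₀.2 hk)) hk
        · exact hk (hiff₀.1 (hiff2.1 (hiff.2 hk)))
      · obtain ⟨M, hdet, hMr, hns, hrk⟩ :=
          Cfsg.Agent.H69.Ten.exists_one_block_matrix r hrP hrF n hc2 hcn
        obtain ⟨P, s, c, hP, hc, h1, h2⟩ := key' M hdet ⟨1, by rw [hMr, one_smul]⟩ hns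
        have hsr : s ^ r = 1 := pow_of_conj M P s hP h1 r hMr
        have hc1 : c = 1 := hMult F n A s c r hn0 hAd hrP hnd h2 hsr
        rw [hc1, one_smul] at h2
        have hev := hEven F n A s r h2F hAs hAd hrodd h2 hsr
        rw [← hconj_rank M P s hP h1, hrk] at hev
        exact (Nat.not_even_iff_odd.2 hoddE) hev
    have hc1 : orderOf (Fintype.card F : ZMod r) = 1 := by omega
    have hNR : ¬ r ∣ 1 + 1 := by
      intro h
      have h3 := Nat.le_of_dvd (by norm_num) h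
      have h4 := hrP.two_le
      omega
    obtain ⟨ζ, hζ, hζ1⟩ := Cfsg.Agent.H67.Ten.exists_root_of_unity r hrP hrF hc1
    have hζ0 : ζ ≠ 0 := by
      rintro rfl
      rw [zero_pow hrP.ne_zero] at hζ
      exact zero_ne_one hζ
    have hζord : orderOf ζ = r := orderOf_eq_prime hζ hζ1
    have keysym : ∀ M : Matrix (Fin n) (Fin n) F, M.det = 1 →
        (∃ z : F, M ^ r = z • (1 : Matrix (Fin n) (Fin n) F)) →
        (∀ z : F, M ≠ z • (1 : Matrix (Fin n) (Fin n) F)) →
        (¬ ∃ τ : F, τ ≠ 0 ∧ ∀ ν : F, (M - ν • (1 : Matrix (Fin n) (Fin n) F)).rank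
          = (M - (τ * (ν⁻¹) ^ 1) • (1 : Matrix (Fin n) (Fin n) F)).rank) → False := by
      intro M hdet hz hns hno
      obtain ⟨P, s, c, hP, hc, h1, h2⟩ := key' M hdet hz hns
      exact hno ⟨c, hc, fun ν => hRank F n A M P s c hAd hP hc h1 h2 ν⟩
    have hrdvd : r ∣ Fintype.card F - 1 :=
      (Cfsg.Agent.H77.Sub.dvd_sub_one_iff_order_one (Fintype.card F) r hrP (by omega)).mpr hc1
    have hv1 : 1 ≤ padicValNat r (Fintype.card F - 1) :=
      one_le_padicValNat_of_dvd (by omega) hrdvd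
    by_cases hrn : r ∣ n
    swap
    · exfalso
      have h1 : ζ ^ n ≠ 1 := by
        intro h
        apply hrn
        rw [← hζord]
        exact orderOf_dvd_of_pow_eq_one h
      have hr1' : (ζ ^ n) ^ r = 1 := by
        rw [← pow_mul, mul_comm, pow_mul, hζ, one_pow]
      obtain ⟨M, hdet, hMr, hns, hno⟩ :=
        Cfsg.Agent.H34.Uni.exists_witness_UA 1 n r hn hrP hNR ζ hζ0 h1 hr1'
      exact keysym M hdet ⟨_, hMr⟩ hns hno
    by_cases hnr : n = r
    · by_cases hv2 : 2 ≤ padicValNat r (Fintype.card F - 1)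
      · exfalso
        obtain ⟨u, hu2, hu1⟩ := Cfsg.Agent.H77.Sub.exists_order_sq (F := F) r hrP hv2
        have hu0 : u ≠ 0 := by
          rintro rfl
          rw [zero_pow (pow_ne_zero _ hrP.ne_zero)] at hu2
          exact zero_ne_one hu2
        have h1 : u ^ n ≠ 1 := by rw [hnr]; exact hu1
        have hr1' : (u ^ n) ^ r = 1 := by rw [hnr, ← pow_mul, ← sq]; exact hu2
        obtain ⟨M, hdet, hMr, hns, hno⟩ :=
          Cfsg.Agent.H34.Uni.exists_witness_UA 1 n r hn hrP hNR u hu0 h1 hr1'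
        exact keysym M hdet ⟨_, hMr⟩ hns hno
      · have hv : padicValNat r (Fintype.card F - 1) = 1 := by omega
        by_cases hr35 : r = 3 ∨ r = 5
        · exact ⟨hr35, hnr, hv⟩
        · exfalso
          have hr3 : r ≠ 3 := fun h => hr35 (Or.inl h)
          have hr5 : r ≠ 5 := fun h => hr35 (Or.inr h)
          have h7 := seven_le_of_prime' r hrP hr2 hr3 hr5
          obtain ⟨M, hdet, hMr, hns, hno⟩ :=
            Cfsg.Agent.H34.Uni.exists_witness_UC 1 n r hrP hr2 hr3 hNR (by omega) ζ hζ hζ1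
          exact keysym M hdet ⟨1, by rw [hMr, one_smul]⟩ hns hno
    · exfalso
      have hrn' : r < n := by
        have h2 := Nat.le_of_dvd hn0 hrn
        omega
      by_cases hn2r : n = 2 * r
      · have hr3 : r ≠ 3 := by
          intro h
          exact hgap ⟨by omega, h⟩
        have h2 := hrP.two_le
        obtain ⟨M, hdet, hMr, hns, hno⟩ :=
          Cfsg.Agent.H34.Uni.exists_witness_UC 1 n r hrP hr2 hr3 hNR (by omega) ζ hζ hζ1
        exact keysym M hdet ⟨1, by rw [hMr, one_smul]⟩ hns hno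
      · obtain ⟨M, hdet, hMr, hns, hno⟩ :=
          Cfsg.Agent.H34.Uni.exists_witness_UB 1 n r hrP hNR hrn' hn2r ζ hζ hζ1
        exact keysym M hdet ⟨1, by rw [hMr, one_smul]⟩ hns hno
  · intro hR x hxS ⟨z, hz⟩ hns
    rw [Units.val_pow_eq_pow_val] at hz
    have hdet : (x : Matrix (Fin n) (Fin n) F).det = 1 :=
      Cfsg.Agent.H99.Ten.det_of_mem_specialLinear x hxS
    have hz0 : z ≠ 0 := by
      rintro rfl
      rw [zero_smul] at hz
      have h1 := congrArg Matrix.det hz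
      have : Nonempty (Fin n) := ⟨⟨0, hn0⟩⟩
      rw [Matrix.det_pow, hdet, one_pow, Matrix.det_zero] at h1
      exact one_ne_zero h1
    have hred : ∀ lam : F, lam ^ r = z → lam ≠ 0 ∧
        (lam⁻¹ • (x : Matrix (Fin n) (Fin n) F)) ^ r = 1 ∧
        (x : Matrix (Fin n) (Fin n) F) = lam • (lam⁻¹ • (x : Matrix (Fin n) (Fin n) F)) := by
      intro lam hlam
      have hlam0 : lam ≠ 0 := by
        rintro rfl
        rw [zero_pow hrP.ne_zero] at hlam
        exact hz0 hlam.symm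
      refine ⟨hlam0, ?_, ?_⟩
      · rw [smul_pow, hz, smul_smul, inv_pow, ← hlam, inv_mul_cancel₀ (pow_ne_zero _ hlam0),
          one_smul]
      · rw [smul_inv_smul₀ hlam0]
    rcases hR with hr2 | ⟨hr35, hnr, hvq⟩
    · subst hr2
      by_cases hzpow : ∃ lam : F, lam ^ 2 = z
      · obtain ⟨lam, hlam⟩ := hzpow
        obtain ⟨hlam0, hy, hxy⟩ := hred lam hlam
        have hc1 : orderOf (Fintype.card F : ZMod 2) = 1 := by
          rw [orderOf_eq_one_iff, ZMod.natCast_eq_one_iff_odd]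
          exact hodd
        obtain ⟨Q₁, d, hQ₁, hd, hyQ₁⟩ :=
          Cfsg.Agent.H61.Sub.exists_diagonalization n 2 Nat.prime_two h2F' hc1 _ hy
        obtain ⟨Q₂, s, hQ₂, hdQ₂, hs⟩ := hD2 F n A d hodd hn0 hAs hAd hd
        refine fin x hxS _ (Q₁ * Q₂) s lam 1 hlam0 one_ne_zero hxy ?_ ?_
          (by rw [one_smul]; exact hs)
          (fun d' hd' =>
            Cfsg.Agent.H16.Sub.exists_commuting_det n 2 hn0 Nat.prime_two h2F' _ hy d' hd')
        · rw [Matrix.det_mul]
          exact hQ₁.mul hQ₂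
        · rw [← Matrix.mul_assoc, hyQ₁, Matrix.mul_assoc, hdQ₂, Matrix.mul_assoc]
      · push Not at hzpow
        obtain ⟨Qm, s, hQm, hxQ, hs⟩ := hNF F n A _ z hodd hn0 hAs hAd hzpow hz
        exact fin x hxS _ Qm s 1 z one_ne_zero hz0 (by rw [one_smul]) hQm hxQ hs
          (hNC F n _ z hodd hn0 hzpow hz)
    · have hnr' : r = n := hnr.symm
      subst hnr'
      have hr2 : r ≠ 2 := by
        rcases hr35 with h | h <;> omega
      have hrodd : Odd r := hrP.odd_of_ne_two hr2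
      have hrdvd : r ∣ Fintype.card F - 1 := by
        apply dvd_of_one_le_padicValNat
        rw [hvq]
      have hc1 : orderOf (Fintype.card F : ZMod r) = 1 :=
        (Cfsg.Agent.H77.Sub.dvd_sub_one_iff_order_one (Fintype.card F) r hrP (by omega)).mp hrdvd
      have hrp : r ≠ p := by
        intro h
        rw [h] at hrdvd
        have h3 : p ∣ 1 := by
          have h4 : Fintype.card F - 1 + 1 = Fintype.card F := by omega
          have h5 : p ∣ Fintype.card F - 1 + 1 := by rw [h4]; exact hpdvd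
          exact (Nat.dvd_add_right hrdvd).1 h5
        exact hp.one_lt.ne' (Nat.dvd_one.1 h3)
      have hrF : (r : F) ≠ 0 := by
        intro h0
        have h1 := (CharP.cast_eq_zero_iff F p r).mp h0
        exact hrp ((Nat.prime_dvd_prime_iff_eq hp hrP).mp h1).symm
      by_cases hzpow : ∃ lam : F, lam ^ r = z
      · obtain ⟨lam, hlam⟩ := hzpow
        obtain ⟨hlam0, hy, hxy⟩ := hred lam hlam
        obtain ⟨Q₁, d, hQ₁, hd, hyQ₁⟩ :=
          Cfsg.Agent.H61.Sub.exists_diagonalization r r hrP hrF hc1 _ hy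
        have hdety : (lam⁻¹ • (x : Matrix (Fin r) (Fin r) F)).det = ∏ i, d i := by
          have h1 := congrArg Matrix.det hyQ₁
          rw [Matrix.det_mul, Matrix.det_mul, Matrix.det_diagonal, mul_comm] at h1
          exact mul_left_cancel₀ hQ₁.ne_zero h1
        have hprodr : (∏ i, d i) ^ r = 1 := by
          rw [← Finset.prod_pow]
          exact Finset.prod_eq_one (fun i _ => hd i)
        have hzr : z ^ r = 1 := by
          rw [Matrix.det_smul, hdet, mul_one, Fintype.card_fin, inv_pow, hlam] at hdety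
          rw [← hdety, inv_pow] at hprodr
          exact inv_eq_one.mp hprodr
        have hlamr : lam ^ r = 1 := by
          apply Cfsg.Agent.H77.Sub.pow_eq_one_of_val_one r hrP hvq lam
          rw [sq, pow_mul, hlam, hzr]
        have hprod : ∏ i, d i = 1 := by
          rw [← hdety, Matrix.det_smul, hdet, mul_one, Fintype.card_fin, inv_pow, hlamr, inv_one]
        obtain ⟨ζ, hζ, hζ1⟩ := Cfsg.Agent.H67.Ten.exists_root_of_unity r hrP hrF hc1
        have hζ0 : ζ ≠ 0 := by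
          rintro rfl
          rw [zero_pow hrP.ne_zero] at hζ
          exact zero_ne_one hζ
        obtain ⟨j, hj⟩ := Cfsg.Agent.H36.Sub.exists_symm_shift r hr35 ζ hζ hζ1 d hd hprod
        have hζj0 : ζ ^ j ≠ 0 := pow_ne_zero _ hζ0
        have hζjr : (ζ ^ j) ^ r = 1 := by
          rw [← pow_mul, mul_comm, pow_mul, hζ, one_pow]
        have hd0 : ∀ i, ζ ^ j * d i ≠ 0 := by
          intro i
          refine mul_ne_zero hζj0 ?_
          intro h0
          have := hd i
          rw [h0, zero_pow hrP.ne_zero] at this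
          exact zero_ne_one this
        obtain ⟨Q₂, s, hQ₂, hdQ₂, hs⟩ := hDS F r A (fun i => ζ ^ j * d i) hodd hrodd hAs hAd hd0 hj
        have hdiag : Matrix.diagonal (fun i => ζ ^ j * d i) = ζ ^ j • Matrix.diagonal d := by
          rw [← Matrix.diagonal_smul]
          rfl
        have hyr : (ζ ^ j • (lam⁻¹ • (x : Matrix (Fin r) (Fin r) F))) ^ r = 1 := by
          rw [smul_pow, hy, hζjr, one_smul]
        refine fin x hxS (ζ ^ j • (lam⁻¹ • (x : Matrix (Fin r) (Fin r) F))) (Q₁ * Q₂) s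
          (lam * (ζ ^ j)⁻¹) 1 (mul_ne_zero hlam0 (inv_ne_zero hζj0)) one_ne_zero ?_ ?_ ?_
          (by rw [one_smul]; exact hs) ?_
        · rw [mul_smul, inv_smul_smul₀ hζj0, smul_inv_smul₀ hlam0]
        · rw [Matrix.det_mul]
          exact hQ₁.mul hQ₂
        · rw [Matrix.smul_mul, ← Matrix.mul_assoc, hyQ₁, Matrix.mul_assoc Q₁ Q₂, ← hdQ₂, hdiag,
            Matrix.smul_mul, Matrix.mul_smul, Matrix.mul_assoc]
        · exact fun d' hd' =>
            Cfsg.Agent.H16.Sub.exists_commuting_det r r hn0 hrP hrF _ hyr d' hd'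
      · exfalso
        push Not at hzpow
        have hvn : r ∣ Fintype.card F - 1 →
            padicValNat r r ≤ padicValNat r (Fintype.card F - 1) := by
          intro _
          rw [hvq, padicValNat_self]
        exact Cfsg.Agent.H16.Sub.no_kummer_of_val_le r r hn0 hrP hr2 hvn
          (x : Matrix (Fin r) (Fin r) F) hdet z hzpow hz

end Cfsg.Agent.H83.Ort
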