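import Mathlib
import Cfsg.Agent.S4492
import Cfsg.Agent.S4591
import Cfsg.Agent.H80.Block
import Cfsg.Agent.H82.CanonExt
import Cfsg.Agent.H31.SZ
import Cfsg.Agent.H67.PrimeGraph
import Cfsg.Agent.H3.PGroup

set_option autoImplicit false
set_option linter.style.haveILetI false
set_option linter.unusedSectionVars false

/-!
# helper83: principal blocks of `p`-solvable groups and height-zero characters (S4885)
-/

namespace Cfsg.Agent.H83

open Cfsg

/-- In a `p`-solvable group, the principal `p`-block consists of the irreducible characters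
with `O_{p'}(G)` in their kernel. -/
theorem mem_principalBlock_iff_of_isPSolvable {G : Type*} [Group G] [Finite G] (p : ℕ)
    [Fact p.Prime] (M : Ideal AlgInt) (hM : IsPModular p M) (hsolv : IsPSolvable p G)
    (χ : IrrCharacter G) :
    χ ∈ principalBlock M G ↔ ∀ n ∈ pPrimeCore p G, χ.1 n = χ.1 1 := by
  classical
  haveI : Fintype G := Fintype.ofFinite G
  have hMp := Cfsg.Agent.H20.isPrime_of_isPModular hM
  haveI hNn : (pPrimeCore p G).Normal := Cfsg.Agent.H80.pPrimeCore_normal p G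
  obtain ⟨N, hNdef⟩ : ∃ N : Subgroup G, N = pPrimeCore p G := ⟨_, rfl⟩
  haveI hNn' : N.Normal := by rw [hNdef]; exact hNn
  haveI : Fintype N := Fintype.ofFinite N
  have hinv : ∀ (g : G) (n : N),
      ((Cfsg.Agent.H80.trivChar N : IrrCharacter N) : N → ℂ) ⟨g * n * g⁻¹, hNn'.conj_mem n n.2 g⟩
        = ((Cfsg.Agent.H80.trivChar N : IrrCharacter N) : N → ℂ) n := fun _ _ => rfl
  obtain ⟨B, hB, hiff, -, -⟩ := Cfsg.Agent.S4492.result p M hM hsolv N hNdef
    (Cfsg.Agent.H80.trivChar N) hinv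
  have hcardN : (Nat.card N : ℂ) ≠ 0 := by
    exact_mod_cast (Nat.card_pos (α := N)).ne'
  have hconst : ∀ c : ℂ, classInner (fun _ : N => c)
      ((Cfsg.Agent.H80.trivChar N : IrrCharacter N) : N → ℂ) = c := by
    intro c
    unfold classInner
    have : ∀ n : N, c * (starRingEnd ℂ) (((Cfsg.Agent.H80.trivChar N : IrrCharacter N) : N → ℂ) n)
        = c := by
      intro n
      rw [Cfsg.Agent.H80.trivChar_apply, map_one, mul_one]
    rw [Finset.sum_congr rfl (fun n _ => this n), Finset.sum_const, Finset.card_univ,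
      nsmul_eq_mul, ← Nat.card_eq_fintype_card, ← mul_assoc, inv_mul_cancel₀ hcardN, one_mul]
  have h1 : Cfsg.Agent.H80.trivChar G ∈ B := by
    rw [hiff]
    have := hconst 1
    have e : (fun n : N => ((Cfsg.Agent.H80.trivChar G : IrrCharacter G) : G → ℂ) n)
        = fun _ : N => (1 : ℂ) := rfl
    rw [e, this]
    exact one_ne_zero
  obtain ⟨ψ, hψ⟩ := hB
  have hBeq : B = principalBlock M G := by
    rw [Cfsg.Agent.H80.principalBlock_eq, hψ]
    rw [hψ] at h1
    exact (Cfsg.Agent.H80.blockOf_eq_of_mem hMp h1).symm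
  rw [← hBeq, hiff, ← hNdef]
  constructor
  · intro h n hn
    have h' : classInner (fun n : N => χ.1 n) (1 : N → ℂ) ≠ 0 := h
    exact Cfsg.Agent.H82.const_of_over_one N χ.2 h' ⟨n, hn⟩
  · intro h
    have e : (fun n : N => (χ : G → ℂ) n) = fun _ : N => χ.1 1 := by
      funext n
      exact h n n.2
    rw [e, hconst]
    exact Cfsg.Agent.H82.irr_one_ne_zero χ

/-- Key group-theoretic lemma: if `O_{r'}(H) = 1`, `J ⊴ H` lies in the derived subgroup of a
Sylow `r`-subgroup and `L ⊴ H` contains `J` with index prime to `r`, then `L = J`. -/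
theorem eq_of_le_commutator_sylow {H : Type*} [Group H] [Finite H] {r : ℕ} [Fact r.Prime]
    (hO : ∀ T : Subgroup H, T.Normal → (Nat.card T).Coprime r → T = ⊥)
    (R : Sylow r H) (J L : Subgroup H) [hJn : J.Normal] [hLn : L.Normal]
    (hJR : J ≤ ⁅(R : Subgroup H), (R : Subgroup H)⁆)
    (hJL : J ≤ L) (hidx : (J.relIndex L).Coprime r) : L = J := by
  classical
  have hr : r.Prime := Fact.out
  have hJleR : J ≤ (R : Subgroup H) := hJR.trans (Subgroup.commutator_le_self _)
  have hJp : IsPGroup r J := R.2.to_le hJleR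
  obtain ⟨k, hk⟩ := IsPGroup.iff_card.mp hJp
  have hcop : (Nat.card J).Coprime (J.relIndex L) := by
    rw [hk]
    exact Nat.Coprime.pow_left k hidx.symm
  obtain ⟨C, hCL, hJC, hJCL, hCcard⟩ :=
    Cfsg.Agent.H67.exists_complement_of_coprime_relIndex J L hJL hcop
  have hJsol : Group.IsSolvable J := by
    haveI := hJp.isNilpotent
    infer_instance
  have hcopC : (Nat.card J).Coprime (Nat.card C) := by rw [hCcard]; exact hcop
  -- Frattini argument
  have hfrat : ∀ g : H, ∃ x ∈ J, x⁻¹ * g ∈ Subgroup.normalizer (C : Set H) := by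
    intro g
    have hcard : Nat.card (C.map (MulAut.conj g).toMonoidHom) = Nat.card C :=
      Subgroup.card_map_of_injective (MulAut.conj g).injective
    have hle : C.map (MulAut.conj g).toMonoidHom ≤ J ⊔ C := by
      rw [hJCL]
      rintro _ ⟨c, hc, rfl⟩
      exact hLn.conj_mem c (hCL hc) g
    obtain ⟨x, hx, hxe⟩ := Cfsg.Agent.H31.sz_conj J C (C.map (MulAut.conj g).toMonoidHom)
      hJsol hcopC hcard hle
    refine ⟨x, hx, ?_⟩
    have hkey : ∀ c ∈ C, (x⁻¹ * g) * c * (x⁻¹ * g)⁻¹ ∈ C := by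
      intro c hc
      have h1 : g * c * g⁻¹ ∈ C.map (MulAut.conj g).toMonoidHom := ⟨c, hc, rfl⟩
      rw [hxe] at h1
      obtain ⟨c', hc', hcc⟩ := h1
      have h2 : x * c' * x⁻¹ = g * c * g⁻¹ := hcc
      have h3 : (x⁻¹ * g) * c * (x⁻¹ * g)⁻¹ = c' := by
        calc (x⁻¹ * g) * c * (x⁻¹ * g)⁻¹ = x⁻¹ * (g * c * g⁻¹) * x := by group
          _ = x⁻¹ * (x * c' * x⁻¹) * x := by rw [h2]
          _ = c' := by group
      rw [h3]; exact hc'
    -- conjugation maps `C` into `C`, hence onto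
    rw [Subgroup.mem_normalizer_iff]
    have hmap : C.map (MulAut.conj (x⁻¹ * g)).toMonoidHom = C := by
      apply Subgroup.eq_of_le_of_card_ge
      · rintro _ ⟨c, hc, rfl⟩
        exact hkey c hc
      · rw [Subgroup.card_map_of_injective (MulAut.conj (x⁻¹ * g)).injective]
    intro h
    constructor
    · intro hh
      exact hkey h hh
    · intro hh
      rw [← hmap] at hh
      obtain ⟨c, hc, hcc⟩ := hh
      have h2 : (x⁻¹ * g) * c * (x⁻¹ * g)⁻¹ = (x⁻¹ * g) * h * (x⁻¹ * g)⁻¹ := hcc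
      have h3 : c = h := by
        have := congrArg (fun y => (x⁻¹ * g)⁻¹ * y * (x⁻¹ * g)) h2
        simpa [mul_assoc] using this
      rw [← h3]; exact hc
  -- `R` normalizes `C`
  have hRN : (R : Subgroup H) ≤ Subgroup.normalizer (C : Set H) := by
    have hRp : IsPGroup r (R : Subgroup H) := R.2
    have hcf := Cfsg.Agent.H3.commutator_le_frattini hRp
    have htop : (Subgroup.normalizer (C : Set H)).subgroupOf (R : Subgroup H)
        ⊔ frattini (R : Subgroup H) = ⊤ := by
      rw [eq_top_iff]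
      rintro ⟨g, hg⟩ -
      obtain ⟨x, hx, hxg⟩ := hfrat g
      have hxR : x ∈ (R : Subgroup H) := hJleR hx
      have hxc : (⟨x, hxR⟩ : (R : Subgroup H)) ∈ commutator (R : Subgroup H) := by
        have h1 : x ∈ (commutator (R : Subgroup H)).map (R : Subgroup H).subtype := by
          rw [Subgroup.map_subtype_commutator]
          exact hJR hx
        obtain ⟨y, hy, hyx⟩ := h1
        have : y = ⟨x, hxR⟩ := Subtype.ext hyx
        rw [← this]; exact hy
      have hdecomp : (⟨g, hg⟩ : (R : Subgroup H))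
          = (⟨x, hxR⟩ : (R : Subgroup H))
            * (⟨x⁻¹ * g, (R : Subgroup H).mul_mem ((R : Subgroup H).inv_mem hxR) hg⟩ :
              (R : Subgroup H)) := by
        apply Subtype.ext
        simp
      rw [hdecomp]
      have hn : (⟨x⁻¹ * g, (R : Subgroup H).mul_mem ((R : Subgroup H).inv_mem hxR) hg⟩ :
          (R : Subgroup H)) ∈ (Subgroup.normalizer (C : Set H)).subgroupOf (R : Subgroup H) :=
        Subgroup.mem_subgroupOf.mpr hxg
      rw [sup_comm]
      exact Subgroup.mul_mem_sup (hcf hxc) hn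
    have h2 := frattini_nongenerating htop
    intro g hg
    have h3 : (⟨g, hg⟩ : (R : Subgroup H))
        ∈ (Subgroup.normalizer (C : Set H)).subgroupOf (R : Subgroup H) := by
      rw [h2]; exact Subgroup.mem_top _
    exact Subgroup.mem_subgroupOf.mp h3
  -- hence `C` is normal
  have hCn : C.Normal := by
    rw [← Subgroup.normalizer_eq_top_iff, eq_top_iff]
    intro g _
    obtain ⟨x, hx, hxg⟩ := hfrat g
    have hx' : x ∈ Subgroup.normalizer (C : Set H) := hRN (hJleR hx)
    have : g = x * (x⁻¹ * g) := by group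
    rw [this]
    exact Subgroup.mul_mem _ hx' hxg
  have hCbot : C = ⊥ := hO C hCn (by rw [hCcard]; exact hidx)
  rw [← hJCL, hCbot, sup_bot_eq]

/-- The common kernel of the `p'`-degree irreducible characters trivial on `N`, when
`O_{p'}(G/N) = 1`: the preimage of the normal core of the derived subgroup of a Sylow
`p`-subgroup of `G/N`. -/
theorem ker_deflate_iff {G : Type*} [Group G] [Finite G] (p : ℕ) [Fact p.Prime]
    (N : Subgroup G) [N.Normal]
    (hO : ∀ T : Subgroup (G ⧸ N), T.Normal → (Nat.card T).Coprime p → T = ⊥)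
    (P : Sylow p (G ⧸ N)) (g : G) :
    (∀ χ : IrrCharacter G, (∀ n ∈ N, χ.1 n = χ.1 1) → ¬ p ∣ charDegree χ.1 → χ.1 g = χ.1 1) ↔
      (QuotientGroup.mk' N g) ∈
        (⁅(P : Subgroup (G ⧸ N)), (P : Subgroup (G ⧸ N))⁆).normalCore := by
  classical
  have hmax : ∀ L : Subgroup (G ⧸ N), L.Normal →
      L ⊓ Subgroup.centralizer ((P : Subgroup (G ⧸ N)) : Set (G ⧸ N)) = ⊥ → L ≤ ⊥ := by
    intro L hL hLC
    haveI := hL
    have := Cfsg.Agent.H92.coprime_of_fixed_trivial (P : Subgroup (G ⧸ N)) P.2 L hLC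
    rw [hO L hL this]
  have hset := Cfsg.Agent.S4591.result p P (⊥ : Subgroup (G ⧸ N)) (bot_inf_eq _) hmax
  rw [bot_sup_eq] at hset
  constructor
  · intro h
    have h1 : QuotientGroup.mk' N g ∈ {x : G ⧸ N | ∀ χ : IrrCharacter (G ⧸ N),
        ¬ p ∣ charDegree (χ : G ⧸ N → ℂ) → (χ : G ⧸ N → ℂ) x = (χ : G ⧸ N → ℂ) 1} := by
      intro χ' hχ'
      have h2 := h (Cfsg.Agent.H82.inflate N χ') (Cfsg.Agent.H82.inflate_mem N χ')
        (by rw [Cfsg.Agent.H82.charDegree_inflate]; exact hχ')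
      rw [Cfsg.Agent.H82.inflate_apply, Cfsg.Agent.H82.inflate_apply, QuotientGroup.mk_one] at h2
      exact h2
    rw [hset] at h1
    exact h1
  · intro h χ hχN hχp
    obtain ⟨χ', rfl⟩ := Cfsg.Agent.H82.exists_deflate N χ hχN
    rw [Cfsg.Agent.H82.charDegree_inflate] at hχp
    have h' : QuotientGroup.mk' N g ∈ {x : G ⧸ N | ∀ χ : IrrCharacter (G ⧸ N),
        ¬ p ∣ charDegree (χ : G ⧸ N → ℂ) → (χ : G ⧸ N → ℂ) x = (χ : G ⧸ N → ℂ) 1} := by
      rw [hset]; exact h
    have h2 := h' χ' hχp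
    rw [Cfsg.Agent.H82.inflate_apply, Cfsg.Agent.H82.inflate_apply, QuotientGroup.mk_one]
    exact h2

/-- Relative form of `eq_of_le_commutator_sylow`. -/
theorem eq_of_coprime_relIndex {G : Type*} [Group G] [Finite G] {r : ℕ} [Fact r.Prime]
    (N : Subgroup G) [N.Normal]
    (hO : ∀ T : Subgroup (G ⧸ N), T.Normal → (Nat.card T).Coprime r → T = ⊥)
    (R : Sylow r (G ⧸ N)) (K L : Subgroup G) [hLn : L.Normal]
    (hK : K = (⁅(R : Subgroup (G ⧸ N)), (R : Subgroup (G ⧸ N))⁆).normalCore.comap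
      (QuotientGroup.mk' N))
    (hKL : K ≤ L) (hidx : (K.relIndex L).Coprime r) : L = K := by
  classical
  obtain ⟨J, hJ⟩ : ∃ J : Subgroup (G ⧸ N),
      J = (⁅(R : Subgroup (G ⧸ N)), (R : Subgroup (G ⧸ N))⁆).normalCore := ⟨_, rfl⟩
  rw [← hJ] at hK
  haveI hJn : J.Normal := by rw [hJ]; exact Subgroup.normalCore_normal _
  haveI hLm : (L.map (QuotientGroup.mk' N)).Normal :=
    Subgroup.Normal.map hLn _ (QuotientGroup.mk'_surjective N)
  have hJL : J ≤ L.map (QuotientGroup.mk' N) := by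
    intro x hx
    obtain ⟨g, rfl⟩ := QuotientGroup.mk'_surjective N x
    exact ⟨g, hKL (by rw [hK]; exact hx), rfl⟩
  have hrel : J.relIndex (L.map (QuotientGroup.mk' N)) = K.relIndex L := by
    rw [hK, Subgroup.relIndex_comap]
  have hJR : J ≤ ⁅(R : Subgroup (G ⧸ N)), (R : Subgroup (G ⧸ N))⁆ := by
    rw [hJ]; exact Subgroup.normalCore_le _
  have h1 := eq_of_le_commutator_sylow hO R J (L.map (QuotientGroup.mk' N)) hJR hJL
    (by rw [hrel]; exact hidx)
  apply le_antisymm _ hKL
  intro x hx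
  rw [hK]
  show QuotientGroup.mk' N x ∈ J
  rw [← h1]
  exact ⟨x, hx, rfl⟩

/-- **Navarro–Rizo–Schaeffer Fry–Vallejo, solvable case**: if `G` is `p`-solvable and
`q`-solvable, `p ∣ |G|`, and the height-zero characters of the principal `p`-block and of the
principal `q`-block coincide, then `p = q`. -/
theorem princ_blocks_prime_eq {G : Type*} [Group G] [Finite G] (p q : ℕ) [Fact p.Prime]
    [Fact q.Prime] (hp : p ∣ Nat.card G) (hps : IsPSolvable p G) (hqs : IsPSolvable q G)
    (Mp Mq : Ideal AlgInt) (hMp : IsPModular p Mp) (hMq : IsPModular q Mq)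
    (h : ∀ χ : IrrCharacter G, (χ ∈ principalBlock Mp G ∧ ¬ p ∣ charDegree (χ : G → ℂ)) ↔
      (χ ∈ principalBlock Mq G ∧ ¬ q ∣ charDegree (χ : G → ℂ))) : p = q := by
  classical
  by_contra hpq
  have hpP : p.Prime := Fact.out
  have hqP : q.Prime := Fact.out
  haveI hNp : (pPrimeCore p G).Normal := Cfsg.Agent.H80.pPrimeCore_normal p G
  haveI hNq : (pPrimeCore q G).Normal := Cfsg.Agent.H80.pPrimeCore_normal q G
  have hOp : ∀ T : Subgroup (G ⧸ pPrimeCore p G), T.Normal → (Nat.card T).Coprime p → T = ⊥ := by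
    intro T hT hTc
    have h1 := Cfsg.Agent.H80.le_pPrimeCore p T hT hTc
    rw [Cfsg.Agent.H80.pPrimeCore_quotient_eq_bot] at h1
    exact le_bot_iff.mp h1
  have hOq : ∀ T : Subgroup (G ⧸ pPrimeCore q G), T.Normal → (Nat.card T).Coprime q → T = ⊥ := by
    intro T hT hTc
    have h1 := Cfsg.Agent.H80.le_pPrimeCore q T hT hTc
    rw [Cfsg.Agent.H80.pPrimeCore_quotient_eq_bot] at h1
    exact le_bot_iff.mp h1
  obtain ⟨P⟩ : Nonempty (Sylow p (G ⧸ pPrimeCore p G)) := inferInstance
  obtain ⟨Q⟩ : Nonempty (Sylow q (G ⧸ pPrimeCore q G)) := inferInstance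
  obtain ⟨K, hKdef⟩ : ∃ K : Subgroup G, K = (⁅(P : Subgroup (G ⧸ pPrimeCore p G)),
      (P : Subgroup (G ⧸ pPrimeCore p G))⁆).normalCore.comap
        (QuotientGroup.mk' (pPrimeCore p G)) := ⟨_, rfl⟩
  have hKq : K = (⁅(Q : Subgroup (G ⧸ pPrimeCore q G)),
      (Q : Subgroup (G ⧸ pPrimeCore q G))⁆).normalCore.comap
        (QuotientGroup.mk' (pPrimeCore q G)) := by
    ext g
    rw [hKdef, Subgroup.mem_comap, Subgroup.mem_comap,
      ← ker_deflate_iff p (pPrimeCore p G) hOp P g, ← ker_deflate_iff q (pPrimeCore q G) hOq Q g]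
    constructor
    · intro hg χ hχN hχq
      have h1 := (h χ).mpr
        ⟨(mem_principalBlock_iff_of_isPSolvable q Mq hMq hqs χ).mpr hχN, hχq⟩
      exact hg χ ((mem_principalBlock_iff_of_isPSolvable p Mp hMp hps χ).mp h1.1) h1.2
    · intro hg χ hχN hχp
      have h1 := (h χ).mp
        ⟨(mem_principalBlock_iff_of_isPSolvable p Mp hMp hps χ).mpr hχN, hχp⟩
      exact hg χ ((mem_principalBlock_iff_of_isPSolvable q Mq hMq hqs χ).mp h1.1) h1.2
  haveI hKn : K.Normal := by
    rw [hKdef]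
    exact (Subgroup.normalCore_normal _).comap _
  obtain ⟨n, H, h0, hlast, hmono, hnorm, hstep⟩ := hps
  have hall : ∀ i : Fin (n + 1), H i ≤ K := by
    intro i
    induction i using Fin.induction with
    | zero => rw [h0]; exact bot_le
    | succ i ih =>
      haveI := hnorm i.succ
      have hdvd : K.relIndex (K ⊔ H i.succ) ∣ (H i.castSucc).relIndex (H i.succ) := by
        rw [Subgroup.relIndex_sup_left]
        exact Subgroup.relIndex_dvd_of_le_left _ ih
      have hL : K ⊔ H i.succ = K := by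
        rcases hstep i with ⟨m, hm⟩ | hc
        · rw [hm] at hdvd
          have hcq : (K.relIndex (K ⊔ H i.succ)).Coprime q := by
            have h2 : (p ^ m).Coprime q :=
              Nat.Coprime.pow_left m ((Nat.coprime_primes hpP hqP).mpr hpq)
            exact Nat.Coprime.coprime_dvd_left hdvd h2
          exact eq_of_coprime_relIndex (pPrimeCore q G) hOq Q K (K ⊔ H i.succ) hKq
            le_sup_left hcq
        · have hcp : (K.relIndex (K ⊔ H i.succ)).Coprime p :=
            Nat.Coprime.coprime_dvd_left hdvd hc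
          exact eq_of_coprime_relIndex (pPrimeCore p G) hOp P K (K ⊔ H i.succ) hKdef
            le_sup_left hcp
      rw [← hL]; exact le_sup_right
  have hKtop : K = ⊤ := by
    rw [eq_top_iff, ← hlast]; exact hall _
  have hJtop : (⁅(P : Subgroup (G ⧸ pPrimeCore p G)),
      (P : Subgroup (G ⧸ pPrimeCore p G))⁆).normalCore = ⊤ := by
    rw [eq_top_iff]
    intro x _
    obtain ⟨g, rfl⟩ := QuotientGroup.mk'_surjective _ x
    have h1 : g ∈ K := by rw [hKtop]; exact Subgroup.mem_top _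
    rw [hKdef] at h1
    exact h1
  have hcomm : ⁅(P : Subgroup (G ⧸ pPrimeCore p G)), (P : Subgroup (G ⧸ pPrimeCore p G))⁆ = ⊤ := by
    rw [eq_top_iff, ← hJtop]; exact Subgroup.normalCore_le _
  have hPtop : (P : Subgroup (G ⧸ pPrimeCore p G)) = ⊤ := by
    rw [eq_top_iff, ← hcomm]; exact Subgroup.commutator_le_self _
  have hpg : IsPGroup p (G ⧸ pPrimeCore p G) := by
    intro x
    obtain ⟨k, hk⟩ := P.2 ⟨x, by rw [hPtop]; exact Subgroup.mem_top _⟩
    exact ⟨k, by simpa using congrArg Subtype.val hk⟩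
  have hcf := Cfsg.Agent.H3.commutator_le_frattini hpg
  have hc2 : commutator (G ⧸ pPrimeCore p G) = ⊤ := by
    rw [commutator_def]
    rw [hPtop] at hcomm
    exact hcomm
  have hft : frattini (G ⧸ pPrimeCore p G) = ⊤ := by
    rw [eq_top_iff, ← hc2]; exact hcf
  have hbt : (⊥ : Subgroup (G ⧸ pPrimeCore p G)) = ⊤ :=
    frattini_nongenerating (by rw [hft, bot_sup_eq])
  have hNtop : pPrimeCore p G = ⊤ := by
    rw [eq_top_iff]
    intro g _
    have h1 : (QuotientGroup.mk' (pPrimeCore p G) g) ∈ (⊥ : Subgroup (G ⧸ pPrimeCore p G)) := by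
      rw [hbt]; exact Subgroup.mem_top _
    rw [Subgroup.mem_bot] at h1
    exact (QuotientGroup.eq_one_iff g).mp h1
  have hcop := Cfsg.Agent.H80.pPrimeCore_coprime p G
  rw [hNtop, Subgroup.card_top] at hcop
  exact (Nat.Prime.coprime_iff_not_dvd hpP).mp hcop.symm hp

end Cfsg.Agent.H83
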