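import Mathlib
import Cfsg.Agent.H83.RealNormalizer

/-!
# Group theory for the real odd-degree count (helper83)

* `normal_pgroup_le_sylow`: normal `p`-subgroups lie in every Sylow `p`-subgroup.
* `exists_normal_abelian_pgroup`: a nontrivial finite solvable group has a nontrivial normal
  abelian subgroup of prime exponent.
* `sylow_eq_top_of_core_central`: if a finite solvable group has no nontrivial normal subgroup of
  odd order and `O_2(G)` is central, then `G` is a `2`-group.
* `exists_preimage_mem_normalizer`: normalizers of Sylow subgroups map onto normalizers of their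
  images.
-/

set_option autoImplicit false
set_option linter.unusedSectionVars false
set_option linter.style.haveILetI false

namespace Cfsg.Agent.H83

open scoped commutatorElement

universe u

section GroupTheory

variable {G : Type u} [Group G]

theorem normal_pgroup_le_sylow [Finite G] {p : ℕ} [Fact p.Prime] (P : Sylow p G)
    (N : Subgroup G) [N.Normal] (hN : IsPGroup p N) : N ≤ (P : Subgroup G) := by
  have h1 : IsPGroup p ((P : Subgroup G) ⊔ N : Subgroup G) :=
    P.isPGroup'.to_sup_of_normal_right hN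
  have h2 := P.is_maximal' h1 le_sup_left
  rw [← h2]; exact le_sup_right

/-- A nontrivial finite solvable group has a nontrivial normal abelian subgroup of prime
exponent. -/
theorem exists_normal_abelian_pgroup [Finite G] [hs : Group.IsSolvable G] [Nontrivial G] :
    ∃ (N : Subgroup G) (q : ℕ), N.Normal ∧ N ≠ ⊥ ∧ q.Prime ∧
      (∀ a ∈ N, ∀ b ∈ N, a * b = b * a) ∧ (∀ a ∈ N, a ^ q = 1) := by
  classical
  have hex : ∃ n, derivedSeries G n = ⊥ := hs.solvable
  have h0 : derivedSeries G (Nat.find hex) = ⊥ := Nat.find_spec hex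
  have hn₀ : Nat.find hex ≠ 0 := by
    intro h
    rw [h, derivedSeries_zero] at h0
    exact top_ne_bot h0
  obtain ⟨k, hk⟩ := Nat.exists_eq_succ_of_ne_zero hn₀
  have hA : derivedSeries G k ≠ ⊥ := Nat.find_min hex (by omega : k < Nat.find hex)
  haveI hAn : (derivedSeries G k).Normal := derivedSeries_normal G k
  have hAc : ∀ a ∈ derivedSeries G k, ∀ b ∈ derivedSeries G k, a * b = b * a := by
    intro a ha b hb
    have h1 : ⁅a, b⁆ ∈ ⁅derivedSeries G k, derivedSeries G k⁆ :=
      Subgroup.commutator_mem_commutator ha hb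
    rw [← derivedSeries_succ] at h1
    have hk' : k + 1 = Nat.find hex := hk.symm
    rw [hk', h0, Subgroup.mem_bot, commutatorElement_def] at h1
    calc a * b = (a * b * a⁻¹ * b⁻¹) * (b * a) := by group
      _ = b * a := by rw [h1, one_mul]
  have hcard : Nat.card (derivedSeries G k) ≠ 1 := fun h => hA (Subgroup.card_eq_one.mp h)
  obtain ⟨q, hq, hqd⟩ := Nat.exists_prime_and_dvd hcard
  haveI : Fact q.Prime := ⟨hq⟩
  obtain ⟨x, hx⟩ := exists_prime_orderOf_dvd_card' q hqd
  let N : Subgroup G :=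
    { carrier := {a | a ∈ derivedSeries G k ∧ a ^ q = 1}
      one_mem' := ⟨Subgroup.one_mem _, one_pow q⟩
      mul_mem' := by
        rintro a b ⟨ha, ha'⟩ ⟨hb, hb'⟩
        refine ⟨Subgroup.mul_mem _ ha hb, ?_⟩
        have hc : Commute a b := hAc a ha b hb
        rw [hc.mul_pow, ha', hb', one_mul]
      inv_mem' := by
        rintro a ⟨ha, ha'⟩
        exact ⟨Subgroup.inv_mem _ ha, by rw [inv_pow, ha', inv_one]⟩ }
  refine ⟨N, q, ⟨?_⟩, ?_, hq, ?_, ?_⟩
  · rintro a ⟨ha, ha'⟩ g
    refine ⟨hAn.conj_mem a ha g, ?_⟩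
    rw [conj_pow, ha']; group
  · intro hN
    have hxN : (x : G) ∈ N := by
      refine ⟨x.2, ?_⟩
      have h1 : x ^ q = 1 := by rw [← hx]; exact pow_orderOf_eq_one x
      have h2 := congrArg Subtype.val h1
      simpa using h2
    rw [hN, Subgroup.mem_bot] at hxN
    have hx1 : x = 1 := Subtype.ext hxN
    rw [hx1, orderOf_one] at hx
    exact hq.one_lt.ne hx
  · rintro a ⟨ha, -⟩ b ⟨hb, -⟩
    exact hAc a ha b hb
  · rintro a ⟨-, ha'⟩
    exact ha'

/-- Normalizers of Sylow subgroups map onto the normalizers of their images. -/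
theorem exists_preimage_mem_normalizer [Finite G] {H : Type u} [Group H] {p : ℕ}
    [Fact p.Prime] (f : G →* H) (hf : Function.Surjective f) (P : Sylow p G) (y : H)
    (hy : y ∈ Subgroup.normalizer (((P : Subgroup G).map f : Subgroup H) : Set H)) :
    ∃ h ∈ Subgroup.normalizer ((P : Subgroup G) : Set G), f h = y := by
  obtain ⟨y₀, rfl⟩ := hf y
  haveI : f.ker.Normal := MonoidHom.normal_ker f
  have hy' : ∀ s ∈ (P : Subgroup G), y₀ * s * y₀⁻¹ ∈ (P : Subgroup G) ⊔ f.ker := by
    intro s hs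
    have h1 : f y₀ * f s * (f y₀)⁻¹ ∈ (P : Subgroup G).map f :=
      (Subgroup.mem_normalizer_iff.mp hy (f s)).mp (Subgroup.mem_map_of_mem f hs)
    obtain ⟨s', hs', hs'e⟩ := h1
    have h2 : y₀ * s * y₀⁻¹ * s'⁻¹ ∈ f.ker := by
      rw [MonoidHom.mem_ker, map_mul, map_mul, map_mul, map_inv, map_inv, hs'e]
      group
    have h3 : y₀ * s * y₀⁻¹ = (y₀ * s * y₀⁻¹ * s'⁻¹) * s' := by group
    rw [h3]
    exact Subgroup.mul_mem _ (Subgroup.mem_sup_right h2) (Subgroup.mem_sup_left hs')
  obtain ⟨c, hc, hcy⟩ :=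
    exists_mul_mem_normalizer p P ((P : Subgroup G) ⊔ f.ker) le_sup_left y₀ hy'
  have h1 : c ∈ (((P : Subgroup G) ⊔ f.ker : Subgroup G) : Set G) := hc
  rw [Subgroup.mul_normal] at h1
  obtain ⟨s, hs, m, hm, rfl⟩ := Set.mem_mul.mp h1
  refine ⟨m * y₀, ?_, ?_⟩
  · have h2 : s⁻¹ ∈ Subgroup.normalizer ((P : Subgroup G) : Set G) :=
      Subgroup.le_normalizer (Subgroup.inv_mem _ hs)
    have h3 := Subgroup.mul_mem _ h2 hcy
    have h4 : s⁻¹ * (s * m * y₀) = m * y₀ := by group
    rwa [h4] at h3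
  · rw [map_mul, MonoidHom.mem_ker.mp hm, one_mul]

/-- The image of the normalizer lies in the normalizer of the image. -/
theorem map_mem_normalizer {H : Type u} [Group H] (f : G →* H) (S : Subgroup G) (g : G)
    (hg : g ∈ Subgroup.normalizer (S : Set G)) :
    f g ∈ Subgroup.normalizer ((S.map f : Subgroup H) : Set H) := by
  rw [Subgroup.mem_normalizer_iff]
  intro h
  constructor
  · rintro ⟨s, hs, rfl⟩
    exact ⟨g * s * g⁻¹, (Subgroup.mem_normalizer_iff.mp hg s).mp hs, by simp⟩
  · rintro ⟨s, hs, hse⟩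
    refine ⟨g⁻¹ * s * g, ?_, ?_⟩
    · have := (Subgroup.mem_normalizer_iff.mp (Subgroup.inv_mem _ hg) s).mp hs
      simpa using this
    · rw [map_mul, map_mul, map_inv, hse]; group

/-- If a finite solvable group has no nontrivial normal subgroup of odd order and the largest
normal `2`-subgroup is central, the group is a `2`-group. -/
theorem sylow_eq_top_of_core_central [Finite G] [Group.IsSolvable G] (P : Sylow 2 G)
    (hno : ∀ M : Subgroup G, M.Normal → Odd (Nat.card M) → M = ⊥)
    (hc : (P : Subgroup G).normalCore ≤ Subgroup.center G) : (P : Subgroup G) = ⊤ := by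
  classical
  obtain ⟨W, hWdef⟩ : ∃ W : Subgroup G, W = (P : Subgroup G).normalCore := ⟨_, rfl⟩
  rw [← hWdef] at hc
  haveI hWn : W.Normal := by rw [hWdef]; exact Subgroup.normalCore_normal _
  have hWP : W ≤ (P : Subgroup G) := by rw [hWdef]; exact Subgroup.normalCore_le _
  have hW2 : IsPGroup 2 W := P.isPGroup'.to_le hWP
  by_contra hP
  have hWtop : W ≠ ⊤ := by
    intro h; apply hP; rw [eq_top_iff, ← h]; exact hWP
  haveI : Nontrivial (G ⧸ W) := by
    obtain ⟨g, hg⟩ : ∃ g : G, g ∉ W := by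
      by_contra hcon
      push Not at hcon
      exact hWtop (eq_top_iff.mpr fun g _ => hcon g)
    refine ⟨⟨(QuotientGroup.mk g : G ⧸ W), 1, ?_⟩⟩
    intro h
    exact hg ((QuotientGroup.eq_one_iff g).mp h)
  obtain ⟨Nb, q, hNbn, hNb, hq, hNbc, hNbq⟩ := exists_normal_abelian_pgroup (G := G ⧸ W)
  haveI := hNbn
  obtain ⟨B, hBdef⟩ : ∃ B : Subgroup G, B = Nb.comap (QuotientGroup.mk' W) := ⟨_, rfl⟩
  haveI hBn : B.Normal := by rw [hBdef]; exact hNbn.comap _
  have hmemB : ∀ b : G, b ∈ B ↔ (QuotientGroup.mk b : G ⧸ W) ∈ Nb := by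
    intro b; rw [hBdef]; exact Subgroup.mem_comap
  obtain ⟨x, hxB, hxW⟩ : ∃ x ∈ B, x ∉ W := by
    by_contra hcon
    push Not at hcon
    apply hNb
    rw [eq_bot_iff]
    intro y hy
    obtain ⟨x, rfl⟩ := QuotientGroup.mk_surjective y
    rw [Subgroup.mem_bot]
    exact (QuotientGroup.eq_one_iff x).mpr (hcon x ((hmemB x).mpr hy))
  haveI : Fact (Nat.Prime 2) := ⟨Nat.prime_two⟩
  by_cases hq2 : q = 2
  · subst hq2
    have hNb2 : IsPGroup 2 Nb := by
      intro y
      refine ⟨1, ?_⟩
      apply Subtype.ext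
      simpa using hNbq y y.2
    have hB2 : IsPGroup 2 B := by
      rw [hBdef]
      exact hNb2.comap_of_ker_isPGroup (QuotientGroup.mk' W)
        (by rw [QuotientGroup.ker_mk']; exact hW2)
    have hBP : B ≤ (P : Subgroup G) := normal_pgroup_le_sylow P B hB2
    have hBW : B ≤ W := by rw [hWdef]; exact Subgroup.normal_le_normalCore.mpr hBP
    exact hxW (hBW hxB)
  · have hqodd : Odd q := hq.odd_of_ne_two hq2
    have hmkq : ∀ b ∈ B, b ^ q ∈ W := by
      intro b hb
      have h1 := hNbq _ ((hmemB b).mp hb)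
      rw [← QuotientGroup.mk_pow] at h1
      exact (QuotientGroup.eq_one_iff _).mp h1
    obtain ⟨j, hj⟩ := IsPGroup.iff_card.mp hW2
    have hcop : Nat.Coprime q (2 ^ j) :=
      Nat.Coprime.pow_right j (Nat.coprime_two_right.mpr hqodd)
    have hW2' : ∀ c ∈ W, c ^ 2 ^ j = 1 := by
      intro c hcW
      have h1 : (⟨c, hcW⟩ : W) ^ Nat.card W = 1 := pow_card_eq_one'
      rw [hj] at h1
      simpa using congrArg Subtype.val h1
    have hBc : ∀ a ∈ B, ∀ b ∈ B, a * b = b * a := by
      intro a ha b hb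
      have hcW : a * b * a⁻¹ * b⁻¹ ∈ W := by
        apply (QuotientGroup.eq_one_iff _).mp
        have h1 := hNbc _ ((hmemB a).mp ha) _ ((hmemB b).mp hb)
        rw [QuotientGroup.mk_mul, QuotientGroup.mk_mul, QuotientGroup.mk_mul,
          QuotientGroup.mk_inv, QuotientGroup.mk_inv, h1]
        group
      obtain ⟨c, hcdef⟩ : ∃ c : G, c = a * b * a⁻¹ * b⁻¹ := ⟨_, rfl⟩
      rw [← hcdef] at hcW
      have hcz : c ∈ Subgroup.center G := hc hcW
      have hbqz : b ^ q ∈ Subgroup.center G := hc (hmkq b hb)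
      have h1 : a * b * a⁻¹ = c * b := by rw [hcdef]; group
      have hcomm : Commute c b := (Subgroup.mem_center_iff.mp hcz b).symm
      have h2 : a * b ^ q * a⁻¹ = c ^ q * b ^ q := by
        rw [← conj_pow, h1]
        exact hcomm.mul_pow q
      have h3 : a * b ^ q * a⁻¹ = b ^ q := by
        have := Subgroup.mem_center_iff.mp hbqz a
        rw [this]; group
      have h4 : c ^ q = 1 := by
        rw [h3] at h2
        exact (mul_eq_right.mp h2.symm)
      have h5 : orderOf c ∣ q := orderOf_dvd_of_pow_eq_one h4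
      have h6 : orderOf c ∣ 2 ^ j := orderOf_dvd_of_pow_eq_one (hW2' c hcW)
      have h7 : orderOf c = 1 := (hcop.coprime_dvd_left h5).eq_one_of_dvd h6
      have hc1 : c = 1 := orderOf_eq_one_iff.mp h7
      calc a * b = c * (b * a) := by rw [hcdef]; group
        _ = b * a := by rw [hc1, one_mul]
    let Q₀ : Subgroup G :=
      { carrier := {b | b ∈ B ∧ b ^ q = 1}
        one_mem' := ⟨Subgroup.one_mem _, one_pow q⟩
        mul_mem' := by
          rintro a b ⟨ha, ha'⟩ ⟨hb, hb'⟩
          refine ⟨Subgroup.mul_mem _ ha hb, ?_⟩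
          have hcm : Commute a b := hBc a ha b hb
          rw [hcm.mul_pow, ha', hb', one_mul]
        inv_mem' := by
          rintro a ⟨ha, ha'⟩
          exact ⟨Subgroup.inv_mem _ ha, by rw [inv_pow, ha', inv_one]⟩ }
    have hQn : Q₀.Normal := by
      refine ⟨?_⟩
      rintro a ⟨ha, ha'⟩ g
      refine ⟨hBn.conj_mem a ha g, ?_⟩
      rw [conj_pow, ha']; group
    haveI : Fact q.Prime := ⟨hq⟩
    have hQp : IsPGroup q Q₀ := by
      intro y
      refine ⟨1, ?_⟩
      apply Subtype.ext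
      simpa using y.2.2
    have hQodd : Odd (Nat.card Q₀) := by
      obtain ⟨k, hk⟩ := IsPGroup.iff_card.mp hQp
      rw [hk]; exact hqodd.pow
    have hQbot := hno Q₀ hQn hQodd
    have hyQ : x ^ 2 ^ j ∈ Q₀ := by
      refine ⟨Subgroup.pow_mem _ hxB _, ?_⟩
      rw [← pow_mul, mul_comm, pow_mul]
      exact hW2' _ (hmkq x hxB)
    rw [hQbot, Subgroup.mem_bot] at hyQ
    have h8 : orderOf (QuotientGroup.mk x : G ⧸ W) ∣ q := by
      apply orderOf_dvd_of_pow_eq_one
      exact hNbq _ ((hmemB x).mp hxB)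
    have h9 : orderOf (QuotientGroup.mk x : G ⧸ W) ∣ 2 ^ j := by
      apply orderOf_dvd_of_pow_eq_one
      rw [← QuotientGroup.mk_pow, hyQ]
      rfl
    have h10 : orderOf (QuotientGroup.mk x : G ⧸ W) = 1 :=
      (hcop.coprime_dvd_left h8).eq_one_of_dvd h9
    exact hxW ((QuotientGroup.eq_one_iff x).mp (orderOf_eq_one_iff.mp h10))

end GroupTheory

end Cfsg.Agent.H83
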