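import Cfsg.Agent.H26.SE2

set_option autoImplicit false

namespace Cfsg.Agent.H83.SeT

open Subgroup

variable {G : Type*} [Group G] [Finite G]

/-- a strongly embedded subgroup has an involution outside it -/
theorem se_exists_inv_out {H : Subgroup G} (hH : Cfsg.IsStronglyEmbedded H) :
    ∃ u : G, orderOf u = 2 ∧ u ∉ H := by
  obtain ⟨t, ht, htH⟩ := Cfsg.Agent.H26.se_exists_inv hH
  have hne : ∃ g : G, g ∉ H := by
    by_contra hcon
    push_neg at hcon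
    exact hH.1 (eq_top_iff.mpr fun g _ => hcon g)
  obtain ⟨g, hg⟩ := hne
  refine ⟨g * t * g⁻¹, by rw [Cfsg.Agent.H26.orderOf_conj_eq]; exact ht, fun hu => hg ?_⟩
  -- `g * t * g⁻¹ ∈ H` and `g⁻¹ * (g t g⁻¹) * g = t ∈ H`
  apply Cfsg.Agent.H26.se_mem_of_inv_mem_inter hH
    (by rw [Cfsg.Agent.H26.orderOf_conj_eq]; exact ht : orderOf (g * t * g⁻¹) = 2) hu
  have : g⁻¹ * (g * t * g⁻¹) * g = t := by group
  rw [this]; exact htH

/-- (G2): a strongly embedded subgroup is transitive on its involutions. -/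
theorem se_trans {H : Subgroup G} (hH : Cfsg.IsStronglyEmbedded H) {s t : G}
    (hs : orderOf s = 2) (hsH : s ∈ H) (ht : orderOf t = 2) (htH : t ∈ H) :
    ∃ h ∈ H, h * s * h⁻¹ = t := by
  obtain ⟨u, hu, huH⟩ := se_exists_inv_out hH
  obtain ⟨d, hd, hdst⟩ := Cfsg.Agent.H26.se_D_trans hH hu huH hs hsH ht htH
  exact ⟨d, (Subgroup.mem_inf.mp hd).1, hdst⟩

/-- (G2), `MulAut.conj` form. -/
theorem se_trans' {H : Subgroup G} (hH : Cfsg.IsStronglyEmbedded H) {s t : G}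
    (hs : orderOf s = 2) (hsH : s ∈ H) (ht : orderOf t = 2) (htH : t ∈ H) :
    ∃ h ∈ H, MulAut.conj h s = t := by
  obtain ⟨h, hh, e⟩ := se_trans hH hs hsH ht htH
  exact ⟨h, hh, by simpa [MulAut.conj_apply] using e⟩

/-- (G2), element-squares form: `s ≠ 1`, `s * s = 1`. -/
theorem se_trans_sq {H : Subgroup G} (hH : Cfsg.IsStronglyEmbedded H) {s t : G}
    (hs1 : s ≠ 1) (hs : s * s = 1) (hsH : s ∈ H) (ht1 : t ≠ 1) (ht : t * t = 1) (htH : t ∈ H) :
    ∃ h ∈ H, h * s * h⁻¹ = t :=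
  se_trans hH (Cfsg.Agent.H26.orderOf_eq_two_of hs hs1) hsH
    (Cfsg.Agent.H26.orderOf_eq_two_of ht ht1) htH

end Cfsg.Agent.H83.SeT
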